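import Cfsg.Agent.MaxSub.OrthGen

/-!
The sum of squares form: reflections, monomial elements, and the set of unit vectors whose
reflections lie in a given overgroup of the monomial stabiliser (helper24).
-/

set_option autoImplicit false
set_option linter.unusedSectionVars false

namespace Cfsg.Agent.ODec24

open QuadraticMap Cfsg.Agent.UnitaryOrthogonal
open scoped Matrix

/-- A prime field of odd characteristic. -/
structure PrimeOdd (F : Type*) [Field F] (p : ℕ) : Prop where
  prime : p.Prime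
  char : CharP F p
  three_le : 3 ≤ p
  scal : ∀ t : F, ∃ m : ℕ, (m : F) = t

section Field

variable {F : Type*} [Field F] {p : ℕ}

theorem PrimeOdd.two_ne (P : PrimeOdd F p) : (2 : F) ≠ 0 := by
  haveI := P.char
  intro h
  have h' : p ∣ 2 := (CharP.cast_eq_zero_iff F p 2).mp (by exact_mod_cast h)
  have := Nat.le_of_dvd (by norm_num) h'
  have := P.three_le
  omega

theorem PrimeOdd.pow_eq (P : PrimeOdd F p) (t : F) : t ^ p = t := by
  haveI := P.char
  haveI := Fact.mk P.prime
  obtain ⟨m, rfl⟩ := P.scal t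
  exact map_natCast (frobenius F p) m

theorem primeOdd_of_card [Fintype F] (hprime : (Fintype.card F).Prime)
    (hodd : Odd (Fintype.card F)) : PrimeOdd F (Fintype.card F) := by
  haveI := Fact.mk hprime
  obtain ⟨p, hc⟩ := CharP.exists F
  haveI := hc
  obtain ⟨k, hp, hk⟩ := FiniteField.card F p
  have hpq : p = Fintype.card F := by
    rw [hk] at hprime ⊢
    have h1 := Nat.Prime.eq_one_of_pow hprime
    rw [h1, pow_one]
  subst hpq
  refine ⟨hprime, hc, ?_, fun t => ?_⟩
  · have := hprime.two_le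
    obtain ⟨j, hj⟩ := hodd
    omega
  · obtain ⟨x, rfl⟩ := (ZMod.castHom_bijective F (n := Fintype.card F) rfl).2 t
    exact ⟨x.val, by rw [← map_natCast (ZMod.castHom dvd_rfl F), ZMod.natCast_zmod_val]⟩

end Field

section General

variable {F : Type*} [Field F] {V : Type*} [AddCommGroup V] [Module F V] {Q : QuadraticForm F V}

theorem eich_pow {u z : V} (hu : Q u = 0) (hz : polar Q u z = 0) (m : ℕ) :
    eich Q u z ^ m = eich Q u ((m : F) • z) := by
  induction m with
  | zero => rw [pow_zero, Nat.cast_zero, zero_smul, eich_zero]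
  | succ m ih =>
    rw [pow_succ, ih, eich_mul hu (by rw [polar_smul_right, hz, smul_zero]) hz, Nat.cast_succ,
      add_smul, one_smul]

theorem eich_smul_mem {p : ℕ} (P : PrimeOdd F p) {H : Subgroup (orth Q)} {u z : V} (hu : Q u = 0)
    (hz : polar Q u z = 0) (h : eich Q u z ∈ H) (t : F) : eich Q u (t • z) ∈ H := by
  obtain ⟨m, rfl⟩ := P.scal t
  rw [← eich_pow hu hz]
  exact pow_mem h m

/-- The determinant. -/
noncomputable def dt (Q : QuadraticForm F V) : orth Q →* Fˣ :=
  LinearEquiv.det.comp (orth Q).subtype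

theorem dt_eich {p : ℕ} (P : PrimeOdd F p) (u z : V) : dt Q (eich Q u z) = 1 := by
  by_cases h : Q u = 0 ∧ polar Q u z = 0
  · have hp : eich Q u z ^ p = 1 := by
      haveI := P.char
      rw [eich_pow h.1 h.2, CharP.cast_eq_zero, zero_smul, eich_zero]
    have h1 := congrArg (fun g => ((dt Q g : Fˣ) : F)) hp
    simp only [map_pow, map_one, Units.val_pow_eq_pow_val, Units.val_one] at h1
    rw [P.pow_eq] at h1
    exact Units.ext h1
  · rw [eich, dif_neg h, map_one]

end General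

section Reflection

variable {ι : Type} [Fintype ι] [DecidableEq ι] {F : Type*} [Field F]

theorem dt_rf (Q : QuadraticForm F (ι → F)) {a : ι → F} (ha : Q a ≠ 0) :
    dt Q (rf Q a) = -1 := by
  refine Units.ext ?_
  rw [Units.val_neg, Units.val_one]
  show ((LinearEquiv.det (rf Q a).1 : Fˣ) : F) = -1
  rw [LinearEquiv.coe_det, ← LinearMap.det_toMatrix']
  set r : ι → F := fun j => -((Q a)⁻¹ * polar Q a (Pi.single j 1)) with hr
  have e : LinearMap.toMatrix' ((rf Q a).1 : (ι → F) →ₗ[F] ι → F) =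
      1 + Matrix.replicateCol Unit a * Matrix.replicateRow Unit r := by
    ext i j
    rw [LinearMap.toMatrix'_apply, Matrix.add_apply, Matrix.mul_apply]
    show (rf Q a).1 (Pi.single j 1) i = _
    rw [rf_apply]
    simp [hr, Matrix.one_apply, Pi.single_apply]
    ring
  rw [e, Matrix.det_one_add_replicateCol_mul_replicateRow]
  have hsum : r ⬝ᵥ a = -((Q a)⁻¹ * polar Q a a) := by
    conv_rhs => arg 1; arg 2; arg 3; rw [pi_eq_sum_univ' a]
    rw [show polar Q a (∑ j, a j • Pi.single j (1 : F)) = polarBilin Q a (∑ j, a j • Pi.single j (1 : F))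
      from rfl, map_sum, Finset.mul_sum, ← Finset.sum_neg_distrib]
    refine Finset.sum_congr rfl fun j _ => ?_
    simp [hr]
    ring
  rw [hsum, polar_self_eq]
  field_simp
  ring

variable (ι F) in
/-- The sum of squares. -/
noncomputable def sq : QuadraticForm F (ι → F) := weightedSumSquares F (fun _ : ι => (1 : F))

/-- The standard basis. -/
abbrev bv (a : ι) : ι → F := Pi.single a 1

theorem sq_apply (x : ι → F) : sq ι F x = x ⬝ᵥ x := by
  simp [sq, weightedSumSquares_apply, dotProduct]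

theorem polar_sq (x y : ι → F) : polar (sq ι F) x y = 2 * (x ⬝ᵥ y) := by
  simp only [polar, sq_apply, dotProduct, Pi.add_apply, Finset.mul_sum, ← Finset.sum_sub_distrib]
  exact Finset.sum_congr rfl fun i _ => by ring

theorem bv_dot (a : ι) (x : ι → F) : bv a ⬝ᵥ x = x a := by
  simp

theorem dot_bv (a : ι) (x : ι → F) : x ⬝ᵥ bv a = x a := by
  simp

theorem sq_bv (a : ι) : sq ι F (bv a) = 1 := by
  rw [sq_apply, bv_dot]; simp

theorem polarND_sq (h2 : (2 : F) ≠ 0) : PolarND (sq ι F) := fun u hu => funext fun a => by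
  have := hu (bv a)
  rw [polar_sq, dot_bv] at this
  exact (mul_eq_zero.mp this).resolve_left h2

theorem dot_map (g : orth (sq ι F)) (h2 : (2 : F) ≠ 0) (x y : ι → F) :
    g.1 x ⬝ᵥ g.1 y = x ⬝ᵥ y := by
  have h := map_polar g x y
  rw [polar_sq, polar_sq] at h
  exact mul_left_cancel₀ h2 h

theorem dot_smul_self (c : F) (x : ι → F) : (c • x) ⬝ᵥ (c • x) = c * c * (x ⬝ᵥ x) := by
  simp only [dotProduct_smul, smul_dotProduct, smul_eq_mul]; ring

theorem rf_sq_apply (a x : ι → F) :
    (rf (sq ι F) a).1 x = x - (2 * (a ⬝ᵥ x) / (a ⬝ᵥ a)) • a := by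
  rw [rf_apply, polar_sq, sq_apply, div_eq_mul_inv, mul_comm (a ⬝ᵥ a)⁻¹]

theorem rf_unit_apply {a : ι → F} (ha : sq ι F a = 1) (x : ι → F) :
    (rf (sq ι F) a).1 x = x - (2 * (a ⬝ᵥ x)) • a := by
  rw [rf_sq_apply, ← sq_apply, ha, div_one]

theorem rf_bv_apply (a : ι) (x : ι → F) (j : ι) :
    (rf (sq ι F) (bv a)).1 x j = if j = a then -x a else x j := by
  rw [rf_unit_apply (sq_bv a), bv_dot]
  by_cases h : j = a
  · subst h; simp; ring
  · simp [h]

theorem rf_add_apply' (h2 : (2 : F) ≠ 0) {a b : ι} (hab : a ≠ b) (x : ι → F) (j : ι) :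
    (rf (sq ι F) (bv a + bv b)).1 x j = if j = a then -x b else if j = b then -x a else x j := by
  have hq : (bv a + bv b : ι → F) ⬝ᵥ (bv a + bv b) = 2 := by
    simp [hab, hab.symm]; norm_num
  rw [rf_sq_apply, hq, mul_div_cancel_left₀ _ h2, add_dotProduct, bv_dot, bv_dot]
  by_cases h : j = a
  · subst h; simp [hab]
  · by_cases h' : j = b
    · subst h'; simp [hab, hab.symm]
    · simp [h, h']

/-- A cycle on three coordinates, with signs. -/
noncomputable def cyc (a b o : ι) : orth (sq ι F) :=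
  rf (sq ι F) (bv a + bv b) * rf (sq ι F) (bv b + bv o)

theorem cyc_apply (h2 : (2 : F) ≠ 0) {a b o : ι} (hab : a ≠ b) (hbo : b ≠ o) (hao : a ≠ o)
    (x : ι → F) (j : ι) : (cyc (F := F) a b o).1 x j =
      if j = a then x o else if j = b then -x a else if j = o then -x b else x j := by
  rw [cyc, coe_mul_apply, rf_add_apply' h2 hab]
  by_cases ha : j = a
  · subst ha; rw [if_pos rfl, if_pos rfl, rf_add_apply' h2 hbo, if_pos rfl, neg_neg]
  rw [if_neg ha, if_neg ha]
  by_cases hb : j = b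
  · subst hb
    rw [if_pos rfl, if_pos rfl, rf_add_apply' h2 hbo, if_neg hab, if_neg hao]
  rw [if_neg hb, if_neg hb, rf_add_apply' h2 hbo, if_neg hb]

theorem cyc_fix (h2 : (2 : F) ≠ 0) {a b o : ι} (hab : a ≠ b) (hbo : b ≠ o) (hao : a ≠ o)
    {x : ι → F} (ha : x a = 0) (hb : x b = 0) (ho : x o = 0) : (cyc (F := F) a b o).1 x = x :=
  funext fun j => by
    rw [cyc_apply h2 hab hbo hao, ha, hb, ho]
    split_ifs with h1 h2' h3 <;> simp_all

theorem cyc_bv (h2 : (2 : F) ≠ 0) {a b o : ι} (hab : a ≠ b) (hbo : b ≠ o) (hao : a ≠ o) :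
    (cyc (F := F) a b o).1 (bv o) = (bv a : ι → F) := funext fun j => by
  rw [cyc_apply h2 hab hbo hao]
  split_ifs with h1 h2' h3
  · subst h1; simp
  · subst h2'; simp [hao, hab.symm]
  · subst h3; simp [hbo, h1]
  · simp [h1, h3]

/-- The hypotheses on an overgroup of the monomial stabiliser in `Ω`. -/
structure Over (H : Subgroup (orth (sq ι F))) : Prop where
  pair : ∀ a b, rf (sq ι F) (bv a) * rf (sq ι F) (bv b) ∈ H
  swaps : ∀ a b c d, a ≠ b → c ≠ d → a ≠ c → a ≠ d → b ≠ c → b ≠ d →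
    rf (sq ι F) (bv a + bv b) * rf (sq ι F) (bv c + bv d) ∈ H
  det : ∀ g ∈ H, dt (sq ι F) g = 1
  card : 7 ≤ Fintype.card ι

variable {H : Subgroup (orth (sq ι F))}

theorem exists_notMem {n : ℕ} (hn : n < Fintype.card ι) (s : Finset ι) (hs : s.card ≤ n) :
    ∃ x, x ∉ s := by
  obtain ⟨x, -, hx⟩ := Finset.exists_mem_notMem_of_card_lt_card (s := s) (t := Finset.univ)
    (by rw [Finset.card_univ]; omega)
  exact ⟨x, hx⟩

theorem Over.cyc_mem (O : Over H) {a b o : ι} (hab : a ≠ b) (hbo : b ≠ o) (hao : a ≠ o) :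
    cyc a b o ∈ H := by
  have hn := O.card
  obtain ⟨x, hx⟩ := exists_notMem (n := 3) (by omega) {a, b, o} Finset.card_le_three
  obtain ⟨y, hy⟩ := exists_notMem (n := 4) (by omega) {a, b, o, x}
    ((Finset.card_insert_le _ _).trans (Nat.succ_le_succ Finset.card_le_three))
  simp only [Finset.mem_insert, Finset.mem_singleton, not_or] at hx hy
  have h1 := O.swaps a b x y hab (Ne.symm hy.2.2.2) (Ne.symm hx.1) (Ne.symm hy.1)
    (Ne.symm hx.2.1) (Ne.symm hy.2.1)
  have h2 := O.swaps b o x y hbo (Ne.symm hy.2.2.2) (Ne.symm hx.2.1) (Ne.symm hy.2.1)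
    (Ne.symm hx.2.2) (Ne.symm hy.2.2.1)
  have := mul_mem h1 (inv_mem h2)
  rw [_root_.mul_inv_rev, rf_inv, rf_inv] at this
  rwa [cyc, ← mul_one (rf (sq ι F) (bv a + bv b)), ← rf_mul_self (Q := sq ι F) (bv x + bv y),
    mul_assoc, mul_assoc, ← mul_assoc]

variable (H) in
/-- Unit vectors whose reflections lie in the coset of the coordinate reflections. -/
def Rset : Set (ι → F) :=
  {u | sq ι F u = 1 ∧ ∀ c, rf (sq ι F) u * rf (sq ι F) (bv c) ∈ H}

variable (O : Over H)
include O

theorem Over.bv_mem_R (a : ι) : (bv a : ι → F) ∈ Rset H := ⟨sq_bv a, fun c => O.pair a c⟩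

theorem Over.mem_R {u : ι → F} (hu : sq ι F u = 1) {b : ι}
    (h : rf (sq ι F) u * rf (sq ι F) (bv b) ∈ H) : u ∈ Rset H :=
  ⟨hu, fun c => by
    have := mul_mem h (O.pair b c)
    rwa [mul_assoc, ← mul_assoc (rf _ (bv b)), rf_mul_self, one_mul] at this⟩

theorem Over.rf_mul_rf {u v : ι → F} (hu : u ∈ Rset H) (hv : v ∈ Rset H) :
    rf (sq ι F) u * rf (sq ι F) v ∈ H := by
  haveI : Nonempty ι := Fintype.card_pos_iff.mp (by have := O.card; omega)
  obtain ⟨c⟩ := ‹Nonempty ι›
  have := mul_mem (hu.2 c) (inv_mem (hv.2 c))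
  rwa [_root_.mul_inv_rev, rf_inv, rf_inv, mul_assoc, ← mul_assoc (rf _ (bv c)), rf_mul_self,
    one_mul] at this

/-- `R` is closed under its own reflections. -/
theorem Over.refl_mem_R {u v : ι → F} (hu : u ∈ Rset H) (hv : v ∈ Rset H) :
    (rf (sq ι F) u).1 v ∈ Rset H := by
  refine ⟨by rw [map_form, hv.1], fun c => ?_⟩
  rw [← conj_rf]
  have := mul_mem (O.rf_mul_rf hu hv) (hu.2 c)
  rwa [rf_inv, mul_assoc (rf (sq ι F) u * rf (sq ι F) v)]

theorem Over.flip_mem_R {u : ι → F} (hu : u ∈ Rset H) (a : ι) :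
    (rf (sq ι F) (bv a)).1 u ∈ Rset H :=
  O.refl_mem_R (O.bv_mem_R a) hu

theorem Over.neg_mem_R {u : ι → F} (hu : u ∈ Rset H) : -u ∈ Rset H := by
  refine ⟨by rw [QuadraticMap.map_neg, hu.1], fun c => ?_⟩
  rw [← neg_one_smul F u, rf_smul (neg_ne_zero.mpr one_ne_zero)]
  exact hu.2 c

/-- An element of `H` carrying a coordinate vector to a multiple of one preserves `R`. -/
theorem Over.map_mem_R {g : orth (sq ι F)} (hg : g ∈ H) {a b : ι} {s : F}
    (hb : g.1 (bv b) = s • bv a) {u : ι → F} (hu : u ∈ Rset H) : g.1 u ∈ Rset H := by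
  have hs : s ≠ 0 := fun h0 => by
    have h := map_form g (bv b : ι → F)
    rw [hb, h0, zero_smul, QuadraticMap.map_zero, sq_bv] at h
    exact zero_ne_one h
  refine O.mem_R (by rw [map_form, hu.1]) (b := a) ?_
  rw [← rf_smul hs (bv a), ← hb, ← conj_rf, ← conj_rf]
  have := mul_mem (mul_mem hg (hu.2 b)) (inv_mem hg)
  simpa [mul_assoc] using this

/-- Moving one coordinate vector by a three-cycle keeps `R`. -/
theorem Over.cyc_mem_R (h2 : (2 : F) ≠ 0) {a b o : ι} (hab : a ≠ b) (hbo : b ≠ o) (hao : a ≠ o)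
    {u : ι → F} (hu : u ∈ Rset H) : (cyc (F := F) a b o).1 u ∈ Rset H :=
  O.map_mem_R (O.cyc_mem hab hbo hao) (b := o) (a := a) (s := 1)
    (by rw [cyc_bv h2 hab hbo hao, one_smul]) hu

/-- A pair of unit vectors differing by a singular vector gives an Eichler transformation. -/
theorem Over.eich_of_pair {u i : ι → F} (hu : u ∈ Rset H) (hi : sq ι F i = 0) (hui : u ⬝ᵥ i = 0)
    (hv : u + i ∈ Rset H) : eich (sq ι F) i u ∈ H := by
  have hp : polar (sq ι F) i u = 0 := by rw [polar_sq, dotProduct_comm, hui, mul_zero]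
  rw [eich_eq_rf_mul_rf hi hp (by rw [hu.1]; exact one_ne_zero), hu.1, one_smul]
  exact O.rf_mul_rf hu hv

/-- Conversely an Eichler transformation gives a line of unit vectors. -/
theorem Over.add_smul_mem_R {p : ℕ} (P : PrimeOdd F p) {u i : ι → F} (hu : u ∈ Rset H)
    (hi : sq ι F i = 0) (hui : u ⬝ᵥ i = 0) (h : eich (sq ι F) i u ∈ H) (t : F) :
    u + t • i ∈ Rset H := by
  have hp : polar (sq ι F) i u = 0 := by rw [polar_sq, dotProduct_comm, hui, mul_zero]
  have hp' : polar (sq ι F) (t • i) u = 0 := by rw [polar_smul_left, hp, smul_zero]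
  have hE : eich (sq ι F) (t • i) u ∈ H := by
    rw [eich_smul_left hi hp]; exact eich_smul_mem P hi hp h t
  have hq : sq ι F (t • i) = 0 := by rw [form_smul, hi, mul_zero]
  refine ⟨by rw [form_add, hu.1, hq, polar_comm, hp', add_zero, add_zero], fun c => ?_⟩
  have e1 := eich_eq_rf_mul_rf hq hp' (by rw [hu.1]; exact one_ne_zero)
  rw [hu.1, one_smul] at e1
  have e2 : rf (sq ι F) (u + t • i) * rf (sq ι F) (bv c) =
      (rf (sq ι F) u * eich (sq ι F) (t • i) u * (rf (sq ι F) u)⁻¹) *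
        (rf (sq ι F) u * rf (sq ι F) (bv c)) := by
    rw [e1]
    simp only [mul_assoc]
    rw [inv_mul_cancel_left, ← mul_assoc (rf (sq ι F) u) (rf (sq ι F) u), rf_mul_self, one_mul]
  rw [e2, conj_eich, rf_apply_self (by rw [hu.1]; exact one_ne_zero),
    rf_apply_of_polar (by rw [polar_comm]; exact hp')]
  refine mul_mem ?_ (hu.2 c)
  rw [← eich_inv hq hp']
  exact inv_mem hE

end Reflection

end Cfsg.Agent.ODec24
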