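import Cfsg.Agent.ODec24.Basic

/-!
Conjugates of diagonal involutions: without an element carrying one coordinate vector to another
everything is monomial (helper24).
-/

set_option autoImplicit false
set_option linter.unusedSectionVars false

namespace Cfsg.Agent.ODec24

open QuadraticMap Cfsg.Agent.UnitaryOrthogonal Finset
open scoped Matrix

variable {ι : Type} [Fintype ι] [DecidableEq ι] {F : Type*} [Field F] {p : ℕ}

/-- Monomial. -/
def Mono (g : orth (sq ι F)) : Prop := ∀ a, ∃ (b : ι) (c : F), g.1 (bv a) = c • bv b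

/-- Fixes the coordinates outside `I`. -/
def Fixes (I : Finset ι) (g : orth (sq ι F)) : Prop := ∀ j, j ∉ I → g.1 (bv j) = bv j

open scoped Classical in
/-- Support. -/
noncomputable def sup' (x : ι → F) : Finset ι := univ.filter fun j => x j ≠ 0

theorem mem_sup' {x : ι → F} {j : ι} : j ∈ sup' x ↔ x j ≠ 0 := by
  classical
  simp [sup']

theorem mem_plane_iff {u v : ι → F} (h2 : (2 : F) ≠ 0) (hu : u ⬝ᵥ u = 1) (hv : v ⬝ᵥ v = 1)
    (huv : u ⬝ᵥ v = 0) {w : ι → F} (hw : (rf (sq ι F) u * rf (sq ι F) v).1 w = -w) :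
    w = (u ⬝ᵥ w) • u + (v ⬝ᵥ w) • v := by
  rw [coe_mul_apply, rf_sq_apply, rf_sq_apply, hu, hv, div_one, div_one, dotProduct_sub,
    dotProduct_smul, huv, smul_zero, sub_zero] at hw
  refine smul_right_injective (ι → F) h2 ?_
  show (2 : F) • w = (2 : F) • ((u ⬝ᵥ w) • u + (v ⬝ᵥ w) • v)
  rw [smul_add, smul_smul, smul_smul]
  have e : (2 : F) • w = w - (w - (2 * (v ⬝ᵥ w)) • v - (2 * (u ⬝ᵥ w)) • u) := by
    rw [hw, sub_neg_eq_add, two_smul]
  rw [e]; abel

theorem pair_apply {u v : ι → F} (hu : u ⬝ᵥ u = 1) (hv : v ⬝ᵥ v = 1) (huv : u ⬝ᵥ v = 0)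
    (x : ι → F) : (rf (sq ι F) u * rf (sq ι F) v).1 x =
      x - (2 * (u ⬝ᵥ x)) • u - (2 * (v ⬝ᵥ x)) • v := by
  rw [coe_mul_apply, rf_sq_apply, rf_sq_apply, hu, hv, div_one, div_one, dotProduct_sub,
    dotProduct_smul, huv, smul_zero, sub_zero]
  abel

/-- Three vectors with private coordinates are not detected by two functionals. -/
theorem three_false {d₁ d₂ d₃ u v : ι → F} {x₁ x₂ x₃ : ι} (h11 : d₁ x₁ ≠ 0) (h22 : d₂ x₂ ≠ 0)
    (h33 : d₃ x₃ ≠ 0) (h21 : d₂ x₁ = 0) (h31 : d₃ x₁ = 0) (h12 : d₁ x₂ = 0) (h32 : d₃ x₂ = 0)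
    (h13 : d₁ x₃ = 0) (h23 : d₂ x₃ = 0)
    (h : ∀ a b c : F, (a • d₁ + b • d₂ + c • d₃) ⬝ᵥ u = 0 → (a • d₁ + b • d₂ + c • d₃) ⬝ᵥ v = 0 →
      a • d₁ + b • d₂ + c • d₃ = 0) : False := by
  let Φ : (Fin 3 → F) →ₗ[F] F × F :=
    { toFun := fun c => ((c 0 • d₁ + c 1 • d₂ + c 2 • d₃) ⬝ᵥ u,
        (c 0 • d₁ + c 1 • d₂ + c 2 • d₃) ⬝ᵥ v)
      map_add' := fun c c' => by
        simp only [Pi.add_apply, add_dotProduct, smul_dotProduct, smul_eq_mul, Prod.mk_add_mk]
        ext <;> ring
      map_smul' := fun r c => by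
        simp only [Pi.smul_apply, add_dotProduct, smul_dotProduct, smul_eq_mul, RingHom.id_apply,
          Prod.smul_mk]
        ext <;> ring }
  have hinj : Function.Injective Φ := by
    rw [injective_iff_map_eq_zero]
    intro c hc
    have h0 := h (c 0) (c 1) (c 2) (congrArg Prod.fst hc) (congrArg Prod.snd hc)
    have e1 := congrFun h0 x₁
    have e2 := congrFun h0 x₂
    have e3 := congrFun h0 x₃
    simp [h11, h22, h33, h21, h31, h12, h32, h13, h23] at e1 e2 e3
    funext k; fin_cases k <;> assumption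
  have := LinearMap.finrank_le_finrank_of_injective hinj
  simp [Module.finrank_prod] at this

/-- Permutation and signs of a monomial element. -/
theorem Mono.exists_perm (h2 : (2 : F) ≠ 0) {g : orth (sq ι F)} (hg : Mono g) :
    ∃ (π : Equiv.Perm ι) (μ : ι → F), (∀ a, g.1 (bv a) = μ a • bv (π a)) ∧ ∀ a, μ a * μ a = 1 := by
  choose π μ h using hg
  have hμ : ∀ a, μ a * μ a = 1 := fun a => by
    have := map_form g (bv a : ι → F)
    rwa [h a, form_smul, sq_bv, sq_bv, mul_one] at this
  have hinj : Function.Injective π := fun a b hab => by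
    by_contra hne
    have e := dot_map g h2 (bv a) (bv b)
    rw [h a, h b, hab, smul_dotProduct, dotProduct_smul, bv_dot, bv_dot] at e
    simp [hne] at e
    rcases e with e | e
    · exact absurd (hμ a) (by rw [e]; simp)
    · exact absurd (hμ b) (by rw [e]; simp)
  exact ⟨Equiv.ofBijective π (Finite.injective_iff_bijective.mp hinj), μ, h, hμ⟩

theorem Mono.mul {g h : orth (sq ι F)} (hg : Mono g) (hh : Mono h) : Mono (g * h) := fun a => by
  obtain ⟨b, c, e⟩ := hh a
  obtain ⟨b', c', e'⟩ := hg b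
  exact ⟨b', c * c', by rw [coe_mul_apply, e, map_smul, e', smul_smul]⟩

theorem Mono.inv (h2 : (2 : F) ≠ 0) {g : orth (sq ι F)} (hg : Mono g) : Mono g⁻¹ := fun a => by
  obtain ⟨π, μ, h, hμ⟩ := hg.exists_perm h2
  refine ⟨π.symm a, μ (π.symm a), g.1.injective ?_⟩
  rw [coe_apply_inv_apply, map_smul, h, Equiv.apply_symm_apply, smul_smul, hμ, one_smul]

/-- Action of a monomial involution. -/
theorem invol_perm {z : orth (sq ι F)} (hz : z * z = 1) {π : Equiv.Perm ι} {μ : ι → F}
    (h : ∀ a, z.1 (bv a) = μ a • bv (π a)) (hμ : ∀ a, μ a * μ a = 1) (a : ι) : π (π a) = a := by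
  by_contra hne
  have e : z.1 (z.1 (bv a)) = bv a := by rw [← coe_mul_apply, hz, coe_one_apply]
  rw [h, map_smul, h, smul_smul] at e
  have := congrFun e a
  simp [hne, Ne.symm hne] at this

/-- Supports of the plane of a monomial product of two reflections. -/
theorem support_pair (h2 : (2 : F) ≠ 0) {u v : ι → F} (hu : u ⬝ᵥ u ≠ 0) (hv : v ⬝ᵥ v ≠ 0)
    (huv : u ⬝ᵥ v = 0) (hm : Mono (rf (sq ι F) u * rf (sq ι F) v)) :
    (sup' u ∪ sup' v).card ≤ 4 ∧ ((sup' u ∪ sup' v).card = 4 → (sup' u).card ≠ 3) := by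
  classical
  set y := rf (sq ι F) u * rf (sq ι F) v with hy
  have hcomm : rf (sq ι F) u * rf (sq ι F) v = rf (sq ι F) v * rf (sq ι F) u := by
    have := conj_rf (rf (sq ι F) v) u
    rw [rf_apply_of_polar (x := u) (by rw [polar_sq, dotProduct_comm, huv, mul_zero]),
      mul_inv_eq_iff_eq_mul] at this
    exact this.symm
  have hyy : y * y = 1 := by
    rw [hy]
    conv_lhs => arg 2; rw [hcomm]
    rw [mul_assoc, ← mul_assoc (rf _ v), rf_mul_self, one_mul, rf_mul_self]
  obtain ⟨π, μ, hπ, hμ⟩ := hm.exists_perm h2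
  have hinv := invol_perm hyy hπ hμ
  set d : ι → ι → F := fun a => bv a - μ a • bv (π a) with hd
  have hda : ∀ a, d a = (2 * u a / (u ⬝ᵥ u)) • u + (2 * v a / (v ⬝ᵥ v)) • v := fun a => by
    show bv a - μ a • bv (π a) = _
    rw [← hπ, hy, coe_mul_apply, rf_sq_apply, rf_sq_apply, dotProduct_sub, dotProduct_smul, huv,
      smul_zero, sub_zero, dot_bv, dot_bv]
    abel
  have hud : ∀ a, u ⬝ᵥ d a = 2 * u a := fun a => by
    rw [hda, dotProduct_add, dotProduct_smul, dotProduct_smul, huv, smul_zero, add_zero,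
      smul_eq_mul, div_mul_cancel₀ _ hu]
  have hvd : ∀ a, v ⬝ᵥ d a = 2 * v a := fun a => by
    rw [hda, dotProduct_add, dotProduct_smul, dotProduct_smul, dotProduct_comm v u, huv, smul_zero,
      zero_add, smul_eq_mul, div_mul_cancel₀ _ hv]
  set U := sup' u ∪ sup' v with hU
  have hne : ∀ a ∈ U, d a a ≠ 0 := by
    intro a ha h0
    have hd0 : d a = 0 := by
      funext j
      by_cases hj : j = π a
      · subst hj
        by_cases hja : π a = a
        · rw [hja]; exact h0
        · exact absurd h0 (by simp [hd, Ne.symm hja])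
      · by_cases hja : j = a
        · subst hja; exact h0
        · simp [hd, hj, hja]
    have h1 := hud a
    have h2' := hvd a
    rw [hd0, dotProduct_zero, zero_eq_mul, or_iff_right h2] at h1 h2'
    simp [hU, mem_sup', h1, h2'] at ha
  have hzero : ∀ a x, x ≠ a → x ≠ π a → d a x = 0 := fun a x h1 h2 => by simp [hd, h1, h2]
  have no3 : ∀ a b c, a ∈ U → b ∈ U → c ∈ U → b ≠ a → b ≠ π a → c ≠ a → c ≠ π a → c ≠ b →
      c ≠ π b → False := by
    intro a b c ha hb hc hba hba' hca hca' hcb hcb'
    have sw : ∀ {s t : ι}, t ≠ π s → s ≠ π t := fun {s t} hne e => hne (by rw [e, hinv])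
    refine three_false (u := u) (v := v) (hne a ha) (hne b hb) (hne c hc)
      (hzero b a hba.symm (sw hba')) (hzero c a hca.symm (sw hca')) (hzero a b hba hba')
      (hzero c b hcb.symm (sw hcb')) (hzero a c hca hca') (hzero b c hcb hcb') fun r s t h1 h2' => ?_
    rw [hda, hda, hda] at h1 h2' ⊢
    set A := r * (2 * u a / (u ⬝ᵥ u)) + s * (2 * u b / (u ⬝ᵥ u)) + t * (2 * u c / (u ⬝ᵥ u))
    set B := r * (2 * v a / (v ⬝ᵥ v)) + s * (2 * v b / (v ⬝ᵥ v)) + t * (2 * v c / (v ⬝ᵥ v))
    have e : r • ((2 * u a / (u ⬝ᵥ u)) • u + (2 * v a / (v ⬝ᵥ v)) • v) +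
        s • ((2 * u b / (u ⬝ᵥ u)) • u + (2 * v b / (v ⬝ᵥ v)) • v) +
        t • ((2 * u c / (u ⬝ᵥ u)) • u + (2 * v c / (v ⬝ᵥ v)) • v) = A • u + B • v := by module
    rw [e] at h1 h2' ⊢
    rw [add_dotProduct, smul_dotProduct, smul_dotProduct] at h1 h2'
    rw [dotProduct_comm v u, huv, smul_zero, add_zero, smul_eq_mul, mul_eq_zero, or_iff_left hu]
      at h1
    rw [huv, smul_zero, zero_add, smul_eq_mul, mul_eq_zero, or_iff_left hv] at h2'
    rw [h1, h2', zero_smul, zero_smul, add_zero]
  constructor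
  · by_contra h5
    obtain ⟨a, ha⟩ := card_pos.mp (show 0 < U.card by omega)
    obtain ⟨b, hb, hb'⟩ := exists_mem_notMem_of_card_lt_card (s := {a, π a}) (t := U)
      (card_le_two.trans_lt (by omega))
    obtain ⟨c, hc, hc'⟩ := exists_mem_notMem_of_card_lt_card (s := {a, π a, b, π b}) (t := U)
      (card_le_four.trans_lt (by omega))
    simp only [mem_insert, mem_singleton, not_or] at hb' hc'
    exact no3 a b c ha hb hc hb'.1 hb'.2 hc'.1 hc'.2.1 hc'.2.2.1 hc'.2.2.2
  · intro h4 h3
    have hfix : ∀ a ∈ U, π a ≠ a := by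
      intro a ha e
      obtain ⟨b, hb, hb'⟩ := exists_mem_notMem_of_card_lt_card (s := {a}) (t := U)
        (by rw [card_singleton]; omega)
      obtain ⟨c, hc, hc'⟩ := exists_mem_notMem_of_card_lt_card (s := {a, b, π b}) (t := U)
        (card_le_three.trans_lt (by omega))
      simp only [mem_insert, mem_singleton, not_or] at hb' hc'
      exact no3 a b c ha hb hc hb' (by rw [e]; exact hb') hc'.1 (by rw [e]; exact hc'.1) hc'.2.1
        hc'.2.2
    have hyu : y.1 u = -u := by
      rw [hy, coe_mul_apply,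
        rf_apply_of_polar (x := u) (by rw [polar_sq, dotProduct_comm, huv, mul_zero]),
        rf_apply_self (by rw [sq_apply]; exact hu)]
    have hsup : ∀ a ∈ sup' u, π a ∈ sup' u := by
      intro a ha
      rw [mem_sup'] at ha ⊢
      intro h0
      have e := dot_map y h2 u (bv a)
      rw [hyu, hπ, neg_dotProduct, dotProduct_smul, dot_bv, dot_bv, h0, smul_zero, neg_zero] at e
      exact ha e.symm
    obtain ⟨a, ha⟩ := card_pos.mp (show 0 < (sup' u).card by omega)
    obtain ⟨c, hc, hc'⟩ := exists_mem_notMem_of_card_lt_card (s := {a, π a}) (t := sup' u)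
      (card_le_two.trans_lt (by omega))
    simp only [mem_insert, mem_singleton, not_or] at hc'
    have h1 := hfix a (mem_union_left _ ha)
    have h2' := hfix c (mem_union_left _ hc)
    have hsub : ({a, π a, c, π c} : Finset ι) ⊆ sup' u := by
      intro x hx
      simp only [mem_insert, mem_singleton] at hx
      rcases hx with rfl | rfl | rfl | rfl
      exacts [ha, hsup _ ha, hc, hsup _ hc]
    have hcard : ({a, π a, c, π c} : Finset ι).card = 4 := by
      have e1 : π c ≠ a := fun e => hc'.2 (by rw [← e, hinv])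
      have e2 : π c ≠ π a := fun e => hc'.1 (π.injective e)
      rw [card_insert_of_notMem (by simp [h1.symm, Ne.symm hc'.1, e1.symm]),
        card_insert_of_notMem (by simp [Ne.symm hc'.2, e2.symm]),
        card_pair h2'.symm]
    have := card_le_card hsub
    omega

variable (P : PrimeOdd F p)
include P

theorem Fixes.apply {I : Finset ι} {g : orth (sq ι F)} (hg : Fixes I g) (x : ι → F) {j : ι}
    (hj : j ∉ I) : (g.1 x) j = x j := by
  have := dot_map g P.two_ne (bv j) x
  rwa [hg j hj, bv_dot, bv_dot] at this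

theorem Fixes.sup_subset {I : Finset ι} {g : orth (sq ι F)} (hg : Fixes I g) {a : ι} (ha : a ∈ I) :
    sup' (g.1 (bv a)) ⊆ I := fun j hj => by
  by_contra hjI
  rw [mem_sup', hg.apply P _ hjI] at hj
  simp [show j ≠ a from fun e => hjI (e ▸ ha)] at hj

/-- Columns supported in a set are no more than its elements. -/
theorem card_cols_le {g : orth (sq ι F)} {J S : Finset ι}
    (h : ∀ b ∈ J, sup' (g.1 (bv b)) ⊆ S) : J.card ≤ S.card := by
  classical
  let L : (J → F) →ₗ[F] (S → F) :=
    (LinearMap.funLeft F F (Subtype.val : S → ι)).comp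
      (Fintype.linearCombination F (fun b : J => g.1 (bv (b : ι))))
  have hinj : Function.Injective L := by
    rw [injective_iff_map_eq_zero]
    intro c hc
    have h0 : ∑ b, c b • g.1 (bv (b : ι)) = 0 := funext fun j => by
      by_cases hj : j ∈ S
      · have := congrFun hc ⟨j, hj⟩
        simpa [L, Fintype.linearCombination_apply, LinearMap.funLeft] using this
      · rw [Finset.sum_apply]
        refine Finset.sum_eq_zero fun b _ => ?_
        have : g.1 (bv (b : ι)) j = 0 := by
          by_contra hne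
          exact hj (h b b.2 (mem_sup'.mpr hne))
        simp [this]
    simp only [← map_smul, ← map_sum] at h0
    have h1 := g.1.map_eq_zero_iff.mp h0
    funext b
    have := congrFun h1 b
    rw [Finset.sum_apply, Finset.sum_eq_single b (fun x _ hx => by
      simp [show (b : ι) ≠ x from fun e => hx (Subtype.ext e.symm)]) (by simp)] at this
    simpa using this
  have := LinearMap.finrank_le_finrank_of_injective hinj
  simpa using this

/-- If all conjugates of pairs and transposition pairs are monomial then so is `g`. -/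
theorem mono_of_pairs {I : Finset ι} (hI : 10 ≤ I.card) {g : orth (sq ι F)} (hgI : Fixes I g)
    (hp : ∀ a ∈ I, ∀ b ∈ I, a ≠ b → Mono (rf (sq ι F) (g.1 (bv a)) * rf (sq ι F) (g.1 (bv b))))
    (hT : ∀ a ∈ I, ∀ b ∈ I, ∀ c ∈ I, ∀ d ∈ I, a ≠ b → c ≠ d → a ≠ c → a ≠ d → b ≠ c → b ≠ d →
      Mono (rf (sq ι F) (g.1 (bv a + bv b)) * rf (sq ι F) (g.1 (bv c + bv d)))) : Mono g := by
  classical
  have h2 := P.two_ne
  set f : ι → ι → F := fun a => g.1 (bv a) with hf
  have hff : ∀ a b, f a ⬝ᵥ f b = if a = b then 1 else 0 := fun a b => by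
    show g.1 (bv a) ⬝ᵥ g.1 (bv b) = _
    rw [dot_map g h2, bv_dot]; simp [Pi.single_apply]
  have hnz : ∀ a, f a ⬝ᵥ f a ≠ 0 := fun a => by rw [hff, if_pos rfl]; exact one_ne_zero
  have hdot : ∀ a b, a ≠ b → f a ⬝ᵥ f b = 0 := fun a b hab => by rw [hff, if_neg hab]
  have hsup : ∀ a ∈ I, ∀ b ∈ I, a ≠ b → (sup' (f a) ∪ sup' (f b)).card ≤ 4 ∧
      ((sup' (f a) ∪ sup' (f b)).card = 4 → (sup' (f a)).card ≠ 3) :=
    fun a ha b hb hab => support_pair h2 (hnz a) (hnz b) (hdot a b hab) (hp a ha b hb hab)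
  have small : ∀ a ∈ I, (sup' (f a)).card ≤ 2 := by
    intro a ha
    by_contra hbig
    have hsub : ∀ b ∈ I, sup' (f b) ⊆ sup' (f a) := by
      intro b hb
      by_cases hab : a = b
      · rw [hab]
      obtain ⟨h4, h43⟩ := hsup a ha b hb hab
      have hle := card_le_card (subset_union_left : sup' (f a) ⊆ sup' (f a) ∪ sup' (f b))
      have heq : sup' (f a) ∪ sup' (f b) = sup' (f a) := by
        refine (eq_of_subset_of_card_le subset_union_left ?_).symm
        by_cases h : (sup' (f a) ∪ sup' (f b)).card = 4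
        · have := h43 h; omega
        · omega
      exact heq ▸ subset_union_right
    obtain ⟨b, hb, hab⟩ : ∃ b ∈ I, b ≠ a := by
      obtain ⟨b, hb, hb'⟩ := exists_mem_notMem_of_card_lt_card (s := {a}) (t := I) (by simp; omega)
      exact ⟨b, hb, by simpa using hb'⟩
    have h4 := (hsup a ha b hb hab.symm).1
    have := card_cols_le P (g := g) hsub
    have hle := card_le_card (subset_union_left : sup' (f a) ⊆ sup' (f a) ∪ sup' (f b))
    omega
  have nested : ∀ a ∈ I, ∀ b ∈ I, a ≠ b → ∀ x ∈ sup' (f a), x ∈ sup' (f b) →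
      sup' (f b) ⊆ sup' (f a) := by
    intro a ha b hb hab x hxa hxb
    by_contra hns
    obtain ⟨y, hyb, hya⟩ := not_subset.mp hns
    have hxy : y ≠ x := fun e => hya (e ▸ hxa)
    have hb2 : sup' (f b) = {x, y} := by
      refine (eq_of_subset_of_card_le ?_ ((small b hb).trans (card_pair hxy.symm).ge)).symm
      simp [insert_subset_iff, hxb, hyb]
    have e := hdot a b hab
    rw [dotProduct, Finset.sum_eq_single x (fun j _ hj => by
      by_cases hjb : j ∈ sup' (f b)
      · rw [hb2, mem_insert, mem_singleton] at hjb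
        rcases hjb with rfl | rfl
        · exact absurd rfl hj
        · rw [show f a j = 0 by simpa [mem_sup'] using hya, zero_mul]
      · rw [show f b j = 0 by simpa [mem_sup'] using hjb, mul_zero]) (by simp)] at e
    rw [mem_sup'] at hxa hxb
    exact mul_ne_zero hxa hxb e
  by_contra hgm
  obtain ⟨a, ha, ha2⟩ : ∃ a ∈ I, 2 ≤ (sup' (f a)).card := by
    by_contra hno
    simp only [not_exists, not_and, not_le] at hno
    refine hgm fun a => ?_
    by_cases ha : a ∈ I
    · have h1 := hno a ha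
      rcases Nat.eq_zero_or_pos (sup' (f a)).card with h0 | h0
      · exfalso
        refine hnz a ?_
        rw [Finset.card_eq_zero] at h0
        have : f a = 0 := funext fun j => by
          by_contra hj
          have : j ∈ sup' (f a) := mem_sup'.mpr hj
          simp [h0] at this
        rw [this, zero_dotProduct]
      · obtain ⟨b, hb⟩ := card_eq_one.mp (show (sup' (f a)).card = 1 by omega)
        refine ⟨b, f a b, funext fun j => ?_⟩
        by_cases hj : j = b
        · subst hj; simp [hf]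
        · have : j ∉ sup' (f a) := by rw [hb]; simpa using hj
          rw [mem_sup', not_not] at this
          simp [hj]
          exact this
    · exact ⟨a, 1, by rw [hgI a ha, one_smul]⟩
  -- columns inside the support of `s`
  let J : ι → Finset ι := fun s => I.filter fun b => sup' (f b) ⊆ sup' (f s)
  have hJ : ∀ s ∈ I, (J s).card ≤ 2 := fun s hs =>
    (card_cols_le P (g := g) fun b hb => (mem_filter.mp hb).2).trans (small s hs)
  have hdisj : ∀ s ∈ I, ∀ b ∈ I, b ∉ J s → Disjoint (sup' (f s)) (sup' (f b)) := by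
    intro s hs b hb hbJ
    rw [Finset.disjoint_left]
    intro x hxs hxb
    by_cases hsb : s = b
    · exact hbJ (mem_filter.mpr ⟨hb, by rw [hsb]⟩)
    exact hbJ (mem_filter.mpr ⟨hb, nested s hs b hb hsb x hxs hxb⟩)
  obtain ⟨b, hb, hbJ⟩ := exists_mem_notMem_of_card_lt_card (s := J a) (t := I)
    (by have := hJ a ha; omega)
  obtain ⟨c, hc, hcJ⟩ := exists_mem_notMem_of_card_lt_card (s := J a ∪ J b) (t := I)
    (lt_of_le_of_lt (card_union_le _ _) (by have := hJ a ha; have := hJ b hb; omega))
  obtain ⟨d, hd, hdJ⟩ := exists_mem_notMem_of_card_lt_card (s := J a ∪ J b ∪ J c) (t := I)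
    (lt_of_le_of_lt (card_union_le _ _) (by
      have := card_union_le (J a) (J b)
      have := hJ a ha; have := hJ b hb; have := hJ c hc; omega))
  simp only [mem_union, not_or] at hcJ hdJ
  have dab := hdisj a ha b hb hbJ
  have dac := hdisj a ha c hc hcJ.1
  have dbc := hdisj b hb c hc hcJ.2
  have dad := hdisj a ha d hd hdJ.1.1
  have dbd := hdisj b hb d hd hdJ.1.2
  have dcd := hdisj c hc d hd hdJ.2
  have self : ∀ s ∈ I, s ∈ J s := fun s hs => mem_filter.mpr ⟨hs, subset_rfl⟩
  have hab : a ≠ b := fun e => hbJ (e ▸ self a ha)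
  have hac : a ≠ c := fun e => hcJ.1 (e ▸ self a ha)
  have hbc : b ≠ c := fun e => hcJ.2 (e ▸ self b hb)
  have had : a ≠ d := fun e => hdJ.1.1 (e ▸ self a ha)
  have hbd : b ≠ d := fun e => hdJ.1.2 (e ▸ self b hb)
  have hcd : c ≠ d := fun e => hdJ.2 (e ▸ self c hc)
  have eadd : ∀ s t, g.1 (bv s + bv t) = f s + f t := fun s t => map_add _ _ _
  have hq : ∀ s t, s ≠ t → (f s + f t) ⬝ᵥ (f s + f t) ≠ 0 := fun s t hst => by
    rw [add_dotProduct, dotProduct_add, dotProduct_add, hff, hff, hff, hff, if_pos rfl, if_pos rfl,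
      if_neg hst, if_neg hst.symm]
    simpa [one_add_one_eq_two] using h2
  obtain ⟨h4, -⟩ := support_pair h2 (hq a b hab) (hq c d hcd) (by
      rw [add_dotProduct, dotProduct_add, dotProduct_add, hdot a c hac, hdot a d had, hdot b c hbc,
        hdot b d hbd]; simp)
    (by rw [← eadd, ← eadd]; exact hT a ha b hb c hc d hd hab hcd hac had hbc hbd)
  have sadd : ∀ s t, Disjoint (sup' (f s)) (sup' (f t)) →
      sup' (f s) ∪ sup' (f t) ⊆ sup' (f s + f t) := by
    intro s t hst x hx
    rw [mem_union] at hx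
    rw [mem_sup', Pi.add_apply]
    rcases hx with hx | hx
    · have : x ∉ sup' (f t) := disjoint_left.mp hst hx
      rw [mem_sup', not_not] at this
      rw [this, add_zero]; exact mem_sup'.mp hx
    · have : x ∉ sup' (f s) := disjoint_right.mp hst hx
      rw [mem_sup', not_not] at this
      rw [this, zero_add]; exact mem_sup'.mp hx
  have hle := card_le_card (union_subset_union (sadd a b dab) (sadd c d dcd))
  rw [card_union_of_disjoint (disjoint_union_left.mpr ⟨disjoint_union_right.mpr ⟨dac, dad⟩,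
    disjoint_union_right.mpr ⟨dbc, dbd⟩⟩), card_union_of_disjoint dab,
    card_union_of_disjoint dcd] at hle
  have pos : ∀ s, 1 ≤ (sup' (f s)).card := fun s => by
    rw [Nat.one_le_iff_ne_zero, Ne, Finset.card_eq_zero]
    intro h0
    refine hnz s ?_
    have : f s = 0 := funext fun j => by
      by_contra hj
      have : j ∈ sup' (f s) := mem_sup'.mpr hj
      simp [h0] at this
    rw [this, zero_dotProduct]
  have := pos b; have := pos c; have := pos d
  omega

variable {H : Subgroup (orth (sq ι F))}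

variable (H) in
/-- No element of `H` on `I` carries a coordinate vector to a coordinate vector unless monomial. -/
def NC (I : Finset ι) : Prop :=
  ∀ g ∈ H, Fixes I g → ∀ i ∈ I, ∀ (a : ι) (c : F), g.1 (bv i) = c • bv a → Mono g

variable (O : Over H)
include O

theorem fixes_pair {I : Finset ι} {u v : ι → F} (hu : ∀ j, j ∉ I → u j = 0)
    (hv : ∀ j, j ∉ I → v j = 0) : Fixes I (rf (sq ι F) u * rf (sq ι F) v) := fun j hj => by
  rw [coe_mul_apply, rf_apply_of_polar (x := bv j) (by rw [polar_sq, dot_bv, hv j hj, mul_zero]),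
    rf_apply_of_polar (x := bv j) (by rw [polar_sq, dot_bv, hu j hj, mul_zero])]

theorem mono_pair_of_zero {I : Finset ι} (hNC : NC H I) {u v : ι → F}
    (hx : rf (sq ι F) u * rf (sq ι F) v ∈ H) (hu : ∀ j, j ∉ I → u j = 0)
    (hv : ∀ j, j ∉ I → v j = 0) {i : ι} (hi : i ∈ I) (hui : u i = 0) (hvi : v i = 0) :
    Mono (rf (sq ι F) u * rf (sq ι F) v) :=
  hNC _ hx (fixes_pair P O hu hv) i hi i 1 (by
    rw [one_smul, coe_mul_apply,
      rf_apply_of_polar (x := bv i) (by rw [polar_sq, dot_bv, hvi, mul_zero]),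
      rf_apply_of_polar (x := bv i) (by rw [polar_sq, dot_bv, hui, mul_zero])])

theorem conj_pair_mem {g : orth (sq ι F)} (hg : g ∈ H) (a b : ι) :
    rf (sq ι F) (g.1 (bv a)) * rf (sq ι F) (g.1 (bv b)) ∈ H := by
  rw [← conj_rf, ← conj_rf]
  have := mul_mem (mul_mem hg (O.pair a b)) (inv_mem hg)
  simpa [mul_assoc] using this

theorem col_zero {I : Finset ι} {g : orth (sq ι F)} (hgI : Fixes I g) {a : ι} (ha : a ∈ I) :
    ∀ j, j ∉ I → g.1 (bv a) j = 0 := fun j hj => by
  rw [hgI.apply P _ hj]; simp [show j ≠ a from fun e => hj (e ▸ ha)]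

/-- Small columns give monomiality. -/
theorem mono_of_small {I : Finset ι} (hI : 10 ≤ I.card) (hNC : NC H I) {g : orth (sq ι F)}
    (hg : g ∈ H) (hgI : Fixes I g) (hcol : ∀ a ∈ I, (sup' (g.1 (bv a))).card ≤ 4) : Mono g := by
  classical
  have h2 := P.two_ne
  have nz : ∀ a, g.1 (bv a) ⬝ᵥ g.1 (bv a) ≠ 0 := fun a => by
    rw [dot_map g h2, bv_dot]; simp
  have hp : ∀ a ∈ I, ∀ b ∈ I, a ≠ b →
      Mono (rf (sq ι F) (g.1 (bv a)) * rf (sq ι F) (g.1 (bv b))) := by
    intro a ha b hb _
    obtain ⟨i, hi, hi'⟩ := exists_mem_notMem_of_card_lt_card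
      (s := sup' (g.1 (bv a)) ∪ sup' (g.1 (bv b))) (t := I)
      (lt_of_le_of_lt (card_union_le _ _) (by have := hcol a ha; have := hcol b hb; omega))
    simp only [mem_union, mem_sup', not_or, not_not] at hi'
    exact mono_pair_of_zero P O hNC (conj_pair_mem P O hg a b) (col_zero P O hgI ha)
      (col_zero P O hgI hb) hi hi'.1 hi'.2
  refine mono_of_pairs P hI hgI hp fun a ha b hb c hc d hd hab hcd hac had hbc hbd => ?_
  have u4 : ∀ s ∈ I, ∀ t ∈ I, s ≠ t → (sup' (g.1 (bv s)) ∪ sup' (g.1 (bv t))).card ≤ 4 :=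
    fun s hs t ht hst => (support_pair h2 (nz s) (nz t)
      (by rw [dot_map g h2, bv_dot]; simp [hst]) (hp s hs t ht hst)).1
  obtain ⟨i, hi, hi'⟩ := exists_mem_notMem_of_card_lt_card
    (s := (sup' (g.1 (bv a)) ∪ sup' (g.1 (bv b))) ∪ (sup' (g.1 (bv c)) ∪ sup' (g.1 (bv d))))
    (t := I) (lt_of_le_of_lt (card_union_le _ _) (by
      have := u4 a ha b hb hab; have := u4 c hc d hd hcd; omega))
  simp only [mem_union, mem_sup', not_or, not_not] at hi'
  have hmem : rf (sq ι F) (g.1 (bv a + bv b)) * rf (sq ι F) (g.1 (bv c + bv d)) ∈ H := by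
    rw [← conj_rf, ← conj_rf]
    have := mul_mem (mul_mem hg (O.swaps a b c d hab hcd hac had hbc hbd)) (inv_mem hg)
    simpa [mul_assoc] using this
  refine mono_pair_of_zero P O hNC hmem (fun j hj => ?_) (fun j hj => ?_) hi ?_ ?_
  · simp [map_add, col_zero P O hgI ha j hj, col_zero P O hgI hb j hj]
  · simp [map_add, col_zero P O hgI hc j hj, col_zero P O hgI hd j hj]
  · simp [map_add, hi'.1.1, hi'.1.2]
  · simp [map_add, hi'.2.1, hi'.2.2]

/-- An element respecting a proper splitting of `I` is monomial. -/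
theorem mono_of_block {I W : Finset ι} (hI : 10 ≤ I.card) (hNC : NC H I) (hW : W ⊆ I)
    (hW0 : W.Nonempty) (hW1 : W ≠ I) {g : orth (sq ι F)} (hg : g ∈ H) (hgI : Fixes I g)
    (hb : ∀ a ∈ I, ∀ j ∈ I, g.1 (bv a) j ≠ 0 → (a ∈ W ↔ j ∈ W)) : Mono g := by
  classical
  have h2 := P.two_ne
  obtain ⟨c₁, hc₁, hc₁'⟩ := not_subset.mp fun h => hW1 (Subset.antisymm hW h)
  obtain ⟨w, hw⟩ := hW0
  by_cases h1 : ∃ a ∈ I, ∀ b ∈ I, (b ∈ W ↔ a ∈ W) → b = a
  · obtain ⟨a, ha, h⟩ := h1
    refine hNC g hg hgI a ha a (g.1 (bv a) a) (funext fun j => ?_)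
    by_cases hj : j = a
    · subst hj; simp
    · simp [hj]
      by_contra hne
      have hjI : j ∈ I := hgI.sup_subset P ha (mem_sup'.mpr hne)
      exact hj (h j hjI (hb a ha j hjI hne).symm)
  simp only [not_exists, not_and, not_forall] at h1
  refine mono_of_small P O hI hNC hg hgI fun a ha => ?_
  obtain ⟨b, hbI, hbW, hba⟩ := h1 a ha
  obtain ⟨c, hc, hcW⟩ : ∃ c ∈ I, ¬ (a ∈ W ↔ c ∈ W) := by
    by_cases haW : a ∈ W
    · exact ⟨c₁, hc₁, by simp [haW, hc₁']⟩
    · exact ⟨w, hW hw, by simp [haW, hw]⟩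
  have z1 : g.1 (bv a) c = 0 := by
    by_contra hne; exact hcW (hb a ha c hc hne)
  have z2 : g.1 (bv b) c = 0 := by
    by_contra hne; exact hcW (hbW.symm.trans (hb b hbI c hc hne))
  have hm := mono_pair_of_zero P O hNC (conj_pair_mem P O hg a b) (col_zero P O hgI ha)
    (col_zero P O hgI hbI) hc z1 z2
  refine (card_le_card (subset_union_left)).trans (support_pair h2 ?_ ?_ ?_ hm).1
  · rw [dot_map g h2, bv_dot]; simp
  · rw [dot_map g h2, bv_dot]; simp
  · rw [dot_map g h2, bv_dot]; simp [Ne.symm hba]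

/-- The trace. -/
noncomputable def tr (g : orth (sq ι F)) : F := ∑ a, g.1 (bv a) a

omit P O in
theorem tr_conj (g h : orth (sq ι F)) : tr (g * h * g⁻¹) = tr h := by
  have key : ∀ k : orth (sq ι F),
      tr k = Matrix.trace (LinearMap.toMatrix' (k.1 : (ι → F) →ₗ[F] ι → F)) := fun k => by
    simp [tr, Matrix.trace, LinearMap.toMatrix'_apply]
  have hm : ∀ k k' : orth (sq ι F), LinearMap.toMatrix' ((k * k').1 : (ι → F) →ₗ[F] ι → F) =
      LinearMap.toMatrix' (k.1 : (ι → F) →ₗ[F] ι → F) *
        LinearMap.toMatrix' (k'.1 : (ι → F) →ₗ[F] ι → F) := fun k k' => by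
    rw [← LinearMap.toMatrix'_comp]; rfl
  rw [key, key, hm, hm, Matrix.trace_mul_comm, ← Matrix.mul_assoc, ← hm, inv_mul_cancel]
  rw [show LinearMap.toMatrix' ((1 : orth (sq ι F)).1 : (ι → F) →ₗ[F] ι → F) = 1 from
    LinearMap.toMatrix'_id, Matrix.one_mul]

omit P O in
/-- Involutions with different traces: a commuting involution in the dihedral group. -/
theorem exists_dihedral_pow [Finite F] {x y : orth (sq ι F)} (hx : x * x = 1) (hy : y * y = 1)
    (ht : tr x ≠ tr y) :
    ∃ m : ℕ, ((x * y) ^ m) * ((x * y) ^ m) = 1 ∧ (x * y) ^ m ≠ 1 ∧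
      Commute x ((x * y) ^ m) ∧ Commute y ((x * y) ^ m) := by
  haveI : Finite ((ι → F) ≃ₗ[F] (ι → F)) := Finite.of_injective _ LinearEquiv.toEquiv_injective
  set r := x * y with hr
  have hxi : x⁻¹ = x := inv_eq_of_mul_eq_one_right hx
  have hyi : y⁻¹ = y := inv_eq_of_mul_eq_one_right hy
  have hxr : ∀ k : ℕ, x * r ^ k * x⁻¹ = (r ^ k)⁻¹ := fun k => by
    rw [← conj_pow, show x * r * x⁻¹ = r⁻¹ by
      rw [hr, _root_.mul_inv_rev, hyi, hxi, ← mul_assoc, hx, one_mul], inv_pow]
  have hyr : ∀ k : ℕ, y * r ^ k * y⁻¹ = (r ^ k)⁻¹ := fun k => by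
    rw [← conj_pow, show y * r * y⁻¹ = r⁻¹ by
      rw [hr, _root_.mul_inv_rev, hyi, hxi, mul_assoc, mul_assoc, hy, mul_one], inv_pow]
  have hd : r ^ orderOf r = 1 := pow_orderOf_eq_one r
  rcases Nat.even_or_odd (orderOf r) with ⟨m, hm⟩ | ⟨m, hm⟩
  · refine ⟨m, ?_, ?_, ?_, ?_⟩
    · rw [← pow_add, ← hm, hd]
    · intro h
      have hpos : 0 < orderOf r := (isOfFinOrder_of_finite r).orderOf_pos
      have := Nat.le_of_dvd (by omega) (orderOf_dvd_of_pow_eq_one h)
      omega
    · have e : (r ^ m)⁻¹ = r ^ m := inv_eq_of_mul_eq_one_right (by rw [← pow_add, ← hm, hd])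
      exact (mul_inv_eq_iff_eq_mul.mp ((hxr m).trans e))
    · have e : (r ^ m)⁻¹ = r ^ m := inv_eq_of_mul_eq_one_right (by rw [← pow_add, ← hm, hd])
      exact (mul_inv_eq_iff_eq_mul.mp ((hyr m).trans e))
  · exfalso
    refine ht ?_
    have e : r ^ m * x * (r ^ m)⁻¹ = y := by
      have h2m : r ^ (2 * m) = r⁻¹ := eq_inv_of_mul_eq_one_left (by rw [← pow_succ, ← hm, hd])
      rw [← hxr m, hxi]
      have : r ^ m * x * (x * r ^ m * x) = r ^ (2 * m) * x := by
        rw [two_mul, pow_add]
        simp only [mul_assoc]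
        rw [← mul_assoc x x, hx, one_mul]
      rw [this, h2m, hr, _root_.mul_inv_rev, hyi, hxi, mul_assoc, hx, mul_one]
    rw [← e, tr_conj]

omit P O in
theorem pow_apply_eigen {g : orth (sq ι F)} {w : ι → F} {s : F} (h : g.1 w = s • w) (m : ℕ) :
    (g ^ m).1 w = s ^ m • w := by
  induction m with
  | zero => simp
  | succ m ih => rw [pow_succ, coe_mul_apply, h, map_smul, ih, smul_smul, pow_succ']

/-- A rotation in `H` supported in `I` is monomial. -/
theorem mono_of_rotation [Finite F] {I : Finset ι} (hI : 10 ≤ I.card) (hNC : NC H I)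
    {u v : ι → F} (hu : u ⬝ᵥ u = 1) (hv : v ⬝ᵥ v = 1) (huv : u ⬝ᵥ v = 0)
    (huI : ∀ j, j ∉ I → u j = 0) (hvI : ∀ j, j ∉ I → v j = 0)
    (hx : rf (sq ι F) u * rf (sq ι F) v ∈ H) : Mono (rf (sq ι F) u * rf (sq ι F) v) := by
  classical
  have h2 := P.two_ne
  set x := rf (sq ι F) u * rf (sq ι F) v with hxdef
  by_contra hnm
  have hrow : ∀ a ∈ I, u a ≠ 0 ∨ v a ≠ 0 := fun a ha => by
    by_contra h
    simp only [not_or, not_not] at h
    exact hnm (mono_pair_of_zero P O hNC hx huI hvI ha h.1 h.2)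
  have hxI : Fixes I x := fixes_pair P O huI hvI
  have hvu : v ⬝ᵥ u = 0 := by rw [dotProduct_comm, huv]
  have hxu : x.1 u = -u := by rw [hxdef, pair_apply hu hv huv, hu, hvu]; module
  have hxv : x.1 v = -v := by rw [hxdef, pair_apply hu hv huv, hv, huv]; module
  have hxw : ∀ w, u ⬝ᵥ w = 0 → v ⬝ᵥ w = 0 → x.1 w = w := fun w h1 h2' => by
    rw [hxdef, pair_apply hu hv huv, h1, h2']; simp
  have hxx : x * x = 1 := orth_ext fun w => by
    rw [coe_mul_apply, hxdef, pair_apply hu hv huv, pair_apply hu hv huv, coe_one_apply]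
    simp only [dotProduct_sub, dotProduct_smul, hu, hv, huv, hvu, smul_eq_mul]
    module
  -- the involution attached to four coordinates
  have key : ∀ W : Finset ι, W ⊆ I → W.card = 4 →
      ∃ (z : orth (sq ι F)) (π : Equiv.Perm ι) (μ : ι → F) (ε : F),
        z ∈ H ∧ z * z = 1 ∧ z ≠ 1 ∧ Commute x z ∧
        (∀ a, z.1 (bv a) = μ a • bv (π a)) ∧ (∀ a, μ a * μ a = 1) ∧
        (∀ j, j ∉ I → z.1 (bv j) = bv j) ∧ (∀ a ∈ I, (a ∈ W ↔ π a ∈ W)) ∧
        (∃ a ∈ I, π a ≠ a) ∧ (ε * ε = 1) ∧
        (∀ w, u ⬝ᵥ w = 0 → v ⬝ᵥ w = 0 → (∀ j ∈ W, w j = 0) → z.1 w = w) ∧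
        (∀ w, u ⬝ᵥ w = 0 → v ⬝ᵥ w = 0 → (∀ j, j ∉ W → w j = 0) → z.1 w = ε • w) ∧
        (∀ w, x.1 w = -w → (∀ j ∈ W, w j = 0) → z.1 w = ε • w) := by
    intro W hWI hW
    obtain ⟨w₁, w₂, w₃, w₄, h12, h13, h14, h23, h24, h34, hWeq⟩ := card_eq_four.mp hW
    set y := (rf (sq ι F) (bv w₁) * rf (sq ι F) (bv w₂)) *
      (rf (sq ι F) (bv w₃) * rf (sq ι F) (bv w₄)) with hy
    have hyH : y ∈ H := mul_mem (O.pair _ _) (O.pair _ _)
    have hyap : ∀ w j, y.1 w j = if j ∈ W then -w j else w j := fun w j => by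
      simp only [hy, coe_mul_apply, rf_bv_apply, hWeq, mem_insert, mem_singleton]
      by_cases j1 : j = w₁
      · subst j1; simp [h12, h13, h14]
      by_cases j2 : j = w₂
      · subst j2; simp [j1, h23, h24]
      by_cases j3 : j = w₃
      · subst j3; simp [j1, j2, h34]
      simp [j1, j2, j3]
      by_cases j4 : j = w₄
      · subst j4; simp
      · simp [j4]
    have hyy : y * y = 1 := orth_ext fun w => funext fun j => by
      rw [coe_mul_apply, hyap, hyap, coe_one_apply]
      by_cases h : j ∈ W <;> simp [h]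
    have htx : tr x = (Fintype.card ι : F) - 4 := by
      have e : ∀ a, x.1 (bv a) a = 1 - 2 * (u a * u a) - 2 * (v a * v a) := fun a => by
        rw [hxdef, pair_apply hu hv huv]; simp [mul_assoc]
      have e1 : ∑ a, u a * u a = 1 := hu
      have e2 : ∑ a, v a * v a = 1 := hv
      simp only [tr, e, sum_sub_distrib, sum_const, card_univ, nsmul_eq_mul, mul_one, ← mul_sum,
        e1, e2]
      ring
    have hty : tr y = (Fintype.card ι : F) - 8 := by
      have e : ∀ a, y.1 (bv a) a = 1 - if a ∈ W then 2 else 0 := fun a => by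
        rw [hyap]; by_cases h : a ∈ W <;> simp [h]; norm_num
      simp only [tr, e, sum_sub_distrib, sum_const, card_univ, nsmul_eq_mul, mul_one, sum_ite_mem,
        univ_inter, hW]
      norm_num
    obtain ⟨m, hzz, hz1, hcx, hcy⟩ := exists_dihedral_pow hxx hyy (by
      rw [htx, hty]
      intro h
      have : (2 : F) * 2 = 0 := by linear_combination h
      exact h2 (mul_self_eq_zero.mp this))
    set z := (x * y) ^ m with hz
    have hzH : z ∈ H := pow_mem (mul_mem hx hyH) m
    have hyI : ∀ j, j ∉ I → y.1 (bv j) = bv j := fun j hj => funext fun k => by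
      rw [hyap]
      by_cases hk : k ∈ W
      · simp [hk, show k ≠ j from fun e => hj (e ▸ hWI hk)]
      · simp [hk]
    have hzI : Fixes I z := fun j hj => by
      have := pow_apply_eigen (g := x * y) (w := bv j) (s := 1)
        (by rw [coe_mul_apply, hyI j hj, hxI j hj, one_smul]) m
      rwa [one_pow, one_smul] at this
    have hzb : ∀ a, ∀ j, z.1 (bv a) j ≠ 0 → (a ∈ W ↔ j ∈ W) := by
      intro a j hne
      have e : y.1 (z.1 (bv a)) = z.1 (y.1 (bv a)) := by
        rw [← coe_mul_apply, hcy.eq, coe_mul_apply]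
      have e' := congrFun e j
      have hya : y.1 (bv a) = (if a ∈ W then -1 else 1 : F) • bv a := funext fun k => by
        rw [hyap]
        by_cases hk : k = a
        · subst hk; by_cases h : k ∈ W <;> simp [h]
        · simp [hk]
      rw [hyap, hya, map_smul, Pi.smul_apply, smul_eq_mul] at e'
      by_cases ha : a ∈ W <;> by_cases hj : j ∈ W <;> simp [ha, hj] at e' ⊢
      · exact hne ((mul_eq_zero.mp (show (2 : F) * z.1 (bv a) j = 0 by linear_combination e')).resolve_left h2)
      · exact hne ((mul_eq_zero.mp (show (2 : F) * z.1 (bv a) j = 0 by linear_combination -e')).resolve_left h2)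
    have hzm : Mono z := mono_of_block P O hI hNC hWI
      (card_pos.mp (by omega)) (fun e => by rw [e] at hW; omega) hzH hzI
      (fun a _ j _ h => hzb a j h)
    obtain ⟨π, μ, hπ, hμ⟩ := hzm.exists_perm h2
    have eig : ∀ w, ∀ s t : F, x.1 w = s • w → y.1 w = t • w → z.1 w = (s * t) ^ m • w :=
      fun w s t h1 h2' => pow_apply_eigen (by
        rw [coe_mul_apply, h2', map_smul, h1, smul_smul, mul_comm]) m
    have hout : ∀ w, (∀ j ∈ W, w j = 0) → y.1 w = (1 : F) • w := fun w hw => funext fun j => by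
      rw [hyap, one_smul]; by_cases hj : j ∈ W <;> simp [hj, hw]
    have hin : ∀ w, (∀ j, j ∉ W → w j = 0) → y.1 w = (-1 : F) • w := fun w hw => funext fun j => by
      rw [hyap]; by_cases hj : j ∈ W <;> simp [hj, hw]
    refine ⟨z, π, μ, (-1) ^ m, hzH, hzz, hz1, hcx, hπ, hμ, hzI, fun a _ => ?_, ?_, ?_, ?_, ?_, ?_⟩
    · refine hzb a (π a) ?_
      rw [hπ]; simp
      intro h0; exact absurd (hμ a) (by rw [h0]; simp)
    · -- not diagonal
      by_contra hdiag
      simp only [not_exists, not_and, not_not] at hdiag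
      set W' := I.filter fun a => μ a = -1 with hW'
      have hzd : ∀ a ∈ I, z.1 (bv a) = μ a • bv a := fun a ha => by rw [hπ, hdiag a ha]
      by_cases hW'0 : W'.Nonempty
      swap
      · refine hz1 (orth_ext fun w => funext fun j => ?_)
        have hall : ∀ a, z.1 (bv a) = bv a := fun a => by
          by_cases ha : a ∈ I
          · rw [hzd a ha, (mul_self_eq_one_iff.mp (hμ a)).resolve_right (fun h =>
              hW'0 ⟨a, mem_filter.mpr ⟨ha, h⟩⟩), one_smul]
          · exact hzI a ha
        have := dot_map z h2 (bv j) w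
        rw [hall, bv_dot, bv_dot] at this
        rw [this, coe_one_apply]
      by_cases hW'1 : W' = I
      · -- a fixed vector outside `W` orthogonal to the plane
        obtain ⟨a, ha, haW⟩ := exists_mem_notMem_of_card_lt_card (s := W) (t := I) (by omega)
        obtain ⟨b, hb, hbW⟩ := exists_mem_notMem_of_card_lt_card (s := insert a W) (t := I)
          (lt_of_le_of_lt (card_insert_le _ _) (by omega))
        obtain ⟨c, hc, hcW⟩ := exists_mem_notMem_of_card_lt_card (s := insert a (insert b W))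
          (t := I) (lt_of_le_of_lt (card_insert_le _ _) (by
            have := card_insert_le b W; omega))
        simp only [mem_insert, not_or] at hbW hcW
        have hneg : ∀ k ∈ I, z.1 (bv k) = -(bv k) := fun k hk => by
          rw [← hW'1, hW', mem_filter] at hk
          rw [hzd k hk.1, hk.2, neg_one_smul]
        refine three_false (d₁ := bv a) (d₂ := bv b) (d₃ := bv c) (u := u) (v := v) (x₁ := a)
          (x₂ := b) (x₃ := c) (by simp) (by simp) (by simp) (by simp [Ne.symm hbW.1])
          (by simp [Ne.symm hcW.1]) (by simp [hbW.1]) (by simp [Ne.symm hcW.2.1])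
          (by simp [hcW.1]) (by simp [hcW.2.1]) fun r s t h1 h2' => ?_
        rw [dotProduct_comm] at h1 h2'
        set w : ι → F := r • bv a + s • bv b + t • bv c
        have hf := eig w 1 1 (by rw [one_smul]; exact hxw w h1 h2') (hout w (fun j hj => by
          simp [w, show j ≠ a from fun e => haW (e ▸ hj), show j ≠ b from fun e => hbW.2 (e ▸ hj),
            show j ≠ c from fun e => hcW.2.2 (e ▸ hj)]))
        have hn : z.1 w = -w := by
          simp only [w, map_add, map_smul, hneg a ha, hneg b hb, hneg c hc, smul_neg, neg_add_rev]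
          abel
        rw [hn, one_mul, one_pow, one_smul] at hf
        have : (2 : F) • w = 0 := by rw [two_smul]; nth_rewrite 1 [← hf]; exact neg_add_cancel w
        exact (smul_eq_zero.mp this).resolve_left h2
      refine hnm (mono_of_block P O hI hNC (filter_subset _ _) hW'0 hW'1 hx hxI ?_)
      intro a ha j hj hne
      have hsign : ∀ k ∈ I, (k ∈ W' ↔ μ k = -1) := fun k hk => by simp [hW', hk]
      rw [hsign a ha, hsign j hj]
      have e : z.1 (x.1 (bv a)) = x.1 (z.1 (bv a)) := by
        rw [← coe_mul_apply, ← hcx.eq, coe_mul_apply]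
      have e2 := dot_map z h2 (bv j) (x.1 (bv a))
      rw [hzd j hj, e, hzd a ha, map_smul, smul_dotProduct, dotProduct_smul, bv_dot,
        smul_eq_mul, smul_eq_mul, ← mul_assoc] at e2
      have e3 : μ j * μ a = 1 := mul_right_cancel₀ hne (by rw [one_mul]; exact e2)
      have : μ j = μ a := by linear_combination μ a * e3 - μ j * hμ a
      rw [this]
    · rw [← mul_pow, neg_one_mul, neg_neg, one_pow]
    · intro w h1 h2' h3
      have := eig w 1 1 (by rw [one_smul]; exact hxw w h1 h2') (hout w h3)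
      rwa [one_mul, one_pow, one_smul] at this
    · intro w h1 h2' h3
      have := eig w 1 (-1) (by rw [one_smul]; exact hxw w h1 h2') (hin w h3)
      rwa [one_mul] at this
    · intro w h1 h3
      have := eig w (-1) 1 (by rw [neg_one_smul]; exact h1) (hout w h3)
      rwa [mul_one] at this
  have plane : ∀ z : orth (sq ι F), Commute x z → ∀ w, x.1 w = -w →
      z.1 w = (u ⬝ᵥ z.1 w) • u + (v ⬝ᵥ z.1 w) • v := fun z hc w hw =>
    mem_plane_iff h2 hu hv huv (by
      rw [← hxdef, ← coe_mul_apply, hc.eq, coe_mul_apply, hw, map_neg])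
  -- a non-singular vector of the plane with four zeros
  obtain ⟨α, β, W, hαβ, hWI, hW, hP⟩ : ∃ (α β : F) (W : Finset ι), α * α + β * β ≠ 0 ∧ W ⊆ I ∧
      W.card = 4 ∧ ∀ a ∈ W, α * u a + β * v a = 0 := by
    obtain ⟨d, hd⟩ : ∃ d, u d * u d + v d * v d ≠ 0 := by
      by_contra h
      simp only [not_exists, not_not] at h
      have : (u ⬝ᵥ u) + (v ⬝ᵥ v) = 0 := by
        rw [dotProduct, dotProduct, ← sum_add_distrib]
        exact sum_eq_zero fun a _ => h a
      rw [hu, hv, one_add_one_eq_two] at this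
      exact h2 this
    have hdI : d ∈ I := by
      by_contra h; exact hd (by rw [huI d h, hvI d h]; simp)
    set C := I.filter fun a => v d * u a + -u d * v a = 0 with hC
    by_cases hC4 : 4 ≤ C.card
    · obtain ⟨W, hW, hW4⟩ := exists_subset_card_eq hC4
      exact ⟨v d, -u d, W, by intro h; exact hd (by linear_combination h),
        hW.trans (filter_subset _ _), hW4, fun a ha => (mem_filter.mp (hW ha)).2⟩
    obtain ⟨W₃, hW₃, hW₃c⟩ : ∃ W₃ ⊆ I \ C, W₃.card = 3 := exists_subset_card_eq (by
      rw [card_sdiff_of_subset (show C ⊆ I from filter_subset _ _)]; omega)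
    have hdC : d ∈ C := mem_filter.mpr ⟨hdI, by ring⟩
    have hdW : d ∉ W₃ := fun h => (mem_sdiff.mp (hW₃ h)).2 hdC
    set W := insert d W₃ with hWdef
    have hWI : W ⊆ I := insert_subset hdI (hW₃.trans sdiff_subset)
    have hWc : W.card = 4 := by rw [hWdef, card_insert_of_notMem hdW, hW₃c]
    obtain ⟨z, π, μ, ε, hzH, hzz, hz1, hcx, hπ, hμ, hzI, hzW, ⟨a₀, ha₀, hmv⟩, -, hout, -, -⟩ :=
      key W hWI hWc
    have hinv := invol_perm hzz hπ hμ
    have hzu := plane z hcx u hxu
    have hzv := plane z hcx v hxv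
    have hz2 : ∀ w, z.1 (z.1 w) = w := fun w => by rw [← coe_mul_apply, hzz, coe_one_apply]
    set dd : ι → ι → F := fun a => bv a - z.1 (bv a) with hdd
    have hddz : ∀ a, z.1 (dd a) = -dd a := fun a => by simp [hdd, hz2]
    have hddW : ∀ a ∈ I, a ∉ W → ∀ j ∈ W, dd a j = 0 := fun a ha haW j hj => by
      simp [hdd, hπ, show j ≠ a from fun e => haW (e ▸ hj),
        show j ≠ π a from fun e => haW ((hzW a ha).mpr (e ▸ hj))]
    have hdual : ∀ s, ∀ c : F, z.1 s = c • s → c * c = 1 → ∀ a, s ⬝ᵥ z.1 (bv a) = c * s a :=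
      fun s c hs hc a => by
        have := dot_map z h2 s (bv a)
        rw [hs, smul_dotProduct, dot_bv, smul_eq_mul] at this
        linear_combination c * this - (s ⬝ᵥ z.1 (bv a)) * hc
    have hdd0 : ∀ s, z.1 s = -s → ∀ a, s a ≠ 0 → dd a a ≠ 0 := fun s hs a hsa h0 => by
      by_cases hπa : π a = a
      · have hμa : μ a = 1 := by
          simp [hdd, hπ, hπa] at h0; exact (sub_eq_zero.mp h0).symm
        have := hdual s (-1) (by rw [neg_one_smul]; exact hs) (by ring) a
        rw [hπ, hπa, hμa, one_smul, dot_bv] at this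
        exact hsa ((mul_eq_zero.mp (show (2 : F) * s a = 0 by linear_combination this)).resolve_left h2)
      · simp [hdd, hπ, Ne.symm hπa] at h0
    have kill : ∀ w, (∀ j ∈ W, w j = 0) → z.1 w = -w → w ⬝ᵥ u = 0 → w ⬝ᵥ v = 0 → w = 0 :=
      fun w h1 h3 h4 h5 => by
        rw [dotProduct_comm] at h4 h5
        have := hout w h4 h5 h1
        rw [h3] at this
        have : (2 : F) • w = 0 := by rw [two_smul]; nth_rewrite 1 [← this]; exact neg_add_cancel w
        exact (smul_eq_zero.mp this).resolve_left h2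
    by_cases hplus : z.1 u = u ∧ z.1 v = v
    · exfalso
      have hfixJ : ∀ a ∈ I, a ∉ W → z.1 (bv a) = bv a := fun a ha haW => by
        refine (sub_eq_zero.mp (kill (dd a) (hddW a ha haW) (hddz a) ?_ ?_)).symm
        · rw [hdd, sub_dotProduct, bv_dot, dotProduct_comm,
            hdual u 1 (by rw [one_smul]; exact hplus.1) (by ring), one_mul, sub_self]
        · rw [hdd, sub_dotProduct, bv_dot, dotProduct_comm,
            hdual v 1 (by rw [one_smul]; exact hplus.2) (by ring), one_mul, sub_self]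
      have hmvW : a₀ ∈ W := by
        by_contra h
        have := hfixJ a₀ ha₀ h
        rw [hπ] at this
        have := congrFun this a₀
        simp [Ne.symm hmv] at this
      have hru : ∀ a, μ a * u (π a) = u a := fun a => by
        have := hdual u 1 (by rw [one_smul]; exact hplus.1) (by ring) a
        rwa [hπ, dotProduct_smul, dot_bv, smul_eq_mul, one_mul] at this
      have hrv : ∀ a, μ a * v (π a) = v a := fun a => by
        have := hdual v 1 (by rw [one_smul]; exact hplus.2) (by ring) a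
        rwa [hπ, dotProduct_smul, dot_bv, smul_eq_mul, one_mul] at this
      have hπd : π d = d := by
        by_contra hne
        have hm : π d ∈ W₃ := by
          have := (hzW d hdI).mp (mem_insert_self _ _)
          rw [hWdef, mem_insert] at this
          exact this.resolve_left hne
        refine (mem_sdiff.mp (hW₃ hm)).2 (mem_filter.mpr ⟨(mem_sdiff.mp (hW₃ hm)).1, ?_⟩)
        linear_combination -(u (π d)) * hrv d + v (π d) * hru d
      have hfix : ∀ a ∈ I, π a = a → z.1 (bv a) = bv a := fun a ha h => by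
        have hμ1 : μ a = 1 := by
          have e1 := hru a; have e2 := hrv a
          rw [h] at e1 e2
          rcases hrow a ha with hne | hne
          · exact mul_right_cancel₀ hne (by rw [one_mul]; exact e1)
          · exact mul_right_cancel₀ hne (by rw [one_mul]; exact e2)
        rw [hπ, h, hμ1, one_smul]
      set b₀ := π a₀ with hb₀
      have hb₀W : b₀ ∈ W := (hzW a₀ ha₀).mp hmvW
      have hfixall : ∀ j, j ≠ a₀ → j ≠ b₀ → z.1 (bv j) = bv j := by
        intro j hja hjb
        by_cases hjI : j ∈ I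
        swap
        · exact hzI j hjI
        by_cases hjW : j ∈ W
        swap
        · exact hfixJ j hjI hjW
        refine hfix j hjI ?_
        by_contra hπj
        have had : a₀ ≠ d := fun e => hmv (by rw [hb₀, e, hπd])
        have hbd : b₀ ≠ d := fun e => had (by
          have := hinv a₀; rw [← hb₀, e, hπd] at this; exact this.symm)
        have hjd : j ≠ d := fun e => hπj (by rw [e, hπd])
        have hjd' : π j ≠ d := fun e => hjd (by
          have := hinv j; rw [e, hπd] at this; exact this.symm)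
        have e1 : π j ≠ a₀ := fun e => hjb (by rw [hb₀, ← e, hinv])
        have e2 : π j ≠ b₀ := fun e => hja (π.injective e)
        have hsub : ({a₀, b₀, j, π j} : Finset ι) ⊆ W₃ := by
          intro k hk
          simp only [mem_insert, mem_singleton] at hk
          have hkW : k ∈ W ∧ k ≠ d := by
            rcases hk with rfl | rfl | rfl | rfl
            exacts [⟨hmvW, had⟩, ⟨hb₀W, hbd⟩, ⟨hjW, hjd⟩, ⟨(hzW _ hjI).mp hjW, hjd'⟩]
          rw [hWdef, mem_insert] at hkW
          exact hkW.1.resolve_left hkW.2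
        have := card_le_card hsub
        rw [card_insert_of_notMem (by simp [Ne.symm hmv, Ne.symm hja, e1.symm]),
          card_insert_of_notMem (by simp [Ne.symm hjb, e2.symm]), card_pair (Ne.symm hπj),
          hW₃c] at this
        omega
      have hμeq : μ b₀ = μ a₀ := by
        have e := congrFun (hz2 (bv a₀)) a₀
        rw [hπ, map_smul, hπ, ← hb₀, show π b₀ = a₀ by rw [hb₀, hinv], smul_smul] at e
        simp at e
        linear_combination μ a₀ * e - μ b₀ * hμ a₀
      set s : ι → F := bv a₀ - μ a₀ • bv b₀ with hs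
      have hab : a₀ ≠ b₀ := Ne.symm hmv
      have hss : s ⬝ᵥ s = 2 := by
        rw [hs]; simp [sub_dotProduct, dotProduct_sub, hab, hab.symm]
        linear_combination hμ a₀
      have hzs : z = rf (sq ι F) s := orth_ext fun w => by
        have hsw : ∀ j, z.1 (bv j) = (rf (sq ι F) s).1 (bv j) := fun j => by
          rw [rf_sq_apply, hss, dot_bv, mul_div_assoc, mul_comm, div_mul_cancel₀ _ h2]
          by_cases hja : j = a₀
          · subst hja; rw [hπ, ← hb₀, hs]; simp [hab]
          by_cases hjb : j = b₀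
          · subst hjb
            rw [hπ, hμeq, show π b₀ = a₀ by rw [hb₀, hinv], hs]
            simp [Ne.symm hab]
            rw [smul_sub, smul_smul, hμ, one_smul]
            abel
          · rw [hfixall j hja hjb, hs]; simp [hja, hjb]
        exact LinearMap.congr_fun ((Pi.basisFun F ι).ext (f₁ := z.1.toLinearMap)
          (f₂ := (rf (sq ι F) s).1.toLinearMap) fun j => by
            rw [Pi.basisFun_apply]; exact hsw j) w
      have hd1 := congrArg Units.val (O.det z hzH)
      rw [hzs, dt_rf _ (by rw [sq_apply, hss]; exact h2)] at hd1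
      simp at hd1
      exact h2 (by linear_combination -hd1)
    by_cases hminus : z.1 u = -u ∧ z.1 v = -v
    · exfalso
      have hcard : 6 ≤ (I \ W).card := by rw [card_sdiff_of_subset hWI]; omega
      obtain ⟨a, ha⟩ := card_pos.mp (show 0 < (I \ W).card by omega)
      obtain ⟨b, hb, hb'⟩ := exists_mem_notMem_of_card_lt_card (s := {a, π a}) (t := I \ W)
        (card_le_two.trans_lt (by omega))
      obtain ⟨c, hc, hc'⟩ := exists_mem_notMem_of_card_lt_card (s := {a, π a, b, π b}) (t := I \ W)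
        (card_le_four.trans_lt (by omega))
      simp only [mem_insert, mem_singleton, not_or] at hb' hc'
      have sw : ∀ {s t : ι}, t ≠ π s → s ≠ π t := fun {s t} hne e => hne (by rw [e, hinv])
      have hzero : ∀ s j, j ≠ s → j ≠ π s → dd s j = 0 := fun s j h1 h3 => by simp [hdd, hπ, h1, h3]
      have hne : ∀ k ∈ I, dd k k ≠ 0 := fun k hk => by
        rcases hrow k hk with h | h
        · exact hdd0 u hminus.1 k h
        · exact hdd0 v hminus.2 k h
      rw [mem_sdiff] at ha hb hc
      refine three_false (u := u) (v := v) (hne a ha.1) (hne b hb.1) (hne c hc.1)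
        (hzero b a (Ne.symm hb'.1) (sw hb'.2)) (hzero c a (Ne.symm hc'.1) (sw hc'.2.1))
        (hzero a b hb'.1 hb'.2) (hzero c b (Ne.symm hc'.2.2.1) (sw hc'.2.2.2))
        (hzero a c hc'.1 hc'.2.1) (hzero b c hc'.2.2.1 hc'.2.2.2) fun r s t h1 h2' =>
        kill _ (fun j hj => by
          simp [hddW a ha.1 ha.2 j hj, hddW b hb.1 hb.2 j hj, hddW c hc.1 hc.2 j hj])
          (by simp only [map_add, map_smul, hddz]; module) h1 h2'
    -- one eigenvector of each kind
    obtain ⟨α, β, hpne, hzp⟩ : ∃ α β : F, α • u + β • v ≠ 0 ∧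
        z.1 (α • u + β • v) = -(α • u + β • v) := by
      by_cases h : z.1 u = u
      · have hv' : z.1 v ≠ v := fun h' => hplus ⟨h, h'⟩
        refine ⟨-(u ⬝ᵥ z.1 v), 1 - v ⬝ᵥ z.1 v, ?_, ?_⟩ <;>
          rw [show -(u ⬝ᵥ z.1 v) • u + (1 - v ⬝ᵥ z.1 v) • v = v - z.1 v by
            conv_rhs => rw [hzv]
            module]
        · exact sub_ne_zero.mpr (Ne.symm hv')
        · rw [map_sub, hz2, neg_sub]
      · refine ⟨1 - u ⬝ᵥ z.1 u, -(v ⬝ᵥ z.1 u), ?_, ?_⟩ <;>
          rw [show (1 - u ⬝ᵥ z.1 u) • u + -(v ⬝ᵥ z.1 u) • v = u - z.1 u by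
            conv_rhs => rw [hzu]
            module]
        · exact sub_ne_zero.mpr (Ne.symm h)
        · rw [map_sub, hz2, neg_sub]
    obtain ⟨γ, δ, hrne, hzr⟩ : ∃ γ δ : F, γ • u + δ • v ≠ 0 ∧
        z.1 (γ • u + δ • v) = γ • u + δ • v := by
      by_cases h : z.1 u = -u
      · have hv' : z.1 v ≠ -v := fun h' => hminus ⟨h, h'⟩
        refine ⟨u ⬝ᵥ z.1 v, 1 + v ⬝ᵥ z.1 v, ?_, ?_⟩ <;>
          rw [show (u ⬝ᵥ z.1 v) • u + (1 + v ⬝ᵥ z.1 v) • v = z.1 v + v by
            conv_rhs => arg 1; rw [hzv]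
            module]
        · exact fun e => hv' (eq_neg_of_add_eq_zero_left e)
        · rw [map_add, hz2, add_comm]
      · refine ⟨1 + u ⬝ᵥ z.1 u, v ⬝ᵥ z.1 u, ?_, ?_⟩ <;>
          rw [show (1 + u ⬝ᵥ z.1 u) • u + (v ⬝ᵥ z.1 u) • v = z.1 u + u by
            conv_rhs => arg 1; rw [hzu]
            module]
        · exact fun e => h (eq_neg_of_add_eq_zero_left e)
        · rw [map_add, hz2, add_comm]
    set P' := α • u + β • v with hP'
    set R' := γ • u + δ • v with hR'
    have hexp : ∀ a b c e : F, (a • u + b • v) ⬝ᵥ (c • u + e • v) = a * c + b * e :=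
      fun a b c e => by
        simp only [add_dotProduct, dotProduct_add, smul_dotProduct, dotProduct_smul, smul_eq_mul,
          hu, hv, huv, hvu]; ring
    have hperp : α * γ + β * δ = 0 := by
      have e := dot_map z h2 P' R'
      rw [hzp, hzr, neg_dotProduct, hP', hR', hexp] at e
      exact (mul_eq_zero.mp (show (2 : F) * (α * γ + β * δ) = 0 by linear_combination -e)).resolve_left h2
    have hαβ : α * α + β * β ≠ 0 := by
      intro h0
      have hα0 : α ≠ 0 := fun e => hpne (by
        rw [e] at h0; simp at h0; rw [hP', e, h0]; simp)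
      have e : R' = (-(β * δ) / (α * α)) • P' := by
        rw [hR', hP', smul_add, smul_smul, smul_smul]
        congr 2
        · field_simp; linear_combination hperp
        · field_simp; linear_combination δ * h0
      have e2 := hzr
      rw [e, map_smul, hzp, smul_neg] at e2
      have : (2 : F) • R' = 0 := by
        rw [two_smul, e]; nth_rewrite 1 [← e2]; exact neg_add_cancel _
      exact hrne ((smul_eq_zero.mp this).resolve_left h2)
    have hPR : ∀ w, w ⬝ᵥ P' = 0 → w ⬝ᵥ R' = 0 → w ⬝ᵥ u = 0 ∧ w ⬝ᵥ v = 0 := by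
      intro w h1 h3
      rw [hP', dotProduct_add, dotProduct_smul, dotProduct_smul, smul_eq_mul, smul_eq_mul] at h1
      rw [hR', dotProduct_add, dotProduct_smul, dotProduct_smul, smul_eq_mul, smul_eq_mul] at h3
      have hdet : α * δ - β * γ ≠ 0 := by
        intro h0
        have h5 : δ * (α * α + β * β) = 0 := by linear_combination α * h0 + β * hperp
        have h6 : γ * (α * α + β * β) = 0 := by linear_combination -β * h0 + α * hperp
        refine hrne ?_
        rw [hR', (mul_eq_zero.mp h5).resolve_right hαβ, (mul_eq_zero.mp h6).resolve_right hαβ]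
        simp
      refine ⟨?_, ?_⟩
      · exact (mul_eq_zero.mp (show (α * δ - β * γ) * (w ⬝ᵥ u) = 0 by
          linear_combination δ * h1 - β * h3)).resolve_left hdet
      · exact (mul_eq_zero.mp (show (α * δ - β * γ) * (w ⬝ᵥ v) = 0 by
          linear_combination α * h3 - γ * h1)).resolve_left hdet
    have hddR : ∀ a, dd a ⬝ᵥ R' = 0 := fun a => by
      rw [hdd, sub_dotProduct, bv_dot, dotProduct_comm,
        hdual R' 1 (by rw [one_smul]; exact hzr) (by ring), one_mul, sub_self]
    have two : ∀ a ∈ I, a ∉ W → ∀ b ∈ I, b ∉ W → P' a ≠ 0 → P' b ≠ 0 → b = a ∨ b = π a := by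
      intro a ha haW b hb hbW hPa hPb
      by_contra hcon
      rw [not_or] at hcon
      set A := dd a ⬝ᵥ P'
      set B := dd b ⬝ᵥ P'
      have na := hdd0 P' hzp a hPa
      have nb := hdd0 P' hzp b hPb
      have za : dd b a = 0 := by
        simp [hdd, hπ, Ne.symm hcon.1,
          show a ≠ π b from fun e => hcon.2 (by rw [e, hinv])]
      have zb : dd a b = 0 := by simp [hdd, hπ, hcon.1, hcon.2]
      have comb : ∀ r s : F, r * A + s * B = 0 → r • dd a + s • dd b = 0 := fun r s hrs => by
        have hw0 : (r • dd a + s • dd b) ⬝ᵥ P' = 0 := by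
          rw [add_dotProduct, smul_dotProduct, smul_dotProduct, smul_eq_mul, smul_eq_mul]; exact hrs
        have hw1 : (r • dd a + s • dd b) ⬝ᵥ R' = 0 := by
          rw [add_dotProduct, smul_dotProduct, smul_dotProduct, hddR, hddR]; simp
        exact kill _ (fun j hj => by simp [hddW a ha haW j hj, hddW b hb hbW j hj])
          (by simp only [map_add, map_smul, hddz]; module) (hPR _ hw0 hw1).1 (hPR _ hw0 hw1).2
      by_cases hA : A = 0
      · have := congrFun (comb 1 0 (by rw [hA]; ring)) a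
        simp at this; exact na this
      · have := congrFun (comb B (-A) (by ring)) b
        simp [zb] at this
        rcases this with h | h
        · exact hA h
        · exact nb h
    have hzero : 4 ≤ (I.filter fun a => α * u a + β * v a = 0).card := by
      obtain ⟨T, hT, hTc⟩ : ∃ T : Finset ι, (∀ a ∈ I, P' a ≠ 0 → a ∈ T) ∧ T.card ≤ 6 := by
        by_cases h : ∃ a ∈ I, a ∉ W ∧ P' a ≠ 0
        · obtain ⟨a, ha, haW, hPa⟩ := h
          refine ⟨W ∪ {a, π a}, fun b hb hPb => ?_,
            (card_union_le _ _).trans (by have := card_le_two (a := a) (b := π a); omega)⟩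
          by_cases hbW : b ∈ W
          · exact mem_union_left _ hbW
          · exact mem_union_right _ (by simpa using two a ha haW b hb hbW hPa hPb)
        · simp only [not_exists, not_and, not_not] at h
          exact ⟨W, fun b hb hPb => by_contra fun hbW => hPb (h b hb hbW), by omega⟩
      have hsub : I \ T ⊆ I.filter fun a => α * u a + β * v a = 0 := fun a ha => by
        rw [mem_sdiff] at ha
        refine mem_filter.mpr ⟨ha.1, ?_⟩
        by_contra hne
        exact ha.2 (hT a ha.1 (by simpa [hP'] using hne))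
      have := card_le_card hsub
      have := le_card_sdiff T I
      omega
    obtain ⟨W', hW', hW'4⟩ := exists_subset_card_eq hzero
    exact ⟨α, β, W', hαβ, hW'.trans (filter_subset _ _), hW'4,
      fun a ha => (mem_filter.mp (hW' ha)).2⟩
  -- conclusion
  obtain ⟨z, π, μ, ε, hzH, hzz, hz1, hcx, hπ, hμ, hzI, hzW, -, hε, hout, hin, hmix⟩ :=
    key W hWI hW
  set P' := α • u + β • v with hP'
  set Q' := (-β) • u + α • v with hQ'
  have hPW : ∀ a ∈ W, P' a = 0 := fun a ha => by simpa [hP'] using hP a ha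
  have hQW : ∀ a ∈ W, Q' a ≠ 0 := fun a ha h0 => by
    simp [hQ'] at h0
    have e1 : (α * α + β * β) * u a = 0 := by linear_combination α * hP a ha - β * h0
    have e2 : (α * α + β * β) * v a = 0 := by linear_combination β * hP a ha + α * h0
    rcases hrow a (hWI ha) with h | h
    · exact h ((mul_eq_zero.mp e1).resolve_left hαβ)
    · exact h ((mul_eq_zero.mp e2).resolve_left hαβ)
  have hxP : x.1 P' = -P' := by
    rw [hP', map_add, map_smul, map_smul, hxu, hxv]; module
  have hzP : z.1 P' = ε • P' := hmix P' hxP hPW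
  have hinv := invol_perm hzz hπ hμ
  -- `z` is `ε` on the four coordinates
  have hWfix : ∀ a ∈ W, z.1 (bv a) = ε • bv a := by
    intro a ha
    have step : ∀ c ∈ W, c ≠ a → π a = a ∧ μ a = ε ∨ π a = c := by
      intro c hc hca
      set w : ι → F := Q' c • bv a - Q' a • bv c with hw
      have hwP : P' ⬝ᵥ w = 0 := by
        rw [hw, dotProduct_sub, dotProduct_smul, dotProduct_smul, dot_bv, dot_bv, hPW a ha,
          hPW c hc]; simp
      have hwQ : Q' ⬝ᵥ w = 0 := by
        rw [hw, dotProduct_sub, dotProduct_smul, dotProduct_smul, dot_bv, dot_bv, smul_eq_mul,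
          smul_eq_mul]; ring
      rw [hP', add_dotProduct, smul_dotProduct, smul_dotProduct, smul_eq_mul, smul_eq_mul] at hwP
      rw [hQ', add_dotProduct, smul_dotProduct, smul_dotProduct, smul_eq_mul, smul_eq_mul] at hwQ
      have hwu : u ⬝ᵥ w = 0 := (mul_eq_zero.mp (show (α * α + β * β) * (u ⬝ᵥ w) = 0 by
        linear_combination α * hwP - β * hwQ)).resolve_left hαβ
      have hwv : v ⬝ᵥ w = 0 := (mul_eq_zero.mp (show (α * α + β * β) * (v ⬝ᵥ w) = 0 by
        linear_combination β * hwP + α * hwQ)).resolve_left hαβ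
      have e := hin w hwu hwv (fun j hj => by
        simp [hw, show j ≠ a from fun e => hj (e ▸ ha), show j ≠ c from fun e => hj (e ▸ hc)])
      rw [hw, map_sub, map_smul, map_smul, hπ, hπ] at e
      have e1 := congrFun e (π a)
      have hpc : π a ≠ π c := fun h => hca (π.injective h).symm
      by_cases h1 : π a = a
      · left
        refine ⟨h1, ?_⟩
        rw [h1] at hpc e1
        simp [hpc, hca.symm] at e1
        exact mul_left_cancel₀ (hQW c hc) (by linear_combination e1)
      · right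
        by_contra h3
        simp [hpc, h1, h3] at e1
        rcases e1 with h | h
        · exact hQW c hc h
        · exact absurd (hμ a) (by rw [h]; simp)
    obtain ⟨c, hc, hca⟩ := exists_mem_notMem_of_card_lt_card (s := {a}) (t := W) (by simp; omega)
    obtain ⟨c', hc', hca'⟩ := exists_mem_notMem_of_card_lt_card (s := {a, c}) (t := W)
      (card_le_two.trans_lt (by omega))
    simp only [mem_insert, mem_singleton, not_or] at hca hca'
    rcases step c hc hca with ⟨h1, h3⟩ | h1
    · rw [hπ, h1, h3]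
    · rcases step c' hc' hca'.1 with ⟨h1', h3⟩ | h1'
      · rw [hπ, h1', h3]
      · exact absurd (h1.symm.trans h1') (Ne.symm hca'.2)
  have hexp : ∀ a b c e : F, (a • u + b • v) ⬝ᵥ (c • u + e • v) = a * c + b * e :=
    fun a b c e => by
      simp only [add_dotProduct, dotProduct_add, smul_dotProduct, dotProduct_smul, smul_eq_mul,
        hu, hv, huv, hvu]; ring
  have hzQ : z.1 Q' = ε • Q' := by
    have hpl := plane z hcx Q' (by rw [hQ', map_add, map_smul, map_smul, hxu, hxv]; module)
    generalize u ⬝ᵥ z.1 Q' = γ at hpl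
    generalize v ⬝ᵥ z.1 Q' = δ at hpl
    have hperp : α * γ + β * δ = 0 := by
      have e := dot_map z h2 P' Q'
      rw [hzP, smul_dotProduct, hpl, hP', hQ', hexp, hexp, smul_eq_mul] at e
      have hε0 : ε ≠ 0 := fun h => by rw [h] at hε; simp at hε
      exact (mul_eq_zero.mp (show ε * (α * γ + β * δ) = 0 by linear_combination e)).resolve_left hε0
    set k := (α * δ - β * γ) / (α * α + β * β) with hk
    have hkk : k * (α * α + β * β) = α * δ - β * γ := by rw [hk, div_mul_cancel₀ _ hαβ]
    have ek : z.1 Q' = k • Q' := by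
      rw [hpl, hQ', smul_add, smul_smul, smul_smul]
      congr 2
      · refine mul_right_cancel₀ hαβ ?_
        linear_combination α * hperp + β * hkk
      · refine mul_right_cancel₀ hαβ ?_
        linear_combination β * hperp - α * hkk
    obtain ⟨a, ha⟩ := card_pos.mp (show 0 < W.card by omega)
    have e := dot_map z h2 Q' (bv a)
    rw [ek, hWfix a ha, smul_dotProduct, dotProduct_smul, dot_bv, smul_eq_mul, smul_eq_mul] at e
    have : k = ε := mul_right_cancel₀ (hQW a ha) (by linear_combination ε * e - k * Q' a * hε)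
    rw [ek, this]
  have hzu : z.1 u = ε • u ∧ z.1 v = ε • v := by
    have eu : u = (α * α + β * β)⁻¹ • (α • P' + (-β) • Q') := by
      rw [show α • P' + (-β) • Q' = (α * α + β * β) • u by rw [hP', hQ']; module, smul_smul,
        inv_mul_cancel₀ hαβ, one_smul]
    have ev : v = (α * α + β * β)⁻¹ • (β • P' + α • Q') := by
      rw [show β • P' + α • Q' = (α * α + β * β) • v by rw [hP', hQ']; module, smul_smul,
        inv_mul_cancel₀ hαβ, one_smul]
    constructor
    · rw [eu, map_smul, map_add, map_smul, map_smul, hzP, hzQ]; module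
    · rw [ev, map_smul, map_add, map_smul, map_smul, hzP, hzQ]; module
  have hz2 : ∀ w, z.1 (z.1 w) = w := fun w => by rw [← coe_mul_apply, hzz, coe_one_apply]
  have hdual : ∀ a, u ⬝ᵥ z.1 (bv a) = ε * u a ∧ v ⬝ᵥ z.1 (bv a) = ε * v a := fun a => by
    have e1 := dot_map z h2 u (bv a)
    have e2 := dot_map z h2 v (bv a)
    rw [hzu.1, smul_dotProduct, dot_bv, smul_eq_mul] at e1
    rw [hzu.2, smul_dotProduct, dot_bv, smul_eq_mul] at e2
    exact ⟨by linear_combination ε * e1 - (u ⬝ᵥ z.1 (bv a)) * hε,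
      by linear_combination ε * e2 - (v ⬝ᵥ z.1 (bv a)) * hε⟩
  set dd : ι → ι → F := fun a => bv a - z.1 (bv a) with hdd
  have hddz : ∀ a, z.1 (dd a) = -dd a := fun a => by simp [hdd, hz2]
  have hddW : ∀ a ∈ I, a ∉ W → ∀ j ∈ W, dd a j = 0 := fun a ha haW j hj => by
    simp [hdd, hπ, show j ≠ a from fun e => haW (e ▸ hj),
      show j ≠ π a from fun e => haW ((hzW a ha).mpr (e ▸ hj))]
  have kill : ∀ w, (∀ j ∈ W, w j = 0) → z.1 w = -w → w ⬝ᵥ u = 0 → w ⬝ᵥ v = 0 → w = 0 :=
    fun w h1 h3 h4 h5 => by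
      rw [dotProduct_comm] at h4 h5
      have := hout w h4 h5 h1
      rw [h3] at this
      have : (2 : F) • w = 0 := by rw [two_smul]; nth_rewrite 1 [← this]; exact neg_add_cancel w
      exact (smul_eq_zero.mp this).resolve_left h2
  rcases mul_self_eq_one_iff.mp hε with he | he
  · -- `z` is the identity
    refine hz1 (orth_ext fun w => funext fun j => ?_)
    have hall : z.1 (bv j) = bv j := by
      by_cases hjI : j ∈ I
      swap
      · exact hzI j hjI
      by_cases hjW : j ∈ W
      · rw [hWfix j hjW, he, one_smul]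
      refine (sub_eq_zero.mp (kill (dd j) (hddW j hjI hjW) (hddz j) ?_ ?_)).symm
      · rw [hdd, sub_dotProduct, bv_dot, dotProduct_comm, (hdual j).1, he, one_mul, sub_self]
      · rw [hdd, sub_dotProduct, bv_dot, dotProduct_comm, (hdual j).2, he, one_mul, sub_self]
    have := dot_map z h2 (bv j) w
    rw [hall, bv_dot, bv_dot] at this
    rw [this, coe_one_apply]
  · -- too many moved coordinates
    have hcard : 6 ≤ (I \ W).card := by rw [card_sdiff_of_subset hWI]; omega
    obtain ⟨a, ha⟩ := card_pos.mp (show 0 < (I \ W).card by omega)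
    obtain ⟨b, hb, hb'⟩ := exists_mem_notMem_of_card_lt_card (s := {a, π a}) (t := I \ W)
      (card_le_two.trans_lt (by omega))
    obtain ⟨c, hc, hc'⟩ := exists_mem_notMem_of_card_lt_card (s := {a, π a, b, π b}) (t := I \ W)
      (card_le_four.trans_lt (by omega))
    simp only [mem_insert, mem_singleton, not_or] at hb' hc'
    have sw : ∀ {s t : ι}, t ≠ π s → s ≠ π t := fun {s t} hne e => hne (by rw [e, hinv])
    have hzero : ∀ s j, j ≠ s → j ≠ π s → dd s j = 0 := fun s j h1 h3 => by simp [hdd, hπ, h1, h3]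
    have hne : ∀ k ∈ I, dd k k ≠ 0 := fun k hk h0 => by
      by_cases hπk : π k = k
      · have hμk : μ k = 1 := by
          simp [hdd, hπ, hπk] at h0; exact (sub_eq_zero.mp h0).symm
        have e1 := (hdual k).1; have e2 := (hdual k).2
        rw [hπ, hπk, hμk, one_smul, dot_bv, he] at e1 e2
        rcases hrow k hk with h | h
        · exact h ((mul_eq_zero.mp (show (2 : F) * u k = 0 by linear_combination e1)).resolve_left h2)
        · exact h ((mul_eq_zero.mp (show (2 : F) * v k = 0 by linear_combination e2)).resolve_left h2)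
      · simp [hdd, hπ, Ne.symm hπk] at h0
    rw [mem_sdiff] at ha hb hc
    exact three_false (u := u) (v := v) (hne a ha.1) (hne b hb.1) (hne c hc.1)
      (hzero b a (Ne.symm hb'.1) (sw hb'.2)) (hzero c a (Ne.symm hc'.1) (sw hc'.2.1))
      (hzero a b hb'.1 hb'.2) (hzero c b (Ne.symm hc'.2.2.1) (sw hc'.2.2.2))
      (hzero a c hc'.1 hc'.2.1) (hzero b c hc'.2.2.1 hc'.2.2.2) fun r s t h1 h2' =>
      kill _ (fun j hj => by
        simp [hddW a ha.1 ha.2 j hj, hddW b hb.1 hb.2 j hj, hddW c hc.1 hc.2 j hj])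
        (by simp only [map_add, map_smul, hddz]; module) h1 h2'

/-- Without coordinate images every element on `I` is monomial. -/
theorem all_mono [Finite F] {I : Finset ι} (hI : 10 ≤ I.card) (hNC : NC H I) {g : orth (sq ι F)}
    (hg : g ∈ H) (hgI : Fixes I g) : Mono g := by
  classical
  have h2 := P.two_ne
  refine mono_of_small P O hI hNC hg hgI fun a ha => ?_
  obtain ⟨b, hb, hba⟩ := exists_mem_notMem_of_card_lt_card (s := {a}) (t := I) (by simp; omega)
  have hab : a ≠ b := fun e => hba (by simp [e])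
  have n1 : ∀ c, g.1 (bv c) ⬝ᵥ g.1 (bv c) = 1 := fun c => by rw [dot_map g h2, bv_dot]; simp
  have hd : g.1 (bv a) ⬝ᵥ g.1 (bv b) = 0 := by
    rw [dot_map g h2, bv_dot]; simp [hab]
  have hm := mono_of_rotation P O hI hNC (n1 a) (n1 b) hd (col_zero P O hgI ha)
    (col_zero P O hgI hb) (conj_pair_mem P O hg a b)
  exact (card_le_card subset_union_left).trans
    (support_pair h2 (by rw [n1]; exact one_ne_zero) (by rw [n1]; exact one_ne_zero) hd hm).1

end Cfsg.Agent.ODec24
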