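import Cfsg.Agent.ODec24.Root
import Cfsg.Agent.ODec24.Block
import Cfsg.Agent.MaxSub.OrthVectorGL

/-!
The elements of `Ω` permuting the lines of an orthogonal decomposition form a maximal subgroup
(helper24).
-/

set_option autoImplicit false
set_option linter.unusedSectionVars false

namespace Cfsg.Agent.ODec24

open QuadraticMap Cfsg.Agent.UnitaryOrthogonal Finset
open scoped Matrix

section Coordinates

variable {ι : Type} [Fintype ι] [DecidableEq ι] {F : Type*} [Field F] [Finite F] {p : ℕ}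
variable {H : Subgroup (orth (sq ι F))} (P : PrimeOdd F p)

theorem mono_rf_bv (a : ι) : Mono (rf (sq ι F) (bv a)) := fun b => by
  by_cases h : b = a
  · exact ⟨b, -1, by rw [h, rf_apply_self (by rw [sq_bv]; exact one_ne_zero), neg_one_smul]⟩
  · exact ⟨b, 1, by
      rw [one_smul, rf_apply_of_polar (x := bv b) (by rw [polar_sq, bv_dot]; simp [Ne.symm h])]⟩

include P in
theorem mono_rf_add {a b : ι} (hab : a ≠ b) : Mono (rf (sq ι F) (bv a + bv b)) := fun c => by
  have key : ∀ j, (rf (sq ι F) (bv a + bv b)).1 (bv c) j =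
      if j = a then -bv c b else if j = b then -bv c a else bv c j :=
    fun j => rf_add_apply' P.two_ne hab _ j
  by_cases hca : c = a
  · refine ⟨b, -1, funext fun j => ?_⟩
    rw [key, hca]
    by_cases h1 : j = a
    · subst h1; simp [hab, Ne.symm hab]
    · by_cases h2 : j = b
      · subst h2; simp [h1]
      · simp [h1, h2]
  by_cases hcb : c = b
  · refine ⟨a, -1, funext fun j => ?_⟩
    rw [key, hcb]
    by_cases h1 : j = a
    · subst h1; simp
    · by_cases h2 : j = b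
      · subst h2; simp [h1, hab]
      · simp [h1, h2]
  · refine ⟨c, 1, funext fun j => ?_⟩
    rw [key, one_smul]
    by_cases h1 : j = a
    · subst h1; simp [Ne.symm hca, Ne.symm hcb]
    · by_cases h2 : j = b
      · subst h2; simp [h1, Ne.symm hca, Ne.symm hcb]
      · simp [h1, h2]

theorem mono_cyc (P : PrimeOdd F p) {a b o : ι} (hab : a ≠ b) (hbo : b ≠ o) :
    Mono (cyc (F := F) a b o) := (mono_rf_add P hab).mul (mono_rf_add P hbo)

theorem mul_self_eq_one_of_apply {g : orth (sq ι F)} {i a : ι} {c : F}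
    (h : g.1 (bv i) = c • bv a) : c * c = 1 := by
  have := map_form g (bv i : ι → F)
  rwa [h, form_smul, sq_bv, sq_bv, mul_one] at this

variable (O : Over H)
include P O

/-- A coordinate can be freed. -/
theorem exists_fix_one {I : Finset ι} (hI : 10 ≤ I.card) {g : orth (sq ι F)} (hg : g ∈ H)
    (hgI : Fixes I g) (hgm : ¬ Mono g) :
    ∃ i ∈ I, ∃ g' ∈ H, Fixes (I.erase i) g' ∧ ¬ Mono g' := by
  classical
  have h2 := P.two_ne
  have hNC : ¬ NC H I := fun hNC => hgm (all_mono P O hI hNC hg hgI)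
  simp only [NC, not_forall] at hNC
  obtain ⟨g₁, hg₁, hg₁I, i, hi, a, c, hc, hm⟩ := hNC
  have hcc := mul_self_eq_one_of_apply hc
  have ha : a ∈ I := by
    by_contra ha
    have := hg₁I.apply P (bv i) ha
    rw [hc] at this
    simp [show a ≠ i from fun e => ha (e ▸ hi)] at this
    rw [this] at hcc; simp at hcc
  obtain ⟨o, ho, ho'⟩ := exists_mem_notMem_of_card_lt_card (s := {i, a}) (t := I)
    (card_le_two.trans_lt (by omega))
  simp only [mem_insert, mem_singleton, not_or] at ho'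
  obtain ⟨k, hk, hkm, hkI, hka⟩ : ∃ k ∈ H, Mono k ∧ Fixes I k ∧
      k.1 (bv a) = (bv i : ι → F) := by
    by_cases hia : a = i
    · exact ⟨1, one_mem _, fun b => ⟨b, 1, by simp⟩, fun j _ => rfl, by rw [hia]; rfl⟩
    · refine ⟨cyc i o a, O.cyc_mem (Ne.symm ho'.1) ho'.2 (Ne.symm hia),
        mono_cyc P (Ne.symm ho'.1) ho'.2, fun j hj => ?_, cyc_bv h2 (Ne.symm ho'.1) ho'.2 (Ne.symm hia)⟩
      refine cyc_fix h2 (Ne.symm ho'.1) ho'.2 (Ne.symm hia) ?_ ?_ ?_
      · simp [show i ≠ j from fun e => hj (e ▸ hi)]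
      · simp [show o ≠ j from fun e => hj (e ▸ ho)]
      · simp [show a ≠ j from fun e => hj (e ▸ ha)]
  obtain ⟨s, hs, hsm, hsI, hsi⟩ : ∃ s ∈ H, Mono s ∧ Fixes I s ∧
      s.1 (c • bv i) = (bv i : ι → F) := by
    rcases mul_self_eq_one_iff.mp hcc with e | e
    · exact ⟨1, one_mem _, fun b => ⟨b, 1, by simp⟩, fun j _ => rfl, by rw [e, one_smul]; rfl⟩
    · refine ⟨rf (sq ι F) (bv i) * rf (sq ι F) (bv o), O.pair i o,
        (mono_rf_bv i).mul (mono_rf_bv o), fixes_pair P O (fun j hj => ?_) (fun j hj => ?_), ?_⟩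
      · simp [show j ≠ i from fun e' => hj (e' ▸ hi)]
      · simp [show j ≠ o from fun e' => hj (e' ▸ ho)]
      · rw [e, coe_mul_apply, neg_one_smul, map_neg, map_neg,
          rf_apply_of_polar (x := bv i) (by rw [polar_sq, bv_dot]; simp [ho'.1]),
          rf_apply_self (by rw [sq_bv]; exact one_ne_zero), neg_neg]
  refine ⟨i, hi, s * k * g₁, mul_mem (mul_mem hs hk) hg₁, fun j hj => ?_, fun h => hm ?_⟩
  · by_cases hji : j = i
    · subst hji; rw [coe_mul_apply, coe_mul_apply, hc, map_smul, hka, hsi]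
    · have hjI : j ∉ I := fun h => hj (mem_erase.mpr ⟨hji, h⟩)
      rw [coe_mul_apply, coe_mul_apply, hg₁I j hjI, hkI j hjI, hsI j hjI]
  · have := (((hsm.mul hkm).inv h2).mul h)
    rwa [inv_mul_cancel_left] at this

/-- A non-monomial element fixing four coordinates. -/
theorem exists_fix_four (h13 : 13 ≤ Fintype.card ι) {g : orth (sq ι F)} (hg : g ∈ H) (hgm : ¬ Mono g) :
    ∃ g' ∈ H, ¬ Mono g' ∧ ∃ I : Finset ι, I.card + 4 = Fintype.card ι ∧ Fixes I g' := by
  classical
  have hn := O.card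
  have key : ∀ k ≤ 4, ∃ g' ∈ H, ¬ Mono g' ∧
      ∃ I : Finset ι, I.card + k = Fintype.card ι ∧ Fixes I g' := by
    intro k hk
    induction k with
    | zero => exact ⟨g, hg, hgm, univ, by simp, fun j hj => absurd (mem_univ j) hj⟩
    | succ k ih =>
      obtain ⟨g', hg', hm', I, hI, hf⟩ := ih (by omega)
      obtain ⟨i, hi, g'', hg'', hf'', hm''⟩ := exists_fix_one P O (by omega) hg' hf hm'
      exact ⟨g'', hg'', hm'', I.erase i, by rw [card_erase_of_mem hi]; omega, hf''⟩
  exact key 4 le_rfl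

/-- Moving one of the two coordinates of a vector of `R`. -/
theorem move_one {r : ι → F} (hr : r ∈ Rset H) {c d t : ι} (htc : t ≠ c) (htd : t ≠ d)
    (hcd : c ≠ d) (hc : r c ≠ 0) (hd : r d ≠ 0) (hrest : ∀ j, j ≠ c → j ≠ d → r j = 0) :
    ∃ r' ∈ Rset H, r' t ≠ 0 ∧ r' d ≠ 0 ∧ ∀ j, j ≠ t → j ≠ d → r' j = 0 := by
  classical
  have h2 := P.two_ne
  obtain ⟨o, ho⟩ := exists_notMem (n := 3) (by have := O.card; omega) {t, c, d} card_le_three
  simp only [mem_insert, mem_singleton, not_or] at ho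
  refine ⟨_, O.cyc_mem_R h2 (Ne.symm ho.1) ho.2.1 htc hr, ?_, ?_, fun j hjt hjd => ?_⟩
  · rw [cyc_apply h2 (Ne.symm ho.1) ho.2.1 htc, if_pos rfl]; exact hc
  · rw [cyc_apply h2 (Ne.symm ho.1) ho.2.1 htc, if_neg (Ne.symm htd), if_neg (Ne.symm ho.2.2),
      if_neg (Ne.symm hcd)]
    exact hd
  · rw [cyc_apply h2 (Ne.symm ho.1) ho.2.1 htc, if_neg hjt]
    split_ifs with h3 h4
    · rw [hrest t htc htd, neg_zero]
    · rw [hrest o ho.2.1 ho.2.2, neg_zero]
    · exact hrest j h4 hjd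

/-- An overgroup with a non-monomial element contains `Ω`. -/
theorem eichGroup_le_of_over (h13 : 13 ≤ Fintype.card ι) {g : orth (sq ι F)} (hg : g ∈ H) (hgm : ¬ Mono g) :
    eichGroup (sq ι F) ≤ H := by
  classical
  have h2 := P.two_ne
  have hn := O.card
  obtain ⟨g, hg, hgm, I, hI, hgI⟩ := exists_fix_four P O h13 hg hgm
  obtain ⟨l, o, d, d', hlo, hld, hld', hod, hod', hdd, hcomp⟩ :=
    card_eq_four.mp (show Iᶜ.card = 4 by rw [card_compl]; omega)
  have hout : ∀ x ∈ ({l, o, d, d'} : Finset ι), x ∉ I := fun x hx => by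
    rw [← hcomp, mem_compl] at hx; exact hx
  have hl := hout l (by simp)
  have ho := hout o (by simp)
  have hd := hout d (by simp)
  have hd' := hout d' (by simp)
  have mapR : ∀ r ∈ Rset H, g.1 r ∈ Rset H := fun r hr =>
    O.map_mem_R hg (b := l) (a := l) (s := 1) (by rw [hgI l hl, one_smul]) hr
  have colR : ∀ a, g.1 (bv a) ∈ Rset H := fun a => mapR _ (O.bv_mem_R a)
  have zeros : ∀ a ∈ I, ∀ j ∉ I, g.1 (bv a) j = 0 := fun a ha j hj => col_zero P O hgI ha j hj
  have star : ∀ u ∈ Rset H, (∀ j, j ∉ I → u j = 0) → ∀ a b, a ≠ b → u a ≠ 0 → u b ≠ 0 →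
      (2 * (u a * u a) ≠ 1 ∨ ∃ c, c ≠ a ∧ c ≠ b ∧ u c ≠ 0) → eichGroup (sq ι F) ≤ H := by
    intro u hu hz a b hab ua ub h
    obtain ⟨i, c, S⟩ := exists_star_of_vector O P hu hab ua ub (hz l hl) (hz o ho) (hz d hd)
      (hz d' hd') hlo hld hld' hod hod' hdd h
    exact S.eichGroup_le O P
  by_contra hnle
  have hroot : ∀ a ∈ I, ∀ x y, x ≠ y → g.1 (bv a) x ≠ 0 → g.1 (bv a) y ≠ 0 →
      ∀ j, j ≠ x → j ≠ y → g.1 (bv a) j = 0 := by
    intro a ha x y hxy hx hy j h1 h2'
    by_contra hj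
    exact hnle (star _ (colR a) (zeros a ha) x y hxy hx hy (Or.inr ⟨j, h1, h2', hj⟩))
  -- a root column
  obtain ⟨a, ha, x, y, hxy, hx, hy⟩ : ∃ a ∈ I, ∃ x y, x ≠ y ∧ g.1 (bv a) x ≠ 0 ∧
      g.1 (bv a) y ≠ 0 := by
    by_contra hno
    simp only [not_exists, not_and] at hno
    refine hgm fun a => ?_
    by_cases ha : a ∈ I
    · obtain ⟨b, hb⟩ : ∃ b, g.1 (bv a) b ≠ 0 := by
        by_contra hz
        simp only [not_exists, not_not] at hz
        have h0 : g.1 (bv a) = 0 := funext hz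
        have := map_form g (bv a : ι → F)
        rw [h0, QuadraticMap.map_zero, sq_bv] at this
        exact zero_ne_one this
      refine ⟨b, g.1 (bv a) b, funext fun j => ?_⟩
      by_cases hj : j = b
      · subst hj; simp
      · simp [hj]
        by_contra hjne
        exact hno a ha j b hj hjne hb
    · exact ⟨a, 1, by rw [hgI a ha, one_smul]⟩
  have hrest := hroot a ha x y hxy hx hy
  -- a column with support away from the root
  obtain ⟨m, hm, hma, hmx, hmy⟩ : ∃ m ∈ I, m ≠ a ∧ g.1 (bv m) x = 0 ∧ g.1 (bv m) y = 0 := by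
    set J := I.filter fun b => g.1 (bv b) x ≠ 0 ∨ g.1 (bv b) y ≠ 0 with hJ
    have horth : ∀ b, b ≠ a → g.1 (bv a) x * g.1 (bv b) x + g.1 (bv a) y * g.1 (bv b) y = 0 := by
      intro b hb
      have e := dot_map g h2 (bv a) (bv b)
      rw [bv_dot] at e
      rw [show (bv b : ι → F) a = 0 by simp [Ne.symm hb]] at e
      rw [dotProduct, ← sum_subset (subset_univ {x, y}) (fun j _ hj => by
        simp only [mem_insert, mem_singleton, not_or] at hj
        rw [hrest j hj.1 hj.2, zero_mul]), sum_pair hxy] at e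
      exact e
    have hJsub : ∀ b ∈ J, sup' (g.1 (bv b)) ⊆ {x, y} := by
      intro b hb j hj
      rw [mem_sup'] at hj
      obtain ⟨hbI, hb'⟩ := mem_filter.mp hb
      by_contra hjxy
      simp only [mem_insert, mem_singleton, not_or] at hjxy
      by_cases hba : b = a
      · subst hba; exact hj (hrest j hjxy.1 hjxy.2)
      have e := horth b hba
      have both : g.1 (bv b) x ≠ 0 ∧ g.1 (bv b) y ≠ 0 := by
        rcases hb' with h | h
        · refine ⟨h, fun h0 => ?_⟩
          rw [h0, mul_zero, add_zero] at e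
          exact mul_ne_zero hx h e
        · refine ⟨fun h0 => ?_, h⟩
          rw [h0, mul_zero, zero_add] at e
          exact mul_ne_zero hy h e
      exact hj (hroot b hbI x y hxy both.1 both.2 j hjxy.1 hjxy.2)
    have hJcard : J.card ≤ 2 := (card_cols_le P hJsub).trans card_le_two
    obtain ⟨m, hm, hm'⟩ := exists_mem_notMem_of_card_lt_card (s := J) (t := I) (by omega)
    rw [hJ, mem_filter] at hm'
    simp only [hm, true_and, not_or, not_not] at hm'
    exact ⟨m, hm, fun e => hx (e ▸ hm'.1), hm'.1, hm'.2⟩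
  -- a root on `a` and `m`
  obtain ⟨r, hr, hra, hrm, hrr⟩ : ∃ r ∈ Rset H, r a ≠ 0 ∧ r m ≠ 0 ∧
      ∀ j, j ≠ a → j ≠ m → r j = 0 := by
    have step1 : ∃ r ∈ Rset H, ∃ e, e ≠ a ∧ r a ≠ 0 ∧ r e ≠ 0 ∧
        ∀ j, j ≠ a → j ≠ e → r j = 0 := by
      by_cases hax : a = x
      · exact ⟨_, colR a, y, by rw [hax]; exact hxy.symm, by rwa [← hax] at hx, hy,
          fun j h1 h2' => hrest j (fun e => h1 (e.trans hax.symm)) h2'⟩
      by_cases hay : a = y
      · exact ⟨_, colR a, x, by rw [hay]; exact hxy, by rwa [← hay] at hy, hx,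
          fun j h1 h2' => hrest j h2' (fun e => h1 (e.trans hay.symm))⟩
      obtain ⟨r, hr, h1, h2', h3⟩ := move_one P O (colR a) hax hay hxy hx hy hrest
      exact ⟨r, hr, y, Ne.symm hay, h1, h2', h3⟩
    obtain ⟨r, hr, e, hea, hra, hre, hrr⟩ := step1
    by_cases hem : e = m
    · exact ⟨r, hr, hra, hem ▸ hre, fun j h1 h2' => hrr j h1 (hem ▸ h2')⟩
    obtain ⟨r', hr', h1, h2', h3⟩ := move_one P O hr (c := e) (d := a) (t := m) (Ne.symm hem) hma
      hea hre hra (fun j h1 h2' => hrr j h2' h1)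
    exact ⟨r', hr', h2', h1, fun j h4 h5 => h3 j h5 h4⟩
  have hgr : ∀ j, g.1 r j = r a * g.1 (bv a) j + r m * g.1 (bv m) j := by
    intro j
    have e : r = r a • bv a + r m • bv m := funext fun i => by
      by_cases h1 : i = a
      · subst h1; simp [Ne.symm hma]
      · by_cases h2 : i = m
        · subst h2; simp [h1]
        · simp [h1, h2, hrr i h1 h2]
    conv_lhs => rw [e]
    simp [map_add, map_smul]
  obtain ⟨z, hz⟩ : ∃ z, g.1 (bv m) z ≠ 0 := by
    by_contra hz
    simp only [not_exists, not_not] at hz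
    have h0 : g.1 (bv m) = 0 := funext hz
    have := map_form g (bv m : ι → F)
    rw [h0, QuadraticMap.map_zero, sq_bv] at this
    exact zero_ne_one this
  have hzx : z ≠ x := fun e => hz (e ▸ hmx)
  have hzy : z ≠ y := fun e => hz (e ▸ hmy)
  refine hnle (star _ (mapR r hr) (fun j hj => ?_) x y hxy ?_ ?_ (Or.inr ⟨z, hzx, hzy, ?_⟩))
  · rw [hgr, zeros a ha j hj, zeros m hm j hj]; simp
  · rw [hgr, hmx, mul_zero, add_zero]; exact mul_ne_zero hra hx
  · rw [hgr, hmy, mul_zero, add_zero]; exact mul_ne_zero hra hy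
  · rw [hgr, hrest z hzx hzy, mul_zero, zero_add]; exact mul_ne_zero hrm hz

omit O in
theorem dt_eq_one_of_mem {g : orth (sq ι F)} (hg : g ∈ eichGroup (sq ι F)) :
    dt (sq ι F) g = 1 := by
  unfold eichGroup at hg
  induction hg using Subgroup.closure_induction with
  | mem x hx => obtain ⟨u, z, -, -, rfl⟩ := hx; exact dt_eich P u z
  | one => exact map_one _
  | mul x y _ _ hx hy => rw [map_mul, hx, hy, one_mul]
  | inv x _ hx => rw [map_inv, hx, inv_one]

omit O in
theorem over_of_mono (h7 : 7 ≤ Fintype.card ι)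
    (hH : ∀ g ∈ eichGroup (sq ι F), Mono g → g ∈ H) (hle : H ≤ eichGroup (sq ι F)) : Over H := by
  have hnd := polarND_sq (ι := ι) P.two_ne
  have h5 : 5 ≤ Module.finrank F (ι → F) := by
    rw [Module.finrank_fintype_fun_eq_card]; omega
  refine ⟨fun a b => hH _ (OrthStab.rf_mul_rf_mem hnd h5 ?_ ?_) ((mono_rf_bv a).mul (mono_rf_bv b)),
    fun a b c d hab hcd _ _ _ _ => hH _ (OrthStab.rf_mul_rf_mem hnd h5 ?_ ?_)
      ((mono_rf_add P hab).mul (mono_rf_add P hcd)),
    fun g hg => dt_eq_one_of_mem P (hle hg), h7⟩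
  · rw [sq_bv]; exact one_ne_zero
  · rw [sq_bv, sq_bv]
  · rw [sq_apply]
    simp [add_dotProduct, dotProduct_add, hab, hab.symm]
    rw [one_add_one_eq_two]; exact P.two_ne
  · rw [sq_apply, sq_apply]
    simp [add_dotProduct, dotProduct_add, hab, hab.symm, hcd, hcd.symm]

omit O in
/-- `Ω` is not monomial. -/
theorem exists_not_mono (h7 : 7 ≤ Fintype.card ι) :
    ∃ g ∈ eichGroup (sq ι F), ¬ Mono g := by
  classical
  cases nonempty_fintype F
  have hnd := polarND_sq (ι := ι) P.two_ne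
  have h5 : 5 ≤ Module.finrank F (ι → F) := by
    rw [Module.finrank_fintype_fun_eq_card]; omega
  obtain ⟨a, b, c, d, hab, hac, had, hbc, hbd, hcd⟩ :
      ∃ a b c d : ι, a ≠ b ∧ a ≠ c ∧ a ≠ d ∧ b ≠ c ∧ b ≠ d ∧ c ≠ d := by
    obtain ⟨s, -, hs⟩ := exists_subset_card_eq (s := (univ : Finset ι)) (n := 4)
      (by rw [card_univ]; omega)
    obtain ⟨a, b, c, d, h1, h2, h3, h4, h5, h6, -⟩ := card_eq_four.mp hs
    exact ⟨a, b, c, d, h1, h2, h3, h4, h5, h6⟩
  obtain ⟨y, z, hyz⟩ : ∃ y z : F, y * y + z * z = -1 := by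
    obtain ⟨y, z, h⟩ := FiniteField.exists_root_sum_quadratic
      (f := (Polynomial.X ^ 2 : Polynomial F))
      (g := Polynomial.X ^ 2 + Polynomial.C 1) (by simp) (by
        rw [Polynomial.degree_X_pow_add_C (by norm_num)]; rfl)
        (FiniteField.odd_card_of_char_ne_two fun h => by
          haveI : CharP F 2 := ringChar.of_eq h
          exact P.two_ne CharTwo.two_eq_zero)
    simp at h
    exact ⟨y, z, by linear_combination h⟩
  set u : ι → F := bv a + (bv b + y • bv c + z • bv d)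
  have hu : sq ι F u = sq ι F (bv a) := by
    rw [sq_apply, sq_bv]
    simp [u, add_dotProduct, dotProduct_add, hab, hac, had, hbc, hbd, hcd, hab.symm, hac.symm,
      had.symm, hbc.symm, hbd.symm, hcd.symm]
    linear_combination hyz
  have hu0 : u ≠ 0 := fun e => by
    rw [e, QuadraticMap.map_zero, sq_bv] at hu; exact zero_ne_one hu
  obtain ⟨g, hg, hga⟩ := OrthStab.exists_eich_map_of_form_eq hnd h5 (a := bv a) (d := u)
    (by simp [bv]) hu0 hu.symm
  refine ⟨g, hg, fun hm => ?_⟩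
  obtain ⟨x, c', hx⟩ := hm a
  rw [hga] at hx
  have e1 := congrFun hx a
  have e2 := congrFun hx b
  simp [u, hab, hac, had, hbc, hbd, hab.symm] at e1 e2
  by_cases hxa : a = x
  · subst hxa; simp [hab.symm] at e2
  · simp [hxa] at e1

end Coordinates

section Frame

variable {ι : Type} [Fintype ι] [DecidableEq ι] {F : Type*} [Field F] [Fintype F] {p t : ℕ}
variable {Q : QuadraticForm F (ι → F)} {D : Fin t → Submodule F (ι → F)}

/-- Coordinates adapted to the lines. -/
theorem exists_frame (P : PrimeOdd F p) (hD : Geo.IsOrthogonalMDecomposition ⇑Q 1 D) :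
    ∃ (L : (Fin t → F) ≃ₗ[F] (ι → F)) (c : F), c ≠ 0 ∧ (∀ y, Q (L y) = c * sq (Fin t) F y) ∧
      ∀ i x, x ∈ D i ↔ ∀ j, j ≠ i → L.symm x j = 0 := by
  classical
  have h2 := P.two_ne
  have ht := hD.decomp.decomp.two_le
  have hfr := hD.decomp.decomp.finrank_eq
  set i₀ : Fin t := ⟨0, by omega⟩
  obtain ⟨w₀, hw₀, hw₀0⟩ := (Submodule.ne_bot_iff _).mp (show D i₀ ≠ ⊥ from fun h => by
    have := hfr i₀; rw [h, finrank_bot] at this; omega)
  choose e he using fun i => hD.isometric i₀ i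
  set v : Fin t → ι → F := fun i => ((e i ⟨w₀, hw₀⟩ : D i) : ι → F) with hv
  have hvD : ∀ i, v i ∈ D i := fun i => (e i ⟨w₀, hw₀⟩).2
  have hQv : ∀ i, Q (v i) = Q w₀ := fun i => he i ⟨w₀, hw₀⟩
  have hvne : ∀ i, v i ≠ 0 := fun i h => hw₀0 (by
    have h' : e i ⟨w₀, hw₀⟩ = 0 := Subtype.ext h
    exact congrArg Subtype.val ((e i).map_eq_zero_iff.mp h'))
  have hline : ∀ i, ∀ x ∈ D i, ∃ a : F, a • v i = x := fun i x hx => by
    obtain ⟨a, ha⟩ := (finrank_eq_one_iff_of_nonzero' (⟨v i, hvD i⟩ : D i)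
      (fun h => hvne i (congrArg Subtype.val h))).mp (hfr i) ⟨x, hx⟩
    exact ⟨a, congrArg Subtype.val ha⟩
  set c := Q w₀ with hc
  have hc0 : c ≠ 0 := by
    intro h0
    obtain ⟨⟨x, hx, hne⟩, -⟩ := hD.decomp.nondegenerate i₀ (v i₀) (hvD i₀) (hvne i₀)
    obtain ⟨a, rfl⟩ := hline i₀ x hx
    rw [polar_smul_left, polar_self_eq, hQv, h0, mul_zero, smul_zero] at hne
    exact hne rfl
  have hpol : ∀ i j, polar Q (v i) (v j) = if i = j then 2 * c else 0 := fun i j => by
    by_cases h : i = j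
    · subst h; rw [polar_self_eq, hQv, if_pos rfl]
    · rw [if_neg h]; exact hD.decomp.orthogonal i j h _ (hvD i) _ (hvD j)
  let L₀ := Fintype.linearCombination F v
  have hL₀ : ∀ y, L₀ y = ∑ i, y i • v i := fun y => Fintype.linearCombination_apply F v y
  have hp1 : ∀ (y : Fin t → F) j, polar Q (v j) (L₀ y) = 2 * c * y j := fun y j => by
    rw [hL₀, show polar Q (v j) (∑ i, y i • v i) = polarBilin Q (v j) (∑ i, y i • v i) from rfl,
      map_sum, Finset.sum_eq_single j (fun i _ hi => by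
        rw [map_smul, polarBilin_apply_apply, hpol, if_neg (Ne.symm hi), smul_zero]) (by simp),
      map_smul, polarBilin_apply_apply, hpol, if_pos rfl, smul_eq_mul, mul_comm]
  have hinj : Function.Injective L₀ := by
    rw [injective_iff_map_eq_zero]
    intro y hy
    funext j
    have := hp1 y j
    rw [hy, polar_zero_right] at this
    exact (mul_eq_zero.mp this.symm).resolve_left (mul_ne_zero h2 hc0)
  have hsurj : Function.Surjective L₀ := by
    rw [← LinearMap.range_eq_top, eq_top_iff, ← hD.decomp.decomp.iSup_eq_top]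
    refine iSup_le fun i x hx => ?_
    obtain ⟨a, rfl⟩ := hline i x hx
    refine ⟨Pi.single i a, ?_⟩
    rw [hL₀, Finset.sum_eq_single i (fun j _ hj => by simp [hj]) (by simp)]
    simp
  let L := LinearEquiv.ofBijective L₀ ⟨hinj, hsurj⟩
  have hL : ∀ y, L y = L₀ y := fun y => rfl
  refine ⟨L, c, hc0, fun y => ?_, fun i x => ?_⟩
  · refine mul_left_cancel₀ h2 ?_
    rw [← polar_self_eq (Q := Q) (L y), sq_apply]
    conv_lhs => arg 2; rw [hL, hL₀]
    rw [show polar Q (∑ i, y i • v i) (L y) = (polarBilin Q) (∑ i, y i • v i) (L y) from rfl,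
      map_sum, LinearMap.sum_apply, dotProduct, Finset.mul_sum, Finset.mul_sum]
    refine Finset.sum_congr rfl fun j _ => ?_
    rw [map_smul, LinearMap.smul_apply, polarBilin_apply_apply, hL, hp1, smul_eq_mul]
    ring
  · obtain ⟨y, rfl⟩ := L.surjective x
    rw [LinearEquiv.symm_apply_apply]
    refine ⟨fun hx j hj => ?_, fun h => ?_⟩
    · obtain ⟨a, ha⟩ := hline i _ hx
      have := hp1 y j
      rw [← hL, ← ha, polar_smul_right, hpol, if_neg hj, smul_zero] at this
      exact (mul_eq_zero.mp this.symm).resolve_left (mul_ne_zero h2 hc0)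
    · rw [hL, hL₀, Finset.sum_eq_single i (fun j _ hj => by rw [h j hj, zero_smul]) (by simp)]
      exact Submodule.smul_mem _ _ (hvD i)

/-- The lines stabiliser is maximal in `Ω`, given that a proper overgroup contains `Ω`. -/
theorem lines_isMaximalIn_of_core (P : PrimeOdd F p) (hnd : PolarND Q) (h7 : 7 ≤ Fintype.card ι)
    (core : ∀ H : Subgroup (UnitaryOrthogonal.orth (sq (Fin t) F)), Over H →
      ∀ g ∈ H, ¬ Mono g → eichGroup (sq (Fin t) F) ≤ H)
    (hD : Geo.IsOrthogonalMDecomposition ⇑Q 1 D) :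
    Geo.IsMaximalIn (Geo.omegaGL ⇑Q) (Geo.decompositionStabilizer D ⊓ Geo.omegaGL ⇑Q) := by
  classical
  obtain ⟨L, c, hc, hQL, hDL⟩ := exists_frame P hD
  have hcard : Fintype.card (Fin t) = Fintype.card ι := by
    have := L.finrank_eq
    simpa [Module.finrank_fintype_fun_eq_card] using this
  have hnd' := polarND_sq (ι := Fin t) P.two_ne
  have h5 : 5 ≤ Module.finrank F (ι → F) := by
    rw [Module.finrank_fintype_fun_eq_card]; omega
  have h5' : 5 ≤ Module.finrank F (Fin t → F) := by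
    rw [Module.finrank_fintype_fun_eq_card]; omega
  let φ : UnitaryOrthogonal.orth Q ≃* UnitaryOrthogonal.orth (sq (Fin t) F) :=
    { toFun := fun g => ⟨L.trans (g.1.trans L.symm), fun y => by
        refine mul_left_cancel₀ hc ?_
        show c * sq (Fin t) F (L.symm (g.1 (L y))) = c * sq (Fin t) F y
        rw [← hQL, LinearEquiv.apply_symm_apply, map_form, hQL]⟩
      invFun := fun g => ⟨L.symm.trans (g.1.trans L), fun x => by
        show Q (L (g.1 (L.symm x))) = Q x
        rw [hQL, map_form, ← hQL, LinearEquiv.apply_symm_apply]⟩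
      left_inv := fun g => orth_ext fun x => by simp
      right_inv := fun g => orth_ext fun x => by simp
      map_mul' := fun g h => orth_ext fun x => by simp }
  have hφE : (eichGroup Q).map φ.toMonoidHom = eichGroup (sq (Fin t) F) := by
    rw [← OrthStab.commutator_eq hnd h5, ← OrthStab.commutator_eq hnd' h5', commutator_def,
      commutator_def, Subgroup.map_commutator, Subgroup.map_top_of_surjective _ φ.surjective]
  have memE : ∀ g, φ g ∈ eichGroup (sq (Fin t) F) ↔ g ∈ eichGroup Q := fun g => by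
    rw [← hφE]; exact Subgroup.mem_map_iff_mem (f := φ.toMonoidHom) φ.injective
  let ψ := isometryGroupEquiv Q (f := ⇑Q) (fun _ => rfl)
  -- the stabiliser is the monomial group
  have hstab : ∀ g₀ : Cfsg.isometryGroup F ⇑Q,
      g₀.1 ∈ Geo.decompositionStabilizer D ↔ Mono (φ (ψ g₀)) := by
    intro g₀
    have happ : ∀ x, (ψ g₀).1 x = Matrix.toLin' (g₀.1 : Matrix ι ι F) x := fun x =>
      (Matrix.toLin'_apply _ _).symm
    have hφa : ∀ y, (φ (ψ g₀)).1 y = L.symm ((ψ g₀).1 (L y)) := fun y => rfl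
    have memD : ∀ i, L (bv i) ∈ D i := fun i => (hDL i _).mpr fun j hj => by
      rw [LinearEquiv.symm_apply_apply]; simp [hj]
    constructor
    · rintro ⟨σ, hσ⟩ i
      have hm : (ψ g₀).1 (L (bv i)) ∈ D (σ i) := by
        rw [← hσ, happ]; exact ⟨_, memD i, rfl⟩
      refine ⟨σ i, (φ (ψ g₀)).1 (bv i) (σ i), funext fun j => ?_⟩
      by_cases hj : j = σ i
      · subst hj; simp
      · rw [hφa, (hDL _ _).mp hm j hj]; simp [hj]
    · intro hm
      obtain ⟨π, μ, hπ, hμ⟩ := hm.exists_perm P.two_ne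
      have gen : ∀ i, ∀ x ∈ D i, ∃ a : F, x = a • L (bv i) := fun i x hx =>
        ⟨L.symm x i, L.symm.injective (funext fun j => by
          rw [map_smul, LinearEquiv.symm_apply_apply]
          by_cases hj : j = i
          · subst hj; simp
          · rw [(hDL i x).mp hx j hj]; simp [hj])⟩
      have img : ∀ i, (ψ g₀).1 (L (bv i)) = μ i • L (bv (π i)) := fun i => by
        rw [← map_smul, ← hπ, hφa, LinearEquiv.apply_symm_apply]
      refine ⟨π, fun i => le_antisymm ?_ fun x hx => ?_⟩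
      · rintro _ ⟨x, hx, rfl⟩
        obtain ⟨a, rfl⟩ := gen i x hx
        rw [← happ, map_smul, img, smul_smul]
        exact Submodule.smul_mem _ _ (memD _)
      · obtain ⟨a, rfl⟩ := gen (π i) x hx
        refine ⟨(a * μ i) • L (bv i), Submodule.smul_mem _ _ (memD i), ?_⟩
        rw [← happ, map_smul, img, smul_smul, mul_assoc, hμ, mul_one]
  refine ⟨lt_of_le_of_ne inf_le_right fun e => ?_, fun M hKM hMΩ => ?_⟩
  · obtain ⟨g, hg, hgm⟩ := exists_not_mono P (ι := Fin t) (by omega)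
    obtain ⟨g', rfl⟩ := φ.surjective g
    obtain ⟨g₀, hg₀, rfl⟩ := OrthStab.exists_lift hnd h5 ((memE g').mp hg)
    exact hgm ((hstab g₀).mp (inf_le_left (a := Geo.decompositionStabilizer D) (e ▸ hg₀)))
  · by_cases hMK : M = Geo.decompositionStabilizer D ⊓ Geo.omegaGL ⇑Q
    · exact Or.inl hMK
    obtain ⟨g, hgM, hgK⟩ := SetLike.exists_of_lt (lt_of_le_of_ne hKM (Ne.symm hMK))
    obtain ⟨g₀, hg₀, rfl⟩ := hMΩ hgM
    let M₁ : Subgroup (UnitaryOrthogonal.orth Q) :=
      (M.comap (Cfsg.isometryGroup F ⇑Q).subtype).map ψ.toMonoidHom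
    let M' : Subgroup (UnitaryOrthogonal.orth (sq (Fin t) F)) := M₁.map φ.toMonoidHom
    have hM' : ∀ h ∈ eichGroup (sq (Fin t) F), Mono h → h ∈ M' := fun h hh hm => by
      obtain ⟨h', rfl⟩ := φ.surjective h
      obtain ⟨h₀, hh₀, rfl⟩ := OrthStab.exists_lift hnd h5 ((memE h').mp hh)
      exact ⟨ψ h₀, ⟨h₀, hKM ⟨(hstab h₀).mpr hm, hh₀⟩, rfl⟩, rfl⟩
    have hM'E : M' ≤ eichGroup (sq (Fin t) F) := by
      rintro _ ⟨_, ⟨h₀, hh₀, rfl⟩, rfl⟩
      obtain ⟨h₁, hh₁, hhh⟩ := hMΩ hh₀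
      have : h₁ = h₀ := Subtype.ext hhh
      subst this
      exact (memE _).mpr ((OrthStab.mem_omega_iff hnd h5 h₁).mp hh₁)
    have hle := core M' (over_of_mono P (by omega) hM' hM'E)
      (φ (ψ g₀)) ⟨ψ g₀, ⟨g₀, hgM, rfl⟩, rfl⟩
      (fun hm => hgK ⟨(hstab g₀).mpr hm, hMΩ hgM⟩)
    refine Or.inr (le_antisymm hMΩ ?_)
    rintro _ ⟨g₁, hg₁, rfl⟩
    obtain ⟨_, ⟨g₂, hg₂, rfl⟩, hgg⟩ := hle ((memE _).mpr ((OrthStab.mem_omega_iff hnd h5 g₁).mp hg₁))
    exact (ψ.injective (φ.injective hgg)) ▸ hg₂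

/-- The lines stabiliser is maximal in `Ω`. -/
theorem lines_isMaximalIn (P : PrimeOdd F p) (hnd : PolarND Q) (h13 : 13 ≤ Fintype.card ι)
    (hD : Geo.IsOrthogonalMDecomposition ⇑Q 1 D) :
    Geo.IsMaximalIn (Geo.omegaGL ⇑Q) (Geo.decompositionStabilizer D ⊓ Geo.omegaGL ⇑Q) := by
  obtain ⟨L, c, hc, hQL, hDL⟩ := exists_frame P hD
  have hcard : Fintype.card (Fin t) = Fintype.card ι := by
    have := L.finrank_eq
    simpa [Module.finrank_fintype_fun_eq_card] using this
  exact lines_isMaximalIn_of_core P hnd (by omega)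
    (fun H O g hg hgm => eichGroup_le_of_over P O (by omega) hg hgm) hD

end Frame

end Cfsg.Agent.ODec24
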