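import Mathlib

/-!
Finite groups covered by subgroups meeting trivially, each of index at most two in its normaliser,
one of them of order divisible by four (the counting of poles of rotation groups) (helper24).
-/

set_option autoImplicit false
set_option linter.unusedSectionVars false

namespace Cfsg.Agent.ODec24

open Finset

variable {G : Type*} [Group G]

/-- Hypotheses of the counting argument. -/
structure PoleData (A : Set (Subgroup G)) : Prop where
  ne : ∀ C ∈ A, C ≠ ⊥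
  cover : ∀ g : G, g ≠ 1 → ∃ C ∈ A, g ∈ C
  disj : ∀ C ∈ A, ∀ D ∈ A, ∀ g : G, g ≠ 1 → g ∈ C → g ∈ D → C = D
  conj : ∀ g : G, ∀ C ∈ A, C.map (MulAut.conj g).toMonoidHom ∈ A
  two : ∀ C ∈ A, ∀ m ∈ Subgroup.normalizer (C : Set G), ∀ m' ∈ Subgroup.normalizer (C : Set G), m ∉ C → m' ∉ C →
    m⁻¹ * m' ∈ C

section

variable [Fintype G] {A : Set (Subgroup G)}

open scoped Classical in
/-- The non-trivial elements conjugate into `C`. -/
noncomputable def swept (C : Subgroup G) : Finset G :=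
  univ.filter fun t => t ≠ 1 ∧ ∃ h : G, h⁻¹ * t * h ∈ C

theorem mem_swept {C : Subgroup G} {t : G} :
    t ∈ swept C ↔ t ≠ 1 ∧ ∃ h : G, h⁻¹ * t * h ∈ C := by
  classical
  simp [swept]

theorem PoleData.eq_of_conj (P : PoleData A) {C D : Subgroup G} (hC : C ∈ A) (hD : D ∈ A)
    {t h k : G} (ht : t ≠ 1) (h1 : h⁻¹ * t * h ∈ C) (h2 : k⁻¹ * t * k ∈ D) :
    C.map (MulAut.conj h).toMonoidHom = D.map (MulAut.conj k).toMonoidHom :=
  P.disj _ (P.conj h C hC) _ (P.conj k D hD) t ht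
    ⟨_, h1, by simp [mul_assoc]⟩ ⟨_, h2, by simp [mul_assoc]⟩

theorem PoleData.card_normalizer (P : PoleData A) {C : Subgroup G} (hC : C ∈ A) :
    Nat.card (Subgroup.normalizer (C : Set G)) = Nat.card C ∨ Nat.card (Subgroup.normalizer (C : Set G)) = 2 * Nat.card C := by
  classical
  have hdvd := Subgroup.card_dvd_of_le (Subgroup.le_normalizer (H := C))
  have hpos : 0 < Nat.card (Subgroup.normalizer (C : Set G)) := Nat.card_pos
  by_cases hall : ∀ m ∈ Subgroup.normalizer (C : Set G), m ∈ C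
  · left
    rw [le_antisymm (fun m hm => hall m hm) Subgroup.le_normalizer]
  simp only [not_forall] at hall
  obtain ⟨m₀, hm₀, hm₀C⟩ := hall
  let φ : (Subgroup.normalizer (C : Set G)) → C ⊕ C := fun m =>
    if h : (m : G) ∈ C then Sum.inl ⟨_, h⟩
    else Sum.inr ⟨_, P.two C hC m₀ hm₀ m m.2 hm₀C h⟩
  have hinj : Function.Injective φ := by
    intro a b hab
    by_cases ha : (a : G) ∈ C <;> by_cases hb : (b : G) ∈ C <;> simp [φ, ha, hb] at hab
    · exact hab
    · exact hab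
  have hle := Nat.card_le_card_of_injective φ hinj
  rw [Nat.card_sum] at hle
  obtain ⟨k, hk⟩ := hdvd
  have hkle : k ≤ 2 := by
    by_contra hc
    have h3 : 3 ≤ k := by omega
    have hc0 : 0 < Nat.card C := Nat.card_pos
    nlinarith [Nat.mul_le_mul_left (Nat.card C) h3]
  interval_cases k
  · omega
  · left; omega
  · right; omega

theorem PoleData.card_swept (P : PoleData A) {C : Subgroup G} (hC : C ∈ A) :
    (swept C).card * Nat.card (Subgroup.normalizer (C : Set G)) = Fintype.card G * (Nat.card C - 1) := by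
  classical
  set src : Finset (G × C) := univ ×ˢ (univ.erase 1) with hsrc
  have hsrc_card : src.card = Fintype.card G * (Nat.card C - 1) := by
    rw [hsrc, card_product, card_erase_of_mem (mem_univ _), card_univ, card_univ,
      Nat.card_eq_fintype_card]
  let φ : G × C → G := fun p => p.1 * p.2 * p.1⁻¹
  have hmaps : ∀ p ∈ src, φ p ∈ swept C := by
    rintro ⟨h, c⟩ hp
    simp [hsrc] at hp
    refine mem_swept.mpr ⟨fun e => hp ?_, h, ?_⟩
    · have e' : h * (c : G) * h⁻¹ = 1 := e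
      exact Subtype.ext (conj_eq_one_iff.mp e')
    · simp [φ, mul_assoc]
  rw [← hsrc_card, card_eq_sum_card_fiberwise hmaps]
  rw [show (swept C).card * Nat.card (Subgroup.normalizer (C : Set G)) =
    ∑ _t ∈ swept C, Nat.card (Subgroup.normalizer (C : Set G)) by simp]
  refine sum_congr rfl fun t ht => ?_
  obtain ⟨ht1, h₀, hh₀⟩ := mem_swept.mp ht
  rw [Nat.card_eq_fintype_card, ← Finset.card_univ]
  have hN : ∀ h : G, h⁻¹ * t * h ∈ C → h₀⁻¹ * h ∈ Subgroup.normalizer (C : Set G) := by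
    intro h hh
    have he := P.eq_of_conj hC hC ht1 hh hh₀
    refine Subgroup.mem_normalizer_iff.mpr fun x => ⟨fun hx => ?_, fun hx => ?_⟩
    · have : h * x * h⁻¹ ∈ C.map (MulAut.conj h₀).toMonoidHom := he ▸ ⟨x, hx, rfl⟩
      obtain ⟨y, hy, hyx⟩ := this
      have hyx' : h₀ * y * h₀⁻¹ = h * x * h⁻¹ := hyx
      have e1 : h₀⁻¹ * h * x * (h₀⁻¹ * h)⁻¹ = h₀⁻¹ * (h * x * h⁻¹) * h₀ := by group
      rw [e1, ← hyx']
      simpa [mul_assoc] using hy
    · have : h₀ * (h₀⁻¹ * h * x * (h₀⁻¹ * h)⁻¹) * h₀⁻¹ ∈ C.map (MulAut.conj h).toMonoidHom :=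
        he.symm ▸ ⟨_, hx, rfl⟩
      obtain ⟨y, hy, hyx⟩ := this
      have hyx' : h * y * h⁻¹ = h₀ * (h₀⁻¹ * h * x * (h₀⁻¹ * h)⁻¹) * h₀⁻¹ := hyx
      have e1 : h₀ * (h₀⁻¹ * h * x * (h₀⁻¹ * h)⁻¹) * h₀⁻¹ = h * x * h⁻¹ := by group
      rw [e1] at hyx'
      rwa [← mul_left_cancel (mul_right_cancel hyx')]
  refine Finset.card_bij' (fun m _ => ((h₀ * (m : G), ⟨(m : G)⁻¹ * (h₀⁻¹ * t * h₀) * (m : G), ?_⟩) : G × C))
    (fun p hp => (⟨h₀⁻¹ * p.1, hN p.1 ?_⟩ : (Subgroup.normalizer (C : Set G)))) ?_ ?_ ?_ ?_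
  · exact (Subgroup.mem_normalizer_iff''.mp m.2 _).mp hh₀
  · simp only [mem_filter] at hp
    rw [← hp.2]
    simp [φ, mul_assoc]
  · intro m _
    simp only [mem_filter, hsrc, mem_product, mem_univ, mem_erase, true_and, and_true]
    refine ⟨fun e => ht1 ?_, ?_⟩
    · have e' : (m : G)⁻¹ * (h₀⁻¹ * t * h₀) * (m : G) = 1 := congrArg Subtype.val e
      have : t = h₀ * (m : G) * ((m : G)⁻¹ * (h₀⁻¹ * t * h₀) * (m : G)) * (h₀ * (m : G))⁻¹ := by
        group
      rw [this, e']; group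
    · simp [φ]; group
  · intro p _; exact mem_univ _
  · intro m _; ext; simp
  · intro p hp
    simp only [mem_filter] at hp
    obtain ⟨-, rfl⟩ := hp
    refine Prod.ext (by simp) (Subtype.ext ?_)
    simp [φ]; group

theorem pole_count {g c a b T₀ Ta Tb : ℕ} {e₀ ea eb : ℕ} (hg : 0 < g)
    (hc : 4 ≤ c) (ha : 2 ≤ a) (hb : 2 ≤ b)
    (he₀ : e₀ = 1 ∨ e₀ = 2) (hea : ea = 1 ∨ ea = 2) (heb : eb = 1 ∨ eb = 2)
    (h₀ : T₀ * (e₀ * c) = g * (c - 1)) (h₁ : Ta * (ea * a) = g * (a - 1))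
    (h₂ : Tb * (eb * b) = g * (b - 1)) (hsum : T₀ + Ta + Tb < g) :
    e₀ = 2 ∧ ea = 2 ∧ eb = 2 := by
  have q₁ : g ≤ 4 * Ta := by
    rcases hea with rfl | rfl <;> obtain ⟨k, rfl⟩ := Nat.exists_eq_add_of_le ha <;>
      simp at h₁ <;> nlinarith
  have q₂ : g ≤ 4 * Tb := by
    rcases heb with rfl | rfl <;> obtain ⟨k, rfl⟩ := Nat.exists_eq_add_of_le hb <;>
      simp at h₂ <;> nlinarith
  obtain ⟨k, rfl⟩ := Nat.exists_eq_add_of_le hc
  have q₀ : 3 * g ≤ 8 * T₀ := by
    rcases he₀ with rfl | rfl <;> simp at h₀ <;> nlinarith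
  refine ⟨?_, ?_, ?_⟩
  · rcases he₀ with rfl | rfl
    · exfalso; simp at h₀; nlinarith
    · rfl
  · rcases hea with rfl | rfl
    · exfalso; obtain ⟨j, rfl⟩ := Nat.exists_eq_add_of_le ha; simp at h₁; nlinarith
    · rfl
  · rcases heb with rfl | rfl
    · exfalso; obtain ⟨j, rfl⟩ := Nat.exists_eq_add_of_le hb; simp at h₂; nlinarith
    · rfl

set_option maxHeartbeats 1000000 in
/-- With a four-fold pole every element has order dividing three or four. -/
theorem pow_three_or_four (P : PoleData A) {C₀ : Subgroup G} (hC₀ : C₀ ∈ A)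
    (h4 : 4 ∣ Nat.card C₀) (hnn : Subgroup.normalizer (C₀ : Set G) ≠ ⊤) (x : G) : x ^ 3 = 1 ∨ x ^ 4 = 1 := by
  classical
  have hG : 0 < Fintype.card G := Fintype.card_pos
  set g := Fintype.card G with hg
  have key : ∀ C ∈ A, 2 ≤ Nat.card C ∧
      ∃ e, (e = 1 ∨ e = 2) ∧ Nat.card (Subgroup.normalizer (C : Set G)) = e * Nat.card C ∧
        (swept C).card * (e * Nat.card C) = g * (Nat.card C - 1) := by
    intro C hC
    refine ⟨(Subgroup.one_lt_card_iff_ne_bot C).mpr (P.ne C hC), ?_⟩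
    rcases P.card_normalizer hC with h | h
    · exact ⟨1, Or.inl rfl, by simpa using h, by rw [one_mul, ← h]; exact (P.card_swept hC).trans (by rw [h])⟩
    · exact ⟨2, Or.inr rfl, h, by rw [← h]; exact P.card_swept hC⟩
  have new : ∀ D ∈ A, ∀ E ∈ A, ∀ t ∈ D, t ≠ 1 → t ∉ swept E → Disjoint (swept D) (swept E) := by
    intro D hD E hE t htD ht1 htE
    rw [Finset.disjoint_left]
    intro s hs hs'
    obtain ⟨hs1, h, hh⟩ := mem_swept.mp hs
    obtain ⟨-, k, hk⟩ := mem_swept.mp hs'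
    have he := P.eq_of_conj hD hE hs1 hh hk
    have : h * t * h⁻¹ ∈ E.map (MulAut.conj k).toMonoidHom := he ▸ ⟨t, htD, rfl⟩
    obtain ⟨y, hy, hyt⟩ := this
    have hyt' : k * y * k⁻¹ = h * t * h⁻¹ := hyt
    refine htE (mem_swept.mpr ⟨ht1, h⁻¹ * k, ?_⟩)
    rw [show (h⁻¹ * k)⁻¹ * t * (h⁻¹ * k) = k⁻¹ * (h * t * h⁻¹) * k by group, ← hyt']
    simpa [mul_assoc] using hy
  have tot : ∀ s : Finset G, (∀ t ∈ s, t ≠ 1) → s.card < g := fun s hs =>
    card_lt_card (t := univ) (ssubset_univ_iff.mpr fun h => hs 1 (h ▸ mem_univ _) rfl)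
  obtain ⟨hc2, e₀, he₀, hN₀, hT₀⟩ := key C₀ hC₀
  set c := Nat.card C₀
  have hc4 : 4 ≤ c := Nat.le_of_dvd (by omega) h4
  have hNlt : 2 * (e₀ * c) ≤ g := by
    rw [← hN₀]
    have h1 := Subgroup.card_mul_index (Subgroup.normalizer (C₀ : Set G))
    have h2 : 2 ≤ (Subgroup.normalizer (C₀ : Set G)).index := by
      have h3 : (Subgroup.normalizer (C₀ : Set G)).index ≠ 1 := fun h => hnn (Subgroup.index_eq_one.mp h)
      have h4 : (Subgroup.normalizer (C₀ : Set G)).index ≠ 0 := Subgroup.index_ne_zero_of_finite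
      omega
    rw [Nat.card_eq_fintype_card (α := G), ← hg] at h1
    nlinarith
  -- a second class
  obtain ⟨t₁, ht₁1, ht₁⟩ : ∃ t : G, t ≠ 1 ∧ t ∉ swept C₀ := by
    by_contra hno
    simp only [not_exists, not_and, not_not] at hno
    have h1 : g ≤ (swept C₀).card + 1 := by
      rw [hg, ← Finset.card_univ]
      refine (card_le_card (t := insert 1 (swept C₀)) fun t _ => ?_).trans (card_insert_le _ _)
      by_cases ht : t = 1
      · simp [ht]
      · exact mem_insert_of_mem (hno t ht)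
    obtain ⟨k, hk⟩ := Nat.exists_eq_add_of_le hc4
    rw [hk] at hT₀ hNlt
    rcases he₀ with rfl | rfl <;> simp at hT₀ <;> nlinarith
  obtain ⟨Ca, hCa, ht₁a⟩ := P.cover t₁ ht₁1
  obtain ⟨ha2, ea, hea, -, hTa⟩ := key Ca hCa
  set a := Nat.card Ca
  have hd₁ := new Ca hCa C₀ hC₀ t₁ ht₁a ht₁1 ht₁
  -- a third class
  obtain ⟨t₂, ht₂1, ht₂0, ht₂a⟩ : ∃ t : G, t ≠ 1 ∧ t ∉ swept C₀ ∧ t ∉ swept Ca := by
    by_contra hno
    simp only [not_exists, not_and, not_not] at hno
    have h1 : g = (swept C₀).card + (swept Ca).card + 1 := by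
      have e : insert 1 (swept C₀ ∪ swept Ca) = univ := eq_univ_of_forall fun t => by
        by_cases ht : t = 1
        · simp [ht]
        · by_cases h0 : t ∈ swept C₀
          · simp [h0]
          · simp [hno t ht h0]
      have := congrArg Finset.card e
      rw [card_insert_of_notMem (by simp [mem_swept]), card_union_of_disjoint hd₁.symm,
        card_univ, ← hg] at this
      omega
    set T₀ := (swept C₀).card
    set Ta := (swept Ca).card
    obtain ⟨k, hk⟩ := Nat.exists_eq_add_of_le hc4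
    rw [hk] at hT₀ hNlt
    have hga : g ≤ 4 * Ta := by
      rcases hea with rfl | rfl <;> obtain ⟨i, hi⟩ := Nat.exists_eq_add_of_le ha2 <;>
        rw [hi] at hTa <;> simp at hTa <;> nlinarith
    rcases he₀ with rfl | rfl
    · simp at hT₀
      nlinarith
    obtain ⟨i, hi⟩ := Nat.exists_eq_add_of_le ha2
    rw [hi] at hTa
    rcases hea with rfl | rfl
    · simp at hT₀ hTa
      rcases Nat.eq_zero_or_pos i with rfl | hi0
      · nlinarith
      · have q1 : 2 * g ≤ 3 * Ta := by nlinarith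
        have q0 : 3 * g ≤ 8 * T₀ := by nlinarith
        omega
    · simp at hT₀ hTa
      have h2 : g * (4 + k + (2 + i)) = 2 * ((4 + k) * (2 + i)) := by
        zify at hT₀ hTa h1 ⊢
        linear_combination (2 + (i : ℤ)) * hT₀ + (4 + (k : ℤ)) * hTa
          + 2 * ((4 + (k : ℤ)) * (2 + i)) * h1
      nlinarith
  obtain ⟨Cb, hCb, ht₂b⟩ := P.cover t₂ ht₂1
  obtain ⟨hb2, eb, heb, -, hTb⟩ := key Cb hCb
  set b := Nat.card Cb
  have hd₂0 := new Cb hCb C₀ hC₀ t₂ ht₂b ht₂1 ht₂0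
  have hd₂a := new Cb hCb Ca hCa t₂ ht₂b ht₂1 ht₂a
  set U := swept C₀ ∪ swept Ca ∪ swept Cb with hU
  have hUcard : U.card = (swept C₀).card + (swept Ca).card + (swept Cb).card := by
    rw [hU, card_union_of_disjoint (disjoint_union_left.mpr ⟨hd₂0.symm, hd₂a.symm⟩),
      card_union_of_disjoint hd₁.symm]
  have hU1 : ∀ t ∈ U, t ≠ 1 := fun t ht => by
    simp only [hU, mem_union, mem_swept] at ht
    rcases ht with (ht | ht) | ht <;> exact ht.1
  have hlt := tot U hU1
  rw [hUcard] at hlt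
  obtain ⟨rfl, rfl, rfl⟩ := pole_count hG hc4 ha2 hb2 he₀ hea heb hT₀ hTa hTb hlt
  -- no fourth class
  have hall : ∀ t : G, t ≠ 1 → t ∈ U := by
    intro t ht1
    by_contra htU
    simp only [hU, mem_union, not_or] at htU
    obtain ⟨Cd, hCd, htd⟩ := P.cover t ht1
    obtain ⟨hd2, ed, hed, -, hTd⟩ := key Cd hCd
    have d0 := new Cd hCd C₀ hC₀ t htd ht1 htU.1.1
    have da := new Cd hCd Ca hCa t htd ht1 htU.1.2
    have db := new Cd hCd Cb hCb t htd ht1 htU.2
    have hlt' := tot (U ∪ swept Cd) fun s hs => by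
      rcases mem_union.mp hs with hs | hs
      · exact hU1 s hs
      · exact (mem_swept.mp hs).1
    rw [card_union_of_disjoint (disjoint_union_left.mpr
      ⟨disjoint_union_left.mpr ⟨d0.symm, da.symm⟩, db.symm⟩), hUcard] at hlt'
    obtain ⟨k, hk⟩ := Nat.exists_eq_add_of_le hc4
    obtain ⟨i, hi⟩ := Nat.exists_eq_add_of_le ha2
    obtain ⟨j, hj⟩ := Nat.exists_eq_add_of_le hb2
    obtain ⟨l, hl⟩ := Nat.exists_eq_add_of_le hd2
    rw [hk] at hT₀; rw [hi] at hTa; rw [hj] at hTb; rw [hl] at hTd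
    simp at hT₀ hTa hTb
    have q0 : 3 * g ≤ 8 * (swept C₀).card := by nlinarith
    have qa : g ≤ 4 * (swept Ca).card := by nlinarith
    have qb : g ≤ 4 * (swept Cb).card := by nlinarith
    have qd : g ≤ 4 * (swept Cd).card := by
      rcases hed with rfl | rfl <;> simp at hTd <;> nlinarith
    omega
  have htot : g = (swept C₀).card + (swept Ca).card + (swept Cb).card + 1 := by
    have e : insert 1 U = univ := eq_univ_of_forall fun t => by
      by_cases ht : t = 1
      · simp [ht]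
      · exact mem_insert_of_mem (hall t ht)
    have := congrArg Finset.card e
    rw [card_insert_of_notMem (fun h => hU1 1 h rfl), hUcard, card_univ, ← hg] at this
    omega
  -- the orders
  have heq : g * (c * b + c * a + a * b) = g * (a * b * c) + 2 * (a * b * c) := by
    obtain ⟨k, hk⟩ := Nat.exists_eq_add_of_le hc4
    obtain ⟨i, hi⟩ := Nat.exists_eq_add_of_le ha2
    obtain ⟨j, hj⟩ := Nat.exists_eq_add_of_le hb2
    rw [hk] at hT₀ ⊢; rw [hi] at hTa ⊢; rw [hj] at hTb ⊢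
    simp at hT₀ hTa hTb
    zify at hT₀ hTa hTb htot ⊢
    linear_combination ((2 + (i : ℤ)) * (2 + j)) * hT₀ + ((4 + (k : ℤ)) * (2 + j)) * hTa
      + ((4 + (k : ℤ)) * (2 + i)) * hTb + 2 * ((4 + (k : ℤ)) * (2 + i) * (2 + j)) * htot
  have hval : c = 4 ∧ (a = 2 ∨ a = 3) ∧ (b = 2 ∨ b = 3) := by
    have h1 : a * b * c < c * b + c * a + a * b := by
      by_contra hle
      have h' := Nat.mul_le_mul_left g (Nat.le_of_not_lt hle)
      have hpos : 0 < a * b * c := by positivity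
      omega
    have small : a = 2 ∨ b = 2 := by
      by_contra h
      rw [not_or] at h
      have ha3 : 3 ≤ a := by omega
      have hb3 : 3 ≤ b := by omega
      have hab : 9 ≤ a * b := Nat.mul_le_mul ha3 hb3
      nlinarith [Nat.mul_le_mul_left (a * b) hc4, Nat.mul_le_mul_left (c * b) ha3,
        Nat.mul_le_mul_left (c * a) hb3]
    have red : ∀ c a b : ℕ, 4 ≤ c → 4 ∣ c → 2 * (2 * c) ≤ g → a = 2 → 2 ≤ b →
        a * b * c < c * b + c * a + a * b →
        g * (c * b + c * a + a * b) = g * (a * b * c) + 2 * (a * b * c) →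
        c = 4 ∧ (b = 2 ∨ b = 3) := by
      intro c a b hc4 h4 hNlt ha hb h1 heq
      subst ha
      rcases Nat.lt_or_ge b 3 with hlt | hge
      · obtain rfl : b = 2 := by omega
        exfalso
        nlinarith
      · have hc : c < 8 := by nlinarith
        obtain rfl : c = 4 := by omega
        refine ⟨rfl, Or.inr ?_⟩
        omega
    rcases small with h | h
    · obtain ⟨h1', h2'⟩ := red c a b hc4 h4 hNlt h hb2 h1 heq
      exact ⟨h1', Or.inl h, h2'⟩
    · obtain ⟨h1', h2'⟩ := red c b a hc4 h4 hNlt h ha2 (by linarith [mul_comm a b]) (by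
        rw [mul_comm b a, show c * a + c * b + a * b = c * b + c * a + a * b by ring]; exact heq)
      exact ⟨h1', h2', Or.inl h⟩
  by_cases hx : x = 1
  · simp [hx]
  have hpow : ∀ C : Subgroup G, x ∈ swept C → x ^ Nat.card C = 1 := by
    intro C hxC
    obtain ⟨-, h, hh⟩ := mem_swept.mp hxC
    have h1 := congrArg Subtype.val (pow_card_eq_one' (x := (⟨_, hh⟩ : C)))
    simp only [SubmonoidClass.coe_pow, OneMemClass.coe_one] at h1
    have h2 : (h * (h⁻¹ * x * h) * h⁻¹) ^ Nat.card C = 1 := by rw [conj_pow, h1]; simp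
    rwa [show h * (h⁻¹ * x * h) * h⁻¹ = x by group] at h2
  have four : x ^ 2 = 1 → x ^ 4 = 1 := fun h => by rw [show (4:ℕ) = 2 * 2 from rfl, pow_mul, h, one_pow]
  obtain ⟨hc', ha', hb'⟩ := hval
  have hxU := hall x hx
  simp only [hU, mem_union] at hxU
  rcases hxU with (hxU | hxU) | hxU
  · exact Or.inr (by have := hpow _ hxU; rwa [show Nat.card C₀ = 4 from hc'] at this)
  · have := hpow _ hxU
    rcases ha' with h | h <;> rw [show Nat.card Ca = _ from h] at this
    · exact Or.inr (four this)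
    · exact Or.inl this
  · have := hpow _ hxU
    rcases hb' with h | h <;> rw [show Nat.card Cb = _ from h] at this
    · exact Or.inr (four this)
    · exact Or.inl this

end

end Cfsg.Agent.ODec24
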