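import Cfsg.Agent.ODec24.Basic
import Cfsg.Agent.ODec24.Pole

/-!
Three-dimensional rotation groups with a four-fold rotation (helper24).
-/

set_option autoImplicit false
set_option linter.unusedSectionVars false

namespace Cfsg.Agent.ODec24

open QuadraticMap Cfsg.Agent.UnitaryOrthogonal
open scoped Matrix

variable {F : Type*} [Field F] {p : ℕ}

/-- The form `x² + y² + N z²`. -/
noncomputable def q3 (N : F) : QuadraticForm F (Fin 3 → F) :=
  weightedSumSquares F (![1, 1, N] : Fin 3 → F)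

theorem q3_apply (N : F) (x : Fin 3 → F) : q3 N x = x 0 * x 0 + x 1 * x 1 + N * (x 2 * x 2) := by
  simp [q3, weightedSumSquares_apply, Fin.sum_univ_three]

theorem polar_q3 (N : F) (x y : Fin 3 → F) :
    polar (q3 N) x y = 2 * (x 0 * y 0 + x 1 * y 1 + N * (x 2 * y 2)) := by
  simp only [polar, q3_apply, Pi.add_apply]; ring

variable {N : F} (hN : N ≠ 0) (P : PrimeOdd F p)
include hN P

theorem polarND_q3 : PolarND (q3 N) := fun u hu => by
  have e := fun k : Fin 3 => hu (Pi.single k 1)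
  have e0 := e 0; have e1 := e 1; have e2 := e 2
  simp [polar_q3, P.two_ne, hN] at e0 e1 e2
  funext k; fin_cases k <;> simp [e0, e1, e2]

theorem exists_fixed {g : orth (q3 N)} (hg : dt (q3 N) g = 1) : ∃ v, v ≠ 0 ∧ g.1 v = v := by
  classical
  set M := LinearMap.toMatrix' (g.1 : (Fin 3 → F) →ₗ[F] Fin 3 → F) with hM
  set D : Matrix (Fin 3) (Fin 3) F := Matrix.diagonal ![1, 1, N] with hD
  have hMap : ∀ i k, M k i = g.1 (Pi.single i 1) k := fun i k => by
    rw [hM, LinearMap.toMatrix'_apply]; rfl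
  have hMDM : Mᵀ * D * M = D := by
    ext i j
    have h := map_polar g (Pi.single i 1) (Pi.single j 1)
    rw [polar_q3, polar_q3] at h
    have h' := mul_left_cancel₀ P.two_ne h
    rw [Matrix.mul_apply, Fin.sum_univ_three]
    simp only [hD, Matrix.mul_diagonal, Matrix.transpose_apply, hMap]
    fin_cases i <;> fin_cases j <;>
      simp [Matrix.diagonal_apply, Pi.single_apply] at h' ⊢ <;> linear_combination h'
  have hdetM : M.det = 1 := by
    rw [hM, LinearMap.det_toMatrix', ← LinearEquiv.coe_det]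
    exact congrArg Units.val hg
  have hdD : D.det ≠ 0 := by simp [hD, Fin.prod_univ_three, hN]
  have hkey : (Mᵀ - 1) * D * M = D * (1 - M) := by
    rw [Matrix.sub_mul, Matrix.sub_mul, hMDM, Matrix.one_mul, Matrix.mul_sub, Matrix.mul_one]
  have h1 := congrArg Matrix.det hkey
  have hT : (Mᵀ - 1).det = (M - 1).det := by
    rw [← Matrix.det_transpose (M - 1), Matrix.transpose_sub, Matrix.transpose_one]
  have hneg : (1 - M).det = -(M - 1).det := by
    rw [← neg_sub M 1, Matrix.det_neg]; simp [pow_succ]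
  rw [Matrix.det_mul, Matrix.det_mul, Matrix.det_mul, hT, hneg, hdetM, mul_one] at h1
  have h0 : (M - 1).det = 0 := by
    have : 2 * D.det * (M - 1).det = 0 := by linear_combination h1
    simpa [P.two_ne, hdD] using this
  obtain ⟨v, hv, hv0⟩ := Matrix.exists_mulVec_eq_zero_iff.mpr h0
  refine ⟨v, hv, ?_⟩
  rw [Matrix.sub_mulVec, Matrix.one_mulVec, sub_eq_zero] at hv0
  conv_rhs => rw [← hv0]
  rw [hM, LinearMap.toMatrix'_mulVec]
  rfl

theorem eq_eich_of_fix {g : orth (q3 N)} (hg : dt (q3 N) g = 1) {i : Fin 3 → F} (hi0 : i ≠ 0)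
    (hi : q3 N i = 0) (hgi : g.1 i = i) :
    ∃ z, polar (q3 N) i z = 0 ∧ g = eich (q3 N) i z := by
  have hND := polarND_q3 hN P
  obtain ⟨y, hy, hiy⟩ := exists_pair hND.nonsing hi hi0
  have hfr := OrthStab.finrank_perp₂ (Q := q3 N) hi hy hiy
  rw [Module.finrank_fintype_fun_eq_card, Fintype.card_fin] at hfr
  have hfr1 : Module.finrank F (OrthStab.perp₂ (q3 N) i y) = 1 := by omega
  haveI := Module.nontrivial_of_finrank_pos (R := F) (M := OrthStab.perp₂ (q3 N) i y) (by omega)
  obtain ⟨⟨s, hsm⟩, hs0⟩ := exists_ne (0 : OrthStab.perp₂ (q3 N) i y)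
  have hs0' : s ≠ 0 := fun h => hs0 (Subtype.ext h)
  obtain ⟨his, hys⟩ := OrthStab.mem_perp₂.mp hsm
  have hii : polar (q3 N) i i = 0 := by rw [polar_self_eq, hi, mul_zero]
  have hyy : polar (q3 N) y y = 0 := by rw [polar_self_eq, hy, mul_zero]
  have hdec : ∀ x : Fin 3 → F, ∃ c : F, x = polar (q3 N) y x • i + polar (q3 N) i x • y + c • s := by
    intro x
    have hmem : x - polar (q3 N) y x • i - polar (q3 N) i x • y ∈ OrthStab.perp₂ (q3 N) i y := by
      rw [OrthStab.mem_perp₂]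
      simp [polar_sub_right, polar_smul_right, hii, hyy, hiy, polar_comm (q3 N) y i]
    obtain ⟨c, hc⟩ := (finrank_eq_one_iff_of_nonzero' ⟨s, hsm⟩ hs0).mp hfr1 ⟨_, hmem⟩
    refine ⟨c, ?_⟩
    rw [show c • s = x - polar (q3 N) y x • i - polar (q3 N) i x • y from congrArg Subtype.val hc]
    abel
  have hs : (q3 N) s ≠ 0 := fun h => hs0' (hND s fun x => by
    obtain ⟨c, hc⟩ := hdec x
    rw [hc]
    simp [polar_add_right, polar_smul_right, polar_comm (q3 N) s i, his, polar_comm (q3 N) s y, hys,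
      polar_self_eq, h])
  have key : ∀ h : orth (q3 N), h.1 i = i → h.1 s = s → h = 1 := by
    intro h h1 h2
    obtain ⟨c, hc⟩ := hdec (h.1 y)
    have e1 : polar (q3 N) i (h.1 y) = 1 := by
      conv_lhs => arg 2; rw [← h1]
      rw [map_polar, hiy]
    have e2 : polar (q3 N) s (h.1 y) = 0 := by
      conv_lhs => arg 2; rw [← h2]
      rw [map_polar, polar_comm, hys]
    rw [e1, one_smul] at hc
    have hc0 : c = 0 := by
      rw [hc] at e2
      simp [polar_add_right, polar_smul_right, polar_comm (q3 N) s i, his, polar_comm (q3 N) s y, hys,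
        polar_self_eq, P.two_ne, hs] at e2
      exact e2
    rw [hc0, zero_smul, add_zero] at hc
    have e3 : (q3 N) (h.1 y) = 0 := by rw [map_form, hy]
    rw [hc, form_add, form_smul, hi, hy, polar_smul_left, hiy] at e3
    have hy' : h.1 y = y := by
      rw [hc, show polar (q3 N) y (h.1 y) = 0 by simpa using e3, zero_smul, zero_add]
    refine orth_ext fun x => ?_
    obtain ⟨c', hc'⟩ := hdec x
    rw [hc', map_add, map_add, map_smul, map_smul, map_smul, h1, h2, hy']
    rfl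
  obtain ⟨c, hc⟩ := hdec (g.1 s)
  have e1 : polar (q3 N) i (g.1 s) = 0 := by
    conv_lhs => arg 2; rw [← hgi]
    rw [map_polar, his]
  rw [e1, zero_smul, add_zero] at hc
  have hc2 : c * c = 1 := by
    have e3 : (q3 N) (g.1 s) = (q3 N) s := map_form g s
    rw [hc, form_add, form_smul, form_smul, hi, polar_smul_left, polar_smul_right, his] at e3
    simp at e3
    have : (c * c - 1) * (q3 N) s = 0 := by linear_combination e3
    exact sub_eq_zero.mp ((mul_eq_zero.mp this).resolve_right hs)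
  generalize polar (q3 N) y (g.1 s) = a at hc
  have shape : ∀ h : orth (q3 N), h.1 i = i → h.1 s = a • i + (1 : F) • s →
      ∃ z, polar (q3 N) i z = 0 ∧ h = eich (q3 N) i z := by
    intro h h1 h2
    set τ := -(a / (2 * (q3 N) s)) with hτ
    have hz : polar (q3 N) i (τ • s) = 0 := by rw [polar_smul_right, his, smul_zero]
    refine ⟨τ • s, hz, inv_mul_eq_one.mp ?_ |>.symm⟩
    refine key _ ?_ ?_
    · rw [coe_mul_apply, h1, eich_inv hi hz, eich_apply hi (by simp [hz])]
      simp [hii, polar_neg_left, polar_smul_left, polar_comm (q3 N) s i, his]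
    · rw [coe_mul_apply, h2, eich_inv hi hz, map_add, map_smul, map_smul,
        eich_apply hi (by simp [hz]), eich_apply hi (by simp [hz])]
      simp only [hii, his, polar_neg_left, polar_smul_left, polar_comm (q3 N) s i, polar_self_eq,
        smul_eq_mul, zero_smul, mul_zero, sub_zero, add_zero, neg_zero, hτ]
      match_scalars <;> field_simp [P.two_ne] <;> ring
  rcases mul_self_eq_one_iff.mp hc2 with rfl | rfl
  · exact shape g hgi hc
  · exfalso
    have h1 : (rf (q3 N) s * g).1 i = i := by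
      rw [coe_mul_apply, hgi, rf_apply_of_polar (by rw [polar_comm]; exact his)]
    have h2 : (rf (q3 N) s * g).1 s = a • i + (1 : F) • s := by
      rw [coe_mul_apply, hc, map_add, map_smul, map_smul, rf_apply_self hs,
        rf_apply_of_polar (by rw [polar_comm]; exact his)]
      simp
    obtain ⟨z, -, hz⟩ := shape _ h1 h2
    have := congrArg (fun h => ((dt (q3 N) h : Fˣ) : F)) hz
    simp only [map_mul, dt_rf (q3 N) hs, hg, dt_eich P, Units.val_mul, Units.val_neg, Units.val_one,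
      mul_one] at this
    exact P.two_ne (by linear_combination -this)

theorem pow_p_of_fix {g : orth (q3 N)} (hg : dt (q3 N) g = 1) {i : Fin 3 → F} (hi0 : i ≠ 0)
    (hi : q3 N i = 0) (hgi : g.1 i = i) : g ^ p = 1 := by
  haveI := P.char
  obtain ⟨z, hz, rfl⟩ := eq_eich_of_fix hN P hg hi0 hi hgi
  rw [eich_pow hi hz, CharP.cast_eq_zero, zero_smul, eich_zero]

theorem exists_isotropic_fix {g : orth (q3 N)} (hp : g ^ p = 1) (hne : g ≠ 1) :
    ∃ i, i ≠ 0 ∧ q3 N i = 0 ∧ g.1 i = i := by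
  haveI := P.char
  haveI := Fact.mk P.prime
  set A : Module.End F (Fin 3 → F) := g.1.toLinearMap with hA
  haveI : CharP (Module.End F (Fin 3 → F)) p :=
    charP_of_injective_algebraMap (FaithfulSMul.algebraMap_injective F _) p
  have hAp : A ^ p = 1 := by
    have hpow : ∀ m : ℕ, A ^ m = (g ^ m).1.toLinearMap := by
      intro m
      induction m with
      | zero => rfl
      | succ m ih => rw [pow_succ, ih, pow_succ]; rfl
    rw [hpow, hp]; rfl
  have hN' : (A - 1) ^ p = 0 := by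
    rw [sub_pow_char_of_commute (p := p) (Commute.one_right A), hAp, one_pow, sub_self]
  obtain ⟨x, hx⟩ : ∃ x, g.1 x ≠ x := by
    by_contra h
    simp only [not_exists, not_not] at h
    exact hne (orth_ext h)
  have hBx : ((A - 1) ^ 1 : Module.End F (Fin 3 → F)) x ≠ 0 := by
    rw [pow_one, LinearMap.sub_apply, Module.End.one_apply]
    exact sub_ne_zero.mpr hx
  classical
  have hex : ∃ m, ((A - 1) ^ (m + 1) : Module.End F (Fin 3 → F)) x = 0 := ⟨p, by rw [pow_succ', hN']; simp⟩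
  set k := Nat.find hex
  have hk1 : 1 ≤ k := by
    by_contra h
    have h0 : k = 0 := by omega
    have := Nat.find_spec hex
    rw [show Nat.find hex = 0 from h0] at this
    exact hBx this
  obtain ⟨m, hm⟩ := Nat.exists_eq_add_of_le hk1
  have hlast : ((A - 1) ^ (m + 1) : Module.End F (Fin 3 → F)) x ≠ 0 := Nat.find_min hex (show m < k by omega)
  set v := ((A - 1) ^ (m + 1) : Module.End F (Fin 3 → F)) x with hv
  have hfix : g.1 v = v := by
    have := Nat.find_spec hex
    rw [show Nat.find hex + 1 = (m + 1) + 1 by omega, pow_succ', Module.End.mul_apply,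
      LinearMap.sub_apply, Module.End.one_apply, sub_eq_zero] at this
    exact this
  refine ⟨v, hlast, ?_, hfix⟩
  set y := ((A - 1) ^ m : Module.End F (Fin 3 → F)) x
  have hvy : v = g.1 y - y := by
    rw [hv, pow_succ', Module.End.mul_apply, LinearMap.sub_apply, Module.End.one_apply]; rfl
  have h0 : polar (q3 N) v v = 0 := by
    conv_lhs => arg 2; rw [hvy]
    rw [polar_sub_left]
    conv_lhs => arg 1; arg 3; rw [← hfix]
    rw [map_polar, sub_self]
  rw [polar_self_eq] at h0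
  exact (mul_eq_zero.mp h0).resolve_left P.two_ne

variable {K : Subgroup (orth (q3 N))} (hdet : ∀ g ∈ K, dt (q3 N) g = 1)
  (hNoP : ∀ g ∈ K, g ^ p = 1 → g = 1)
include hdet hNoP

theorem axis_aniso {g : orth (q3 N)} (hgK : g ∈ K) (hne : g ≠ 1) {v : Fin 3 → F} (hv0 : v ≠ 0)
    (hv : g.1 v = v) : q3 N v ≠ 0 :=
  fun h => hne (hNoP g hgK (pow_p_of_fix hN P (hdet g hgK) hv0 h hv))

theorem axis_unique {g : orth (q3 N)} (hgK : g ∈ K) (hne : g ≠ 1) {v w : Fin 3 → F} (hv0 : v ≠ 0)
    (hv : g.1 v = v) (hw : g.1 w = w) : ∃ c : F, w = c • v := by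
  have hQv := axis_aniso hN P hdet hNoP hgK hne hv0 hv
  set c := polar (q3 N) v w / polar (q3 N) v v with hc
  have hvv : polar (q3 N) v v ≠ 0 := by rw [polar_self_eq]; exact mul_ne_zero P.two_ne hQv
  refine ⟨c, ?_⟩
  by_contra hwc
  set w' := w - c • v with hw'
  have hw'0 : w' ≠ 0 := sub_ne_zero.mpr hwc
  have hgw' : g.1 w' = w' := by rw [hw', map_sub, map_smul, hv, hw]
  have hQw := axis_aniso hN P hdet hNoP hgK hne hw'0 hgw'
  have hvw : polar (q3 N) v w' = 0 := by
    rw [hw', polar_sub_right, polar_smul_right, smul_eq_mul, hc, div_mul_cancel₀ _ hvv, sub_self]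
  have hww : polar (q3 N) w' w' ≠ 0 := by rw [polar_self_eq]; exact mul_ne_zero P.two_ne hQw
  let L := (polarBilin (q3 N) v).prod (polarBilin (q3 N) w')
  have hker : LinearMap.ker L ≠ ⊥ := fun hb => by
    have := LinearMap.finrank_le_finrank_of_injective (LinearMap.ker_eq_bot.mp hb)
    simp [Module.finrank_prod] at this
  obtain ⟨t, ht, ht0⟩ := (Submodule.ne_bot_iff _).mp hker
  simp [L] at ht
  obtain ⟨htv, htw⟩ := ht
  have hLsurj : Function.Surjective L := fun ⟨a, b⟩ =>
    ⟨(a / polar (q3 N) v v) • v + (b / polar (q3 N) w' w') • w', by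
      simp [L, hvw, polar_comm (q3 N) w' v, hQv, hQw, P.two_ne]⟩
  have hk1 : Module.finrank F (LinearMap.ker L) = 1 := by
    have := LinearMap.finrank_range_add_finrank_ker L
    rw [LinearMap.range_eq_top.mpr hLsurj, finrank_top] at this
    simp [Module.finrank_prod] at this
    omega
  have hline : ∀ x, polar (q3 N) v x = 0 → polar (q3 N) w' x = 0 → ∃ d : F, d • t = x := by
    intro x h1 h2
    obtain ⟨d, hd⟩ := (finrank_eq_one_iff_of_nonzero' (V := LinearMap.ker L)
      ⟨t, by simp [L, htv, htw]⟩ (fun e => ht0 (congrArg Subtype.val e))).mp hk1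
      ⟨x, by simp [L, h1, h2]⟩
    exact ⟨d, congrArg Subtype.val hd⟩
  have hdec : ∀ x, ∃ a b d : F, x = a • v + b • w' + d • t := by
    intro x
    obtain ⟨d, hd⟩ := hline (x - (polar (q3 N) v x / polar (q3 N) v v) • v -
      (polar (q3 N) w' x / polar (q3 N) w' w') • w')
      (by simp [polar_sub_right, polar_smul_right, hvw, hQv, P.two_ne])
      (by simp [polar_sub_right, polar_smul_right, polar_comm (q3 N) w' v, hvw, hQw, P.two_ne])
    exact ⟨_, _, d, by rw [hd]; abel⟩
  have hQt : (q3 N) t ≠ 0 := fun h => ht0 (polarND_q3 hN P t fun x => by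
    obtain ⟨a, b, d, rfl⟩ := hdec x
    simp [polar_add_right, polar_smul_right, polar_comm (q3 N) t v, htv, polar_comm (q3 N) t w', htw,
      polar_self_eq, h])
  obtain ⟨d, hd⟩ := hline (g.1 t)
    (by conv_lhs => arg 2; rw [← hv]
        rw [map_polar, htv])
    (by conv_lhs => arg 2; rw [← hgw']
        rw [map_polar, htw])
  have hd2 : d * d = 1 := by
    have e : (q3 N) (g.1 t) = (q3 N) t := map_form g t
    rw [← hd, form_smul] at e
    exact mul_right_cancel₀ hQt (by rw [one_mul]; exact e)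
  rcases mul_self_eq_one_iff.mp hd2 with rfl | rfl
  · refine hne (orth_ext fun x => ?_)
    obtain ⟨a, b, e, rfl⟩ := hdec x
    rw [map_add, map_add, map_smul, map_smul, map_smul, hv, hgw', ← hd, one_smul]
    rfl
  · have : g = rf (q3 N) t := orth_ext fun x => by
      obtain ⟨a, b, e, rfl⟩ := hdec x
      rw [map_add, map_add, map_smul, map_smul, map_smul, hv, hgw', ← hd, map_add, map_add,
        map_smul, map_smul, map_smul, rf_apply_self hQt,
        rf_apply_of_polar (show polar (q3 N) t v = 0 by rw [polar_comm]; exact htv),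
        rf_apply_of_polar (show polar (q3 N) t w' = 0 by rw [polar_comm]; exact htw)]
      simp
    have h := congrArg Units.val (hdet g hgK)
    rw [this, dt_rf (q3 N) hQt] at h
    simp at h
    exact P.two_ne (by linear_combination -h)

theorem pow_three_or_four' [Finite F] {ρ : orth (q3 N)} (hρ : ρ ∈ K)
    (hρz : ρ.1 (Pi.single 2 1) = Pi.single 2 1) (hord : orderOf ρ = 4) {g₀ : orth (q3 N)}
    (hg₀ : g₀ ∈ K) (hmv : ∀ c : F, g₀.1 (Pi.single 2 1) ≠ c • Pi.single 2 1)
    {x : orth (q3 N)} (hx : x ∈ K) : x ^ 3 = 1 ∨ x ^ 4 = 1 := by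
  classical
  haveI : Finite ((Fin 3 → F) ≃ₗ[F] (Fin 3 → F)) :=
    Finite.of_injective _ LinearEquiv.toEquiv_injective
  haveI : Fintype K := Fintype.ofFinite _
  let fixer : (Fin 3 → F) → Subgroup K := fun v =>
    { carrier := {g | g.1.1 v = v}
      one_mem' := rfl
      mul_mem' := fun {a b} ha hb => by
        show (a.1 * b.1).1 v = v
        rw [coe_mul_apply, show b.1.1 v = v from hb]
        exact ha
      inv_mem' := fun {a} ha => by
        show (a.1⁻¹).1 v = v
        conv_lhs => rw [← show a.1.1 v = v from ha]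
        exact coe_inv_apply_apply a.1 v }
  have mem_fixer : ∀ v (g : K), g ∈ fixer v ↔ g.1.1 v = v := fun v g => Iff.rfl
  let A : Set (Subgroup K) := {C | C ≠ ⊥ ∧ ∃ v, v ≠ 0 ∧ C = fixer v}
  have hcoe : ∀ g : K, g ≠ 1 → (g : orth (q3 N)) ≠ 1 := fun g hg h => hg (Subtype.ext h)
  have line : ∀ g : K, g ≠ 1 → ∀ v w, v ≠ 0 → w ≠ 0 → g ∈ fixer v → g ∈ fixer w →
      ∃ c : F, c ≠ 0 ∧ w = c • v := by
    intro g hg v w hv hw h1 h2
    obtain ⟨c, hc⟩ := axis_unique hN P hdet hNoP g.2 (hcoe g hg) hv h1 h2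
    exact ⟨c, fun h0 => hw (by rw [hc, h0, zero_smul]), hc⟩
  have fix_smul : ∀ v (c : F), c ≠ 0 → fixer (c • v) = fixer v := fun v c hc => by
    ext g
    rw [mem_fixer, mem_fixer, map_smul]
    exact ⟨fun h => smul_right_injective _ hc h, fun h => by rw [h]⟩
  have fix_conj : ∀ (g : K) v, (fixer v).map (MulAut.conj g).toMonoidHom = fixer (g.1.1 v) := by
    intro g v
    ext h
    rw [Subgroup.mem_map_equiv, mem_fixer, mem_fixer, MulAut.conj_symm_apply]
    show (g.1⁻¹ * h.1 * g.1).1 v = v ↔ _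
    rw [coe_mul_apply, coe_mul_apply]
    exact ⟨fun h' => by have := congrArg g.1.1 h'; rwa [coe_apply_inv_apply] at this,
      fun h' => by rw [h', coe_inv_apply_apply]⟩
  have norm_line : ∀ v, v ≠ 0 → fixer v ≠ ⊥ → ∀ m ∈ Subgroup.normalizer (fixer v : Set K),
      m.1.1 v = v ∨ m.1.1 v = -v := by
    intro v hv hne m hm
    obtain ⟨c, hc, hc1⟩ := (Subgroup.ne_bot_iff_exists_ne_one.mp hne |> fun ⟨c, hc⟩ =>
      (⟨c.1, c.2, fun h => hc (Subtype.ext h)⟩ : ∃ c, c ∈ fixer v ∧ c ≠ 1))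
    have hmc : m⁻¹ * c * m ∈ fixer v := (Subgroup.mem_normalizer_iff''.mp hm c).mp hc
    have hc' : c.1.1 (m.1.1 v) = m.1.1 v := by
      have h1 : (m.1⁻¹ * c.1 * m.1).1 v = v := hmc
      rw [coe_mul_apply, coe_mul_apply] at h1
      have := congrArg m.1.1 h1
      rwa [coe_apply_inv_apply] at this
    obtain ⟨t, ht0, ht⟩ := line c hc1 v _ hv (fun h => hv (m.1.1.map_eq_zero_iff.mp h)) hc hc'
    have hQ := axis_aniso hN P hdet hNoP c.2 (hcoe c hc1) hv hc
    have e : q3 N (m.1.1 v) = q3 N v := map_form m.1 v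
    rw [ht, form_smul] at e
    rcases mul_self_eq_one_iff.mp (mul_right_cancel₀ hQ (by rw [one_mul]; exact e) : t * t = 1)
      with rfl | rfl
    · left; rw [ht, one_smul]
    · right; rw [ht, neg_one_smul]
  have PD : PoleData A :=
    { ne := fun C hC => hC.1
      cover := fun g hg => by
        obtain ⟨v, hv0, hv⟩ := exists_fixed hN P (hdet g.1 g.2)
        exact ⟨fixer v, ⟨fun h => hg (by
          have : g ∈ fixer v := hv
          rwa [h, Subgroup.mem_bot] at this), v, hv0, rfl⟩, hv⟩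
      disj := by
        rintro C ⟨-, v, hv, rfl⟩ D ⟨-, w, hw, rfl⟩ g hg h1 h2
        obtain ⟨c, hc, rfl⟩ := line g hg v w hv hw h1 h2
        rw [fix_smul v c hc]
      conj := by
        rintro g C ⟨hne, v, hv, rfl⟩
        refine ⟨fun h => hne ?_, g.1.1 v, fun h => hv (g.1.1.map_eq_zero_iff.mp h), fix_conj g v⟩
        exact (Subgroup.map_eq_bot_iff_of_injective _ (MulAut.conj g).injective).mp h
      two := by
        rintro C ⟨hne, v, hv, rfl⟩ m hm m' hm' hmC hm'C
        have e1 := (norm_line v hv hne m hm).resolve_left hmC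
        have e2 := (norm_line v hv hne m' hm').resolve_left hm'C
        show (m.1⁻¹ * m'.1).1 v = v
        rw [coe_mul_apply, e2, ← e1, coe_inv_apply_apply] }
  set z : Fin 3 → F := Pi.single 2 1
  have hz : z ≠ 0 := fun h => by simpa [z] using congrFun h 2
  have hρC : (⟨ρ, hρ⟩ : K) ∈ fixer z := hρz
  have hρ1 : (⟨ρ, hρ⟩ : K) ≠ 1 := fun h => by
    have h' : ρ = 1 := congrArg Subtype.val h
    rw [h', orderOf_one] at hord
    omega
  have hC0 : fixer z ≠ ⊥ := fun h => hρ1 (by rwa [h, Subgroup.mem_bot] at hρC)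
  have h4 : 4 ∣ Nat.card (fixer z) := by
    have h1 : orderOf (⟨⟨ρ, hρ⟩, hρC⟩ : fixer z) = 4 := by
      rw [← Subgroup.orderOf_coe, ← Subgroup.orderOf_coe]; exact hord
    rw [← h1]
    exact orderOf_dvd_natCard _
  have hnn : Subgroup.normalizer (fixer z : Set K) ≠ ⊤ := fun h => by
    rcases norm_line z hz hC0 ⟨g₀, hg₀⟩ (h ▸ Subgroup.mem_top _) with e | e
    · exact hmv 1 (by rw [one_smul]; exact e)
    · exact hmv (-1) (by rw [neg_one_smul]; exact e)
  rcases pow_three_or_four PD (C₀ := fixer z) ⟨hC0, z, hz, rfl⟩ h4 hnn ⟨x, hx⟩ with e | e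
  · exact Or.inl (by simpa using congrArg Subtype.val e)
  · exact Or.inr (by simpa using congrArg Subtype.val e)

omit hdet hNoP in
/-- A rotation group with a four-fold rotation has a unipotent element or is small. -/
theorem rot_dichotomy [Finite F] {L : Subgroup (orth (q3 N))} {ρ : orth (q3 N)}
    (hρdt : dt (q3 N) ρ = 1) (hρz : ρ.1 (Pi.single 2 1) = Pi.single 2 1) (hord : orderOf ρ = 4)
    (hnorm : ∀ k ∈ L, ρ * k * ρ⁻¹ ∈ L) {x y : orth (q3 N)} (hx : x ∈ L) (hy : y ∈ L)
    (hxd : dt (q3 N) x = 1) (hyd : dt (q3 N) y = 1)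
    (hmv : ∀ c : F, x.1 (Pi.single 2 1) ≠ c • Pi.single 2 1) :
    (∃ i z, i ≠ 0 ∧ q3 N i = 0 ∧ polar (q3 N) i z = 0 ∧ (∀ c : F, z ≠ c • i) ∧
        eich (q3 N) i z ∈ L) ∨
      (x ^ 3 = 1 ∨ x ^ 4 = 1) ∧ (y ^ 3 = 1 ∨ y ^ 4 = 1) := by
  haveI : Finite ((Fin 3 → F) ≃ₗ[F] (Fin 3 → F)) :=
    Finite.of_injective _ LinearEquiv.toEquiv_injective
  have hρ4 : ρ ^ 4 = 1 := hord ▸ pow_orderOf_eq_one ρ
  have hpow : ∀ (j : ℕ) (k : orth (q3 N)), k ∈ L → ρ ^ j * k * (ρ ^ j)⁻¹ ∈ L := by
    intro j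
    induction j with
    | zero => intro k hk; simpa using hk
    | succ j ih =>
      intro k hk
      have := hnorm _ (ih k hk)
      simpa [pow_succ', mul_assoc] using this
  have hinv : ∀ i : ℕ, ρ ^ (3 * i) = (ρ ^ i)⁻¹ := fun i => by
    rw [eq_inv_iff_mul_eq_one, ← pow_add, show 3 * i + i = 4 * i by ring, pow_mul, hρ4, one_pow]
  let K : Subgroup (orth (q3 N)) :=
    { carrier := {k | (∃ j : ℕ, k * ρ ^ j ∈ L) ∧ dt (q3 N) k = 1}
      one_mem' := ⟨⟨0, by simp⟩, map_one _⟩
      mul_mem' := by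
        rintro a b ⟨⟨i, hi⟩, ha⟩ ⟨⟨j, hj⟩, hb⟩
        refine ⟨⟨i + j, ?_⟩, by rw [map_mul, ha, hb, one_mul]⟩
        have h1 := mul_mem hi (hpow (3 * i) _ hj)
        rw [hinv, inv_inv] at h1
        have e : a * ρ ^ i * ((ρ ^ i)⁻¹ * (b * ρ ^ j) * ρ ^ i) = a * b * ρ ^ (i + j) := by
          rw [show i + j = j + i by ring, pow_add]; group
        rwa [e] at h1
      inv_mem' := by
        rintro a ⟨⟨i, hi⟩, ha⟩
        refine ⟨⟨3 * i, ?_⟩, by rw [map_inv, ha, inv_one]⟩
        have h1 := hpow i _ (inv_mem hi)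
        have e : ρ ^ i * (a * ρ ^ i)⁻¹ * (ρ ^ i)⁻¹ = a⁻¹ * ρ ^ (3 * i) := by
          rw [hinv]; group
        rwa [e] at h1 }
  have hKd : ∀ g ∈ K, dt (q3 N) g = 1 := fun g hg => hg.2
  have hLK : ∀ g ∈ L, dt (q3 N) g = 1 → g ∈ K := fun g hg hd => ⟨⟨0, by simpa using hg⟩, hd⟩
  have hρK : ρ ∈ K := ⟨⟨3, by rw [← pow_succ', hρ4]; exact one_mem _⟩, hρdt⟩
  by_cases hNoP : ∀ g ∈ K, g ^ p = 1 → g = 1
  · exact Or.inr ⟨pow_three_or_four' hN P hKd hNoP hρK hρz hord (hLK x hx hxd) hmv (hLK x hx hxd),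
      pow_three_or_four' hN P hKd hNoP hρK hρz hord (hLK x hx hxd) hmv (hLK y hy hyd)⟩
  left
  simp only [not_forall] at hNoP
  obtain ⟨k, hkK, hkp, hk1⟩ := hNoP
  obtain ⟨⟨j, hj⟩, hkd⟩ := hkK
  have step : ∀ m : ℕ, k ^ m * ρ ^ (m * j) ∈ L := by
    intro m
    induction m with
    | zero => simpa using one_mem L
    | succ m ih =>
      have h1 := mul_mem ih (hpow (3 * (m * j)) _ hj)
      rw [hinv, inv_inv] at h1
      have e : k ^ m * ρ ^ (m * j) * ((ρ ^ (m * j))⁻¹ * (k * ρ ^ j) * ρ ^ (m * j)) =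
          k ^ (m + 1) * ρ ^ ((m + 1) * j) := by
        rw [show (m + 1) * j = j + m * j by ring, pow_add, pow_succ]; group
      rwa [e] at h1
  have h4L : k ^ 4 ∈ L := by
    have := step 4
    rwa [pow_mul, hρ4, one_pow, mul_one] at this
  have h4ne : k ^ 4 ≠ 1 := fun h => hk1 (by
    have hd := orderOf_dvd_of_pow_eq_one h
    have hd' := orderOf_dvd_of_pow_eq_one hkp
    rcases (Nat.dvd_prime P.prime).mp hd' with e | e
    · exact orderOf_eq_one_iff.mp e
    · rw [e] at hd
      have := Nat.le_of_dvd (by norm_num) hd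
      have := P.three_le
      interval_cases p <;> norm_num at hd <;> exact absurd P.prime (by norm_num))
  have h4p : (k ^ 4) ^ p = 1 := by rw [← pow_mul, mul_comm, pow_mul, hkp, one_pow]
  obtain ⟨i, hi0, hi, hgi⟩ := exists_isotropic_fix hN P h4p h4ne
  obtain ⟨z, hz, hgz⟩ := eq_eich_of_fix hN P (by rw [map_pow, hkd, one_pow]) hi0 hi hgi
  refine ⟨i, z, hi0, hi, hz, fun c hc => h4ne ?_, hgz ▸ h4L⟩
  rw [hgz, hc, ← zero_add (c • i), eich_add_smul hi (by simp), eich_zero]

end Cfsg.Agent.ODec24
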