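import Cfsg.Agent.ODec24.Star
import Cfsg.Agent.ODec24.Three

/-!
From a unit vector with small support in `R` to a star (helper24).
-/

set_option autoImplicit false
set_option linter.unusedSectionVars false

namespace Cfsg.Agent.ODec24

open QuadraticMap Cfsg.Agent.UnitaryOrthogonal
open scoped Matrix

variable {ι : Type} [Fintype ι] [DecidableEq ι] {F : Type*} [Field F] {p : ℕ}

/-- The data of a three-space `e a, e l, z`. -/
structure Frame3 (a l : ι) (z : ι → F) (N : F) : Prop where
  ne : a ≠ l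
  za : z a = 0
  zl : z l = 0
  zz : z ⬝ᵥ z = N
  N0 : N ≠ 0

/-- The embedding. -/
def emb (a l : ι) (z : ι → F) : (Fin 3 → F) →ₗ[F] (ι → F) :=
  (LinearMap.proj 0).smulRight (bv a) + (LinearMap.proj 1).smulRight (bv l)
    + (LinearMap.proj 2).smulRight z

theorem emb_apply (a l : ι) (z : ι → F) (m : Fin 3 → F) :
    emb a l z m = m 0 • bv a + m 1 • bv l + m 2 • z := rfl

theorem dot_emb (a l : ι) (z : ι → F) (m : Fin 3 → F) (x : ι → F) :
    emb a l z m ⬝ᵥ x = m 0 * x a + m 1 * x l + m 2 * (z ⬝ᵥ x) := by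
  simp [emb_apply, add_dotProduct]

/-- The coordinates of the projection. -/
noncomputable def prj (a l : ι) (z : ι → F) (x : ι → F) : Fin 3 → F :=
  ![x a, x l, (z ⬝ᵥ x) / (z ⬝ᵥ z)]

theorem prj_add (a l : ι) (z x y : ι → F) : prj a l z (x + y) = prj a l z x + prj a l z y := by
  funext k; fin_cases k <;> simp [prj, dotProduct_add, add_div]

theorem prj_smul (a l : ι) (z : ι → F) (c : F) (x : ι → F) :
    prj a l z (c • x) = c • prj a l z x := by
  funext k; fin_cases k <;> simp [prj, mul_div_assoc]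

variable {a l : ι} {z : ι → F} {N : F}

theorem Frame3.prj_emb (T : Frame3 a l z N) (m : Fin 3 → F) : prj a l z (emb a l z m) = m := by
  have h : z ⬝ᵥ emb a l z m = m 2 * N := by
    rw [dotProduct_comm, dot_emb, T.za, T.zl, T.zz]; ring
  have ha : emb a l z m a = m 0 := by simp [emb_apply, T.za, T.ne]
  have hl : emb a l z m l = m 1 := by simp [emb_apply, T.zl, T.ne.symm]
  funext k
  fin_cases k
  · simpa [prj] using ha
  · simpa [prj] using hl
  · simp [prj, h, T.zz, T.N0]

theorem Frame3.dot_emb_emb (T : Frame3 a l z N) (m m' : Fin 3 → F) :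
    emb a l z m ⬝ᵥ emb a l z m' = m 0 * m' 0 + m 1 * m' 1 + N * (m 2 * m' 2) := by
  have h : z ⬝ᵥ emb a l z m' = m' 2 * N := by
    rw [dotProduct_comm, dot_emb, T.za, T.zl, T.zz]; ring
  rw [dot_emb, h]
  simp [emb_apply, T.za, T.zl, T.ne, T.ne.symm]
  ring

theorem Frame3.sq_emb (T : Frame3 a l z N) (m : Fin 3 → F) :
    sq ι F (emb a l z m) = q3 N m := by
  rw [sq_apply, T.dot_emb_emb, q3_apply]

theorem Frame3.polar_prj (T : Frame3 a l z N) (m : Fin 3 → F) (x : ι → F) :
    polar (q3 N) m (prj a l z x) = polar (sq ι F) (emb a l z m) x := by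
  rw [polar_q3, polar_sq, dot_emb]
  congr 1
  simp only [prj, Matrix.cons_val_zero, Matrix.cons_val_one, Matrix.cons_val_two, Matrix.head_cons,
    Matrix.tail_cons]
  rw [T.zz]
  field_simp [T.N0]

/-- The extension of an isometry of the three-space by the identity, as a map. -/
noncomputable def extMap (a l : ι) (z : ι → F) (g : (Fin 3 → F) →ₗ[F] (Fin 3 → F)) :
    (ι → F) →ₗ[F] (ι → F) where
  toFun x := x + emb a l z (g (prj a l z x) - prj a l z x)
  map_add' x y := by simp only [prj_add, map_add, map_sub]; abel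
  map_smul' c x := by simp only [prj_smul, map_smul, map_sub, smul_add, smul_sub, RingHom.id_apply]

theorem Frame3.prj_extMap (T : Frame3 a l z N) (g : (Fin 3 → F) →ₗ[F] (Fin 3 → F)) (x : ι → F) :
    prj a l z (extMap a l z g x) = g (prj a l z x) := by
  show prj a l z (x + emb a l z _) = _
  rw [prj_add, T.prj_emb, add_sub_cancel]

theorem Frame3.extMap_inv (T : Frame3 a l z N) (g : orth (q3 N)) (x : ι → F) :
    extMap a l z g⁻¹.1.toLinearMap (extMap a l z g.1.toLinearMap x) = x := by
  show extMap a l z g.1.toLinearMap x + emb a l z (g⁻¹.1 (prj a l z (extMap a l z g.1.toLinearMap x))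
    - prj a l z (extMap a l z g.1.toLinearMap x)) = x
  rw [T.prj_extMap]
  show x + emb a l z (g.1 (prj a l z x) - prj a l z x) +
    emb a l z (g⁻¹.1 (g.1 (prj a l z x)) - g.1 (prj a l z x)) = x
  rw [coe_inv_apply_apply, add_assoc, ← map_add]
  simp

/-- The extension as an isometry. -/
noncomputable def Frame3.extEl (T : Frame3 a l z N) (g : orth (q3 N)) : orth (sq ι F) :=
  ⟨{ extMap a l z g.1.toLinearMap with
      invFun := extMap a l z g⁻¹.1.toLinearMap
      left_inv := T.extMap_inv g
      right_inv := fun x => by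
        have := T.extMap_inv g⁻¹ x
        rwa [inv_inv] at this },
    fun x => by
      show sq ι F (x + emb a l z (g.1 (prj a l z x) - prj a l z x)) = sq ι F x
      rw [form_add, T.sq_emb, polar_comm, ← T.polar_prj, sub_eq_add_neg (g.1 (prj a l z x)),
        form_add, QuadraticMap.map_neg, polar_add_left, polar_neg_left, polar_neg_right, map_form,
        polar_self_eq]
      ring⟩

theorem Frame3.extEl_apply (T : Frame3 a l z N) (g : orth (q3 N)) (x : ι → F) :
    (T.extEl g).1 x = x + emb a l z (g.1 (prj a l z x) - prj a l z x) := rfl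

/-- The extension homomorphism. -/
noncomputable def Frame3.ext (T : Frame3 a l z N) : orth (q3 N) →* orth (sq ι F) where
  toFun := T.extEl
  map_one' := orth_ext fun x => by
    rw [T.extEl_apply, coe_one_apply, sub_self, map_zero, add_zero, coe_one_apply]
  map_mul' g h := orth_ext fun x => by
    have e : prj a l z ((T.extEl h).1 x) = h.1 (prj a l z x) := T.prj_extMap h.1.toLinearMap x
    rw [coe_mul_apply, T.extEl_apply, T.extEl_apply g, e, T.extEl_apply, coe_mul_apply, add_assoc,
      ← map_add]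
    congr 2
    abel

theorem Frame3.ext_apply (T : Frame3 a l z N) (g : orth (q3 N)) (x : ι → F) :
    (T.ext g).1 x = x + emb a l z (g.1 (prj a l z x) - prj a l z x) := rfl

theorem Frame3.ext_rf (T : Frame3 a l z N) (m : Fin 3 → F) :
    T.ext (rf (q3 N) m) = rf (sq ι F) (emb a l z m) := orth_ext fun x => by
  rw [T.ext_apply, rf_apply, rf_apply, T.sq_emb, T.polar_prj, sub_sub_cancel_left, map_neg,
    map_smul]
  abel

theorem Frame3.ext_eich (T : Frame3 a l z N) {i w : Fin 3 → F} (hi : q3 N i = 0)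
    (hw : polar (q3 N) i w = 0) :
    T.ext (eich (q3 N) i w) = eich (sq ι F) (emb a l z i) (emb a l z w) := orth_ext fun x => by
  have h : polar (sq ι F) (emb a l z i) (emb a l z w) = 0 := by
    rw [← T.polar_prj, T.prj_emb, hw]
  rw [T.ext_apply, eich_apply hi hw, eich_apply (by rw [T.sq_emb, hi]) h, T.sq_emb, T.polar_prj,
    T.polar_prj]
  simp only [map_sub, map_add, map_smul]
  abel

theorem Frame3.ext_commute (T : Frame3 a l z N) (h2 : (2 : F) ≠ 0) {g : orth (sq ι F)}
    (ga : g.1 (bv a) = bv a) (gl : g.1 (bv l) = bv l) (gz : g.1 z = z) (k : orth (q3 N)) :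
    g * T.ext k = T.ext k * g := orth_ext fun x => by
  have hp : prj a l z (g.1 x) = prj a l z x := by
    have h1 := dot_map g h2 (bv a) x
    have h2' := dot_map g h2 (bv l) x
    have h3 := dot_map g h2 z x
    rw [ga, bv_dot, bv_dot] at h1
    rw [gl, bv_dot, bv_dot] at h2'
    rw [gz] at h3
    rw [prj, prj, h1, h2', h3]
  rw [coe_mul_apply, coe_mul_apply, T.ext_apply, T.ext_apply, hp, map_add]
  simp only [emb_apply, map_add, map_smul, ga, gl, gz]

/-- Orders three or four of a product of two unit reflections. -/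
theorem rot_order {V : Type*} [AddCommGroup V] [Module F V] {Q : QuadraticForm F V} {u v : V}
    {f : F} (hu : Q u = 1) (hv : Q v = 1) (hf : polar Q u v = 2 * f) (h2 : (2 : F) ≠ 0)
    (h : (rf Q u * rf Q v) ^ 3 = 1 ∨ (rf Q u * rf Q v) ^ 4 = 1) :
    f * f = 0 ∨ f * f = 1 ∨ 4 * (f * f) = 1 ∨ 2 * (f * f) = 1 := by
  set r := rf Q u * rf Q v with hr
  have hu0 : Q u ≠ 0 := by rw [hu]; exact one_ne_zero
  have hv0 : Q v ≠ 0 := by rw [hv]; exact one_ne_zero
  have hru : (rf Q u).1 u = -u := rf_apply_self hu0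
  have hrv : (rf Q v).1 v = -v := rf_apply_self hv0
  have huv : (rf Q u).1 v = v - (2 * f) • u := by rw [rf_apply, hu, hf, inv_one, one_mul]
  have hvu : (rf Q v).1 u = u - (2 * f) • v := by
    rw [rf_apply, hv, polar_comm, hf, inv_one, one_mul]
  have e1 : r.1 v = -v + (2 * f) • u := by
    rw [hr, coe_mul_apply, hrv, map_neg, huv]; abel
  have e2 : r.1 u = (4 * (f * f) - 1) • u - (2 * f) • v := by
    rw [hr, coe_mul_apply, hvu, map_sub, map_smul, hru, huv]; module
  have hinv : r⁻¹ = rf Q v * rf Q u := by rw [hr, _root_.mul_inv_rev, rf_inv, rf_inv]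
  have i1 : (r⁻¹).1 v = (4 * (f * f) - 1) • v - (2 * f) • u := by
    rw [hinv, coe_mul_apply, huv, map_sub, map_smul, hrv, hvu]; module
  have i2 : (r⁻¹).1 u = -u + (2 * f) • v := by
    rw [hinv, coe_mul_apply, hru, map_neg, hvu]; abel
  have lin : ∀ A : F, A ≠ 0 → A • (f • u - v) = 0 → f * f = 1 := fun A hA e => by
    have e' := sub_eq_zero.mp ((smul_eq_zero.mp e).resolve_left hA)
    rw [← e', form_smul, hu, mul_one] at hv
    exact hv
  rcases h with h | h
  · have e3 : r.1 (r.1 v) = (r⁻¹).1 v := by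
      rw [← coe_mul_apply, show r * r = r⁻¹ from eq_inv_of_mul_eq_one_left (by
        rw [← h]; simp [pow_succ, mul_assoc])]
    rw [e1, map_add, map_neg, map_smul, e1, e2, i1] at e3
    have key : (2 * (4 * (f * f) - 1)) • (f • u - v) = 0 := by
      rw [← sub_eq_zero] at e3
      rw [← e3]; module
    by_cases hA : 2 * (4 * (f * f) - 1) = 0
    · exact Or.inr (Or.inr (Or.inl (sub_eq_zero.mp ((mul_eq_zero.mp hA).resolve_left h2))))
    · exact Or.inr (Or.inl (lin _ hA key))
  · have e4 : r.1 (r.1 v) = (r⁻¹).1 ((r⁻¹).1 v) := by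
      rw [← coe_mul_apply, ← coe_mul_apply, show r * r = r⁻¹ * r⁻¹ from by
        rw [← _root_.mul_inv_rev]; exact eq_inv_of_mul_eq_one_left (by rw [← h]; simp [pow_succ, mul_assoc])]
    rw [e1, map_add, map_neg, map_smul, e1, e2, i1, map_sub, map_smul, map_smul, i1, i2] at e4
    have key : (8 * f * (2 * (f * f) - 1)) • (u - f • v) = 0 := by
      rw [← sub_eq_zero] at e4
      rw [← e4]; module
    by_cases hA : 8 * f * (2 * (f * f) - 1) = 0
    · rcases mul_eq_zero.mp hA with hA | hA
      · left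
        have h8 : (8 : F) ≠ 0 := by
          rw [show (8 : F) = 2 * 2 * 2 by norm_num]; exact mul_ne_zero (mul_ne_zero h2 h2) h2
        rw [(mul_eq_zero.mp hA).resolve_left h8, zero_mul]
      · exact Or.inr (Or.inr (Or.inr (sub_eq_zero.mp hA)))
    · right; left
      have e' := sub_eq_zero.mp ((smul_eq_zero.mp key).resolve_left hA)
      rw [e', form_smul, hv, mul_one] at hu
      exact hu

variable {H : Subgroup (orth (sq ι F))} (O : Over H) (P : PrimeOdd F p)
include O P

/-- A root centred at a vector with all three coordinates non-zero. -/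
theorem star_of_root (T : Frame3 a l z N) {o d d' : ι} (hoa : o ≠ a) (hol : o ≠ l) (hda : d ≠ a)
    (hdl : d ≠ l) (hd'a : d' ≠ a) (hd'l : d' ≠ l) (hod : o ≠ d) (hod' : o ≠ d') (hdd : d ≠ d')
    (zo : z o = 0) (zd : z d = 0) (zd' : z d' = 0) {β γ α : F} (hβ : β ≠ 0) (hγ : γ ≠ 0)
    (hα : α ≠ 0) (hi : β * β + γ * γ + N * (α * α) = 0) (hD : 2 * (β * β) + γ * γ ≠ 0)
    (h : InW H (β • bv a + γ • bv l + α • z) (γ • bv a - β • bv l)) : ∃ i c, Star H i c := by
  have h2 := P.two_ne
  have hal := T.ne
  set i : ι → F := β • bv a + γ • bv l + α • z with hi'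
  set s : ι → F := γ • bv a - β • bv l with hs
  set i' : ι → F := -β • bv a + γ • bv o + α • z with hi''
  set s' : ι → F := γ • bv a + β • bv o with hs'
  have hz := T.zz
  have hzx : ∀ x, z ⬝ᵥ bv x = z x := fun x => dot_bv x z
  set g₁ : orth (sq ι F) := rf (sq ι F) (bv a) * rf (sq ι F) (bv d)
  have hg₁ : g₁ ∈ H := O.pair a d
  have hW' : InW H i' s' := by
    have h1 := InW.map h2 (mul_mem (O.cyc_mem hod' hd'l hol) hg₁) h
    have ei : (cyc (F := F) o d' l * g₁).1 i = i' := funext fun j => by
      simp only [coe_mul_apply, g₁, cyc_apply h2 hod' hd'l hol, rf_bv_apply, hi', hi'']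
      by_cases j1 : j = o
      · subst j1; simp [hoa, hol, hol.symm, hal.symm, hdl.symm, T.zl, zo, hod]
      · by_cases j2 : j = d'
        · subst j2; simp [hod'.symm, hd'a, hd'l, hoa, hol, hod, zd', zo]
        · by_cases j3 : j = l
          · subst j3; simp [hol.symm, hd'l.symm, hd'a, hd'l, hdd.symm, T.zl, zd', hal.symm]
          · by_cases j4 : j = a
            · subst j4; simp [j1, j2, j3, hda.symm, T.za]
            · by_cases j5 : j = d
              · subst j5; simp [j1, j2, j3, j4, zd]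
              · simp [j1, j2, j3, j4, j5]
    have es : (cyc (F := F) o d' l * g₁).1 s = (-1 : F) • s' := funext fun j => by
      simp only [coe_mul_apply, g₁, cyc_apply h2 hod' hd'l hol, rf_bv_apply, hs, hs']
      by_cases j1 : j = o
      · subst j1; simp [hoa, hol, hol.symm, hal.symm, hdl.symm, hod]
      · by_cases j2 : j = d'
        · subst j2; simp [hod'.symm, hd'a, hd'l, hoa, hol, hod]
        · by_cases j3 : j = l
          · subst j3; simp [hol.symm, hd'l.symm, hd'a, hd'l, hdd.symm, hal.symm]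
          · by_cases j4 : j = a
            · subst j4; simp [j1, j2, j3, hda.symm]
            · by_cases j5 : j = d
              · subst j5; simp [j1, j2, j3, j4]
              · simp [j1, j2, j3, j4, j5]
    rw [ei, es] at h1
    have h3 := h1.smul P (by
      rw [← ei, map_form, sq_apply, hi']
      simp [add_dotProduct, dotProduct_add, T.za, T.zl, hal, hal.symm, hz]
      linear_combination hi) (-1)
    rwa [smul_smul, neg_one_mul, neg_neg, one_smul] at h3
  have hqi : sq ι F i = 0 := by
    rw [sq_apply, hi']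
    simp [add_dotProduct, dotProduct_add, T.za, T.zl, hal, hal.symm, hz]
    linear_combination hi
  have hqi' : sq ι F i' = 0 := by
    rw [sq_apply, hi'']
    simp [add_dotProduct, dotProduct_add, T.za, zo, hoa, hoa.symm, hz]
    linear_combination hi
  set D := 2 * (β * β) + γ * γ with hD'
  set τ := -(2 * β) / (γ * D) with hτ
  have hWt := hW'.smul P hqi' τ
  set g := eich (sq ι F) i' (τ • s') with hg'
  have hg : g ∈ H := hWt.2
  have hgd : g.1 (bv d) = bv d := by
    rw [hg', eich_apply hqi' (polar_zero_of_dot hWt.1), polar_sq, polar_sq, dot_bv, dot_bv]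
    simp [hi'', hs', hda, hod.symm, zd]
  set e := g.1 (bv o) with he'
  have he : e ∈ Rset H := O.map_mem_R hg (b := d) (a := d) (s := 1) (by rw [hgd, one_smul])
    (O.bv_mem_R o)
  have hQs : sq ι F (τ • s') = τ * τ * (β * β + γ * γ) := by
    have : s' ⬝ᵥ s' = β * β + γ * γ := by
      rw [hs']
      simp [add_dotProduct, dotProduct_add, hoa, hoa.symm]
      ring
    rw [form_smul, sq_apply, this]
  have hE : e = bv o + (2 * γ) • (τ • s') - (2 * (τ * β)) • i'
      - (τ * τ * (β * β + γ * γ) * (2 * γ)) • i' := by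
    rw [he', hg', eich_apply hqi' (polar_zero_of_dot hWt.1), hQs, polar_sq, polar_sq, dot_bv, dot_bv]
    rw [show i' o = γ by simp [hi'', hoa, zo], show (τ • s') o = τ * β by simp [hs', hoa]]
  have d1 : i ⬝ᵥ i' = -D := by
    rw [hi', hi'', hD']
    simp [add_dotProduct, dotProduct_add, T.za, T.zl, zo, hal, hoa, hol, hz]
    linear_combination hi
  have d2 : i ⬝ᵥ s' = β * γ := by
    rw [hi', hs']
    simp [add_dotProduct, dotProduct_add, T.za, zo, hal, hoa, hol]
    ring
  have d3 : i ⬝ᵥ bv o = 0 := by rw [dot_bv, hi']; simp [hoa, hol, zo]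
  have d4 : s ⬝ᵥ i' = -(β * γ) := by
    rw [hs, hi'']
    simp [sub_dotProduct, dotProduct_add, T.za, T.zl, hal.symm, hoa.symm, hol.symm, hzx]
  have d5 : s ⬝ᵥ s' = γ * γ := by
    rw [hs, hs']
    simp [sub_dotProduct, dotProduct_add, hal.symm, hoa.symm, hol.symm]
  have d6 : s ⬝ᵥ bv o = 0 := by rw [dot_bv, hs]; simp [hoa, hol]
  have hie : i ⬝ᵥ e = 0 := by
    rw [hE]
    simp only [dotProduct_sub, dotProduct_add, dotProduct_smul, smul_eq_mul, d1, d2, d3, hτ]
    field_simp
    rw [hD']
    ring
  have hQs0 : β * β + γ * γ ≠ 0 := fun h0 => mul_ne_zero T.N0 (mul_ne_zero hα hα)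
    (by linear_combination hi - h0)
  have hse : s ⬝ᵥ e ≠ 0 := by
    have : s ⬝ᵥ e * (D * D) = -(4 * β * (γ * γ) * (β * β + γ * γ)) := by
      rw [hE]
      simp only [dotProduct_sub, dotProduct_add, dotProduct_smul, smul_eq_mul, d4, d5, d6, hτ]
      field_simp
      rw [hD']
      ring
    intro h0
    rw [h0, zero_mul, eq_comm, neg_eq_zero] at this
    simp [hβ, hγ, hQs0, show (4 : F) = 2 * 2 by norm_num, h2] at this
  set δ := -(2 * (s ⬝ᵥ e)) with hδ
  have hδ0 : δ ≠ 0 := neg_ne_zero.mpr (mul_ne_zero h2 hse)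
  have he2 : e + δ • i ∈ Rset H := by
    have hfix : (eich (sq ι F) i s).1 (bv d) = bv d := by
      rw [eich_apply hqi (polar_zero_of_dot h.1), polar_sq, polar_sq, dot_bv, dot_bv]
      simp [hi', hs, hda, hdl, zd]
    have h1 := O.map_mem_R h.2 (b := d) (a := d) (s := 1) (by rw [hfix, one_smul]) he
    convert h1 using 1
    rw [eich_apply hqi (polar_zero_of_dot h.1), polar_sq, polar_sq, hie, hδ]
    module
  have hqδ : sq ι F (δ • i) = 0 := by rw [form_smul, hqi, mul_zero]
  have hdot : e ⬝ᵥ (δ • i) = 0 := by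
    rw [dotProduct_smul, dotProduct_comm, hie, smul_zero]
  refine exists_star_of_pair O P he hqδ ?_ hdot (O.eich_of_pair he hqδ hdot he2) hdd ?_ ?_ ?_ ?_
  · refine smul_ne_zero hδ0 fun h0 => hβ ?_
    have := congrFun h0 a
    simpa [hi', hal, T.za] using this
  · rw [hE, hi'', hs']; simp [hda, hod.symm, zd]
  · rw [hE, hi'', hs']; simp [hd'a, hod'.symm, zd']
  · rw [hi']; simp [hda, hdl, zd]
  · rw [hi']; simp [hd'a, hd'l, zd']

/-- One coordinate of a unit vector of small support. -/
theorem star_or [Finite F] {u : ι → F} (hu : u ∈ Rset H) {a b l o d d' : ι} (hab : a ≠ b)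
    (ua : u a ≠ 0) (ub : u b ≠ 0) (ul : u l = 0) (uo : u o = 0) (ud : u d = 0) (ud' : u d' = 0)
    (hlo : l ≠ o) (hld : l ≠ d) (hld' : l ≠ d') (hod : o ≠ d) (hod' : o ≠ d') (hdd : d ≠ d') :
    (∃ i c, Star H i c) ∨ 2 * (u a * u a) = 1 ∨ ((5 : F) = 0 ∧ u a * u a = 4) := by
  classical
  have h2 := P.two_ne
  have hla : l ≠ a := fun e => ua (e ▸ ul)
  have hoa : o ≠ a := fun e => ua (e ▸ uo)
  have hda : d ≠ a := fun e => ua (e ▸ ud)
  have hd'a : d' ≠ a := fun e => ua (e ▸ ud')
  have hlb : l ≠ b := fun e => ub (e ▸ ul)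
  have hob : o ≠ b := fun e => ub (e ▸ uo)
  have hdb : d ≠ b := fun e => ub (e ▸ ud)
  by_cases hx1 : u a * u a = 1
  · exact Or.inl (exists_star_of_sq_one O hu hx1 hab.symm ub hlo ul uo)
  have h3 : (3 : F) ≠ 0 := fun h3 => hx1 (by
    haveI := P.char
    have hp3 : p = 3 := by
      have hd : p ∣ 3 := (CharP.cast_eq_zero_iff F p 3).mp (by exact_mod_cast h3)
      exact (Nat.prime_dvd_prime_iff_eq P.prime Nat.prime_three).mp hd
    have h := P.pow_eq (u a)
    rw [hp3] at h
    exact mul_left_cancel₀ ua (by rw [mul_one]; linear_combination h))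
  set z : ι → F := u - u a • bv a with hz
  have hzx : ∀ x, x ≠ a → z x = u x := fun x hx => by simp [hz, hx]
  have T : Frame3 a l z (1 - u a * u a) := by
    refine ⟨hla.symm, by simp [hz], by rw [hzx l hla, ul], ?_, sub_ne_zero.mpr (Ne.symm hx1)⟩
    have h11 : u ⬝ᵥ u = 1 := by rw [← sq_apply, hu.1]
    rw [hz, sub_dotProduct, dotProduct_sub, dotProduct_sub, smul_dotProduct, smul_dotProduct,
      dotProduct_smul, dotProduct_smul, h11, bv_dot, bv_dot, dot_bv]
    simp
  set N := 1 - u a * u a with hN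
  have zo : z o = 0 := by rw [hzx o hoa, uo]
  have zd : z d = 0 := by rw [hzx d hda, ud]
  have zd' : z d' = 0 := by rw [hzx d' hd'a, ud']
  set v : ι → F := (cyc (F := F) l d a).1 u with hv
  have hvR : v ∈ Rset H := O.cyc_mem_R h2 hld hda hla hu
  set ρ₃ : orth (q3 N) := rf (q3 N) (Pi.single 0 1) * rf (q3 N) (Pi.single 0 1 + Pi.single 1 1)
  set u₃ : Fin 3 → F := ![u a, 0, 1] with hu₃
  set v₃ : Fin 3 → F := ![0, u a, 1] with hv₃
  have emb_e0 : emb a l z (Pi.single 0 1) = bv a := by simp [emb_apply]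
  have emb_e1 : emb a l z (Pi.single 0 1 + Pi.single 1 1) = bv a + bv l := by
    rw [map_add, emb_e0]; simp [emb_apply]
  have emb_u : emb a l z u₃ = u := by simp [emb_apply, hu₃, hz]
  have emb_v : emb a l z v₃ = v := by
    funext j
    rw [hv, cyc_apply h2 hld hda hla, emb_apply, hv₃, hz]
    by_cases h1 : j = l
    · subst h1; simp [hla, ul]
    · by_cases h2 : j = d
      · subst h2; simp [hda, ul, hld.symm, ud]
      · by_cases h3 : j = a
        · subst h3; simp [hla.symm, hda.symm, ud]
        · simp [h1, h2, h3]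
  have qe0 : q3 N (Pi.single 0 1) = 1 := by simp [q3_apply]
  have qe1 : q3 N (Pi.single 0 1 + Pi.single 1 1) = 2 := by simp [q3_apply]; norm_num
  have qu : q3 N u₃ = 1 := by simp [q3_apply, hu₃, hN]
  have qv : q3 N v₃ = 1 := by simp [q3_apply, hv₃, hN]
  have hd_rf : ∀ m m' : Fin 3 → F, q3 N m ≠ 0 → q3 N m' ≠ 0 →
      dt (q3 N) (rf (q3 N) m * rf (q3 N) m') = 1 := fun m m' hm hm' => by
    rw [map_mul, dt_rf _ hm, dt_rf _ hm']; simp
  have hρapp : ∀ m : Fin 3 → F, ρ₃.1 m = ![m 1, -m 0, m 2] := fun m => by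
    simp only [ρ₃, coe_mul_apply, rf_apply, polar_q3, qe0, qe1]
    funext k; fin_cases k <;> simp <;> field_simp <;> ring
  have hord : orderOf ρ₃ = 4 := by
    refine orderOf_eq_prime_pow (p := 2) (n := 1) (fun h => ?_) ?_
    · have h' := congrFun (congrArg (fun g : orth (q3 N) => g.1 (Pi.single 0 1)) h) 0
      rw [pow_one, pow_two] at h'
      simp [coe_mul_apply, hρapp] at h'
      exact h2 (by linear_combination -h')
    · refine orth_ext fun m => ?_
      rw [show (2 : ℕ) ^ (1 + 1) = 2 + 2 from rfl, pow_add, pow_two]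
      simp only [coe_mul_apply, hρapp, coe_one_apply]
      funext k; fin_cases k <;> simp
  set L := H.comap T.ext with hL
  have hnorm : ∀ k ∈ L, ρ₃ * k * ρ₃⁻¹ ∈ L := by
    intro k hk
    show T.ext (ρ₃ * k * ρ₃⁻¹) ∈ H
    set ρ' : orth (sq ι F) := rf (sq ι F) (bv o) * rf (sq ι F) (bv o + bv d)
    have fo : ∀ x : ι → F, x o = 0 → x d = 0 → ρ'.1 x = x := fun x h1 h2' => funext fun j => by
      simp only [ρ', coe_mul_apply, rf_bv_apply, rf_add_apply' h2 hod, h1, h2']
      by_cases hj : j = o
      · subst hj; simp [h1]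
      · by_cases hj' : j = d
        · subst hj'; simp [hj, h2']
        · simp [hj, hj']
    have hc := T.ext_commute h2 (fo (bv a) (by simp [hoa]) (by simp [hda]))
      (fo (bv l) (by simp [hlo.symm]) (by simp [hld.symm])) (fo z zo zd) k
    have h4 : T.ext ρ₃ * ρ' ∈ H := by
      have hcomm : rf (sq ι F) (bv a + bv l) * rf (sq ι F) (bv o) =
          rf (sq ι F) (bv o) * rf (sq ι F) (bv a + bv l) := by
        have := conj_rf (rf (sq ι F) (bv o)) (bv a + bv l)
        rw [rf_apply_of_polar (x := bv a + bv l) (by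
          rw [polar_sq, bv_dot]; simp [hoa, hlo.symm]), mul_inv_eq_iff_eq_mul] at this
        exact this.symm
      have := mul_mem (O.pair a o) (O.swaps a l o d hla.symm hod hoa.symm hda.symm hlo hld)
      simp only [ρ₃, ρ', map_mul, T.ext_rf, emb_e0, emb_e1]
      convert this using 1
      rw [← mul_assoc, ← mul_assoc, mul_assoc (rf (sq ι F) (bv a)), hcomm, ← mul_assoc]
    have := mul_mem (mul_mem h4 (show T.ext k ∈ H from hk)) (inv_mem h4)
    rw [map_mul, map_mul, map_inv]
    convert this using 1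
    rw [mul_assoc (T.ext ρ₃) ρ', hc]
    group
  have hxL : rf (q3 N) (Pi.single 0 1) * rf (q3 N) u₃ ∈ L := by
    show T.ext _ ∈ H
    rw [map_mul, T.ext_rf, T.ext_rf, emb_e0, emb_u]
    exact O.rf_mul_rf (O.bv_mem_R a) hu
  have hyL : rf (q3 N) u₃ * rf (q3 N) v₃ ∈ L := by
    show T.ext _ ∈ H
    rw [map_mul, T.ext_rf, T.ext_rf, emb_u, emb_v]
    exact O.rf_mul_rf hu hvR
  have hmv : ∀ c : F, (rf (q3 N) (Pi.single 0 1) * rf (q3 N) u₃).1 (Pi.single 2 1) ≠
      c • Pi.single 2 1 := by
    intro c h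
    rw [coe_mul_apply, rf_apply u₃, qu, rf_apply, qe0] at h
    have := congrFun h 0
    simp [polar_q3, hu₃, Matrix.vecHead] at this
    have : 2 * N * u a = 0 := by linear_combination this
    simp [h2, T.N0, ua] at this
  have q1 : (1 : F) ≠ 0 := one_ne_zero
  rcases rot_dichotomy (hN := T.N0) (P := P) (ρ := ρ₃)
    (hd_rf _ _ (by rw [qe0]; exact q1) (by rw [qe1]; exact h2))
    (by rw [hρapp]; funext k; fin_cases k <;> simp) hord hnorm hxL hyL
    (hd_rf _ _ (by rw [qe0]; exact q1) (by rw [qu]; exact q1))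
    (hd_rf _ _ (by rw [qu]; exact q1) (by rw [qv]; exact q1)) hmv with
    ⟨i₃, w₃, hi₀, hqi, hiw, hind, hE⟩ | ⟨hx, hy⟩
  · -- a root in the three-space
    left
    have hE' : eich (sq ι F) (emb a l z i₃) (emb a l z w₃) ∈ H := by
      rw [← T.ext_eich hqi hiw]; exact hE
    have hqe : sq ι F (emb a l z i₃) = 0 := by rw [T.sq_emb, hqi]
    have hpe : emb a l z i₃ ⬝ᵥ emb a l z w₃ = 0 := by
      rw [T.dot_emb_emb]
      rw [polar_q3, mul_eq_zero] at hiw
      exact hiw.resolve_left h2
    have hW : ∀ k : F, InW H (emb a l z i₃) (emb a l z (w₃ - k • i₃)) := fun k => by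
      have := (show InW H (emb a l z i₃) (emb a l z w₃) from ⟨hpe, hE'⟩).add hqe
        (InW.self hqe (-k))
      rwa [map_sub, map_smul, sub_eq_add_neg, ← neg_smul]
    have scale : ∀ (w : ι → F) (k : F), k ≠ 0 → InW H (emb a l z i₃) (k • w) →
        InW H (emb a l z i₃) w := fun w k hk h => by
      have := h.smul P hqe k⁻¹
      rwa [smul_smul, inv_mul_cancel₀ hk, one_smul] at this
    have hperp : i₃ 0 * w₃ 0 + i₃ 1 * w₃ 1 + N * (i₃ 2 * w₃ 2) = 0 := by
      rw [T.dot_emb_emb] at hpe; exact hpe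
    have hq : i₃ 0 * i₃ 0 + i₃ 1 * i₃ 1 + N * (i₃ 2 * i₃ 2) = 0 := by
      rw [q3_apply] at hqi; exact hqi
    have hei : emb a l z i₃ = i₃ 0 • bv a + i₃ 1 • bv l + i₃ 2 • z := emb_apply _ _ _ _
    obtain ⟨β, hβ⟩ : ∃ t, i₃ 0 = t := ⟨_, rfl⟩
    obtain ⟨γ, hγ⟩ : ∃ t, i₃ 1 = t := ⟨_, rfl⟩
    obtain ⟨α, hα⟩ : ∃ t, i₃ 2 = t := ⟨_, rfl⟩
    rw [hβ, hγ, hα] at hperp hq hei
    by_cases hα0 : α = 0
    · rw [hα0] at hperp hq hei
      have hβ0 : β ≠ 0 := fun h0 => hi₀ (by
        rw [h0] at hq
        simp at hq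
        funext k; fin_cases k <;> simp [hβ, hγ, hα, h0, hα0, hq])
      have hγ0 : γ ≠ 0 := fun h0 => hβ0 (by rw [h0] at hq; simpa using hq)
      set k := w₃ 0 / β
      have e : emb a l z (w₃ - k • i₃) = w₃ 2 • z := by
        have m0 : (w₃ - k • i₃) 0 = 0 := by simp [hβ, k, div_mul_cancel₀ _ hβ0]
        have m1 : (w₃ - k • i₃) 1 = 0 := by
          simp only [Pi.sub_apply, Pi.smul_apply, smul_eq_mul, hγ, k]
          field_simp
          apply mul_left_cancel₀ hγ0
          linear_combination β * hperp - w₃ 0 * hq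
        rw [emb_apply, m0, m1]
        simp [hα, hα0]
      have hw2 : w₃ 2 ≠ 0 := fun h0 => hind k (by
        have m := congrArg (prj a l z) e
        rw [T.prj_emb, h0, zero_smul, show prj a l z 0 = 0 by
          funext j; fin_cases j <;> simp [prj], sub_eq_zero] at m
        exact m)
      have hWz : InW H (emb a l z i₃) z := scale _ _ hw2 (e ▸ hW k)
      have hfi : (rf (sq ι F) (bv b) * rf (sq ι F) (bv o)).1 (emb a l z i₃) = emb a l z i₃ :=
        funext fun j => by
          rw [coe_mul_apply, rf_bv_apply, rf_bv_apply, rf_bv_apply, hei]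
          by_cases h1 : j = b
          · subst h1; simp [hab.symm, hlb.symm, hob.symm]
          · by_cases h2 : j = o
            · subst h2; simp [hoa, hlo.symm, hob]
            · simp [h1, h2]
      have h1 := InW.map h2 (O.pair b o) hWz
      rw [hfi] at h1
      have e2 : (rf (sq ι F) (bv b) * rf (sq ι F) (bv o)).1 z + (-1 : F) • z =
          (-(2 * u b)) • bv b := funext fun j => by
        simp only [Pi.add_apply, Pi.smul_apply, smul_eq_mul, coe_mul_apply, rf_bv_apply]
        by_cases j1 : j = b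
        · subst j1; simp [hob.symm, hzx j hab.symm]; ring
        · by_cases j2 : j = o
          · subst j2; simp [j1, zo]
          · simp [j1, j2]
      have h3 := h1.add hqe (hWz.smul P hqe (-1))
      rw [e2] at h3
      exact ⟨_, b, hqe, fun h0 => hi₀ (by
          have := congrArg (prj a l z) h0
          rwa [T.prj_emb, show prj a l z 0 = 0 by funext j; fin_cases j <;> simp [prj]] at this),
        by rw [hei]; simp [hab.symm, hlb.symm],
        (scale _ _ (neg_ne_zero.mpr (mul_ne_zero h2 ub)) h3).2,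
        o, d, hod, hob, hdb, by rw [hei]; simp [hoa, hlo.symm],
        by rw [hei]; simp [hda, hld.symm]⟩
    have hbg : β ≠ 0 ∨ γ ≠ 0 := by
      by_contra hcon
      simp only [not_or, not_not] at hcon
      rw [hcon.1, hcon.2] at hq
      simp [T.N0, hα0] at hq
    set k := w₃ 2 / α
    have m2 : (w₃ - k • i₃) 2 = 0 := by simp [hα, k, div_mul_cancel₀ _ hα0]
    have hm : β * (w₃ - k • i₃) 0 + γ * (w₃ - k • i₃) 1 = 0 := by
      simp only [Pi.sub_apply, Pi.smul_apply, smul_eq_mul, hβ, hγ, k]
      field_simp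
      linear_combination α * hperp - w₃ 2 * hq
    have hs0 : InW H (emb a l z i₃) (γ • bv a - β • bv l) := by
      set m := w₃ - k • i₃ with hmdef
      have hmne : m ≠ 0 := sub_ne_zero.mpr (hind k)
      obtain ⟨c, c0, c1⟩ : ∃ c, m 0 = c * γ ∧ m 1 = c * (-β) := by
        by_cases hγ0 : γ = 0
        · have hβ0 := hbg.resolve_right (fun h => h hγ0)
          rw [hγ0, zero_mul, add_zero] at hm
          refine ⟨-(m 1) / β, ?_, ?_⟩
          · rw [hγ0, mul_zero]; exact (mul_eq_zero.mp hm).resolve_left hβ0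
          · field_simp
        · refine ⟨m 0 / γ, ?_, ?_⟩ <;> field_simp
          linear_combination hm
      have e : emb a l z m = c • (γ • bv a - β • bv l) := by
        rw [emb_apply, m2, c0, c1]; module
      have hc : c ≠ 0 := fun h0 => hmne (by
        funext j; fin_cases j <;> simp [c0, c1, m2, h0])
      exact scale _ c hc (e ▸ hW k)
    have hne : emb a l z i₃ ≠ 0 := fun h0 => hi₀ (by
      have := congrArg (prj a l z) h0
      rwa [T.prj_emb, show prj a l z 0 = 0 by funext j; fin_cases j <;> simp [prj]] at this)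
    by_cases hβ0 : β = 0
    · rw [hβ0, zero_smul, sub_zero] at hs0
      exact ⟨_, a, hqe, hne, by rw [hei]; simp [hβ0, hla.symm, T.za],
        (scale _ γ (hbg.resolve_left (fun h => h hβ0)) hs0).2, o, d, hod, hoa, hda,
        by rw [hei]; simp [hoa, hlo.symm, zo], by rw [hei]; simp [hda, hld.symm, zd]⟩
    by_cases hγ0 : γ = 0
    · rw [hγ0, zero_smul, zero_sub, ← neg_smul] at hs0
      exact ⟨_, l, hqe, hne, by rw [hei]; simp [hγ0, hla, T.zl],
        (scale _ (-β) (neg_ne_zero.mpr hβ0) hs0).2, o, d, hod, hlo.symm, hld.symm,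
        by rw [hei]; simp [hoa, hlo.symm, zo], by rw [hei]; simp [hda, hld.symm, zd]⟩
    by_cases hD : 2 * (β * β) + γ * γ = 0
    · have hD' : 2 * (γ * γ) + -β * -β ≠ 0 := fun h' =>
        mul_ne_zero h3 (mul_ne_zero hβ0 hβ0) (by linear_combination 2 * hD - h')
      -- rotate
      set g := rf (sq ι F) (bv a) * rf (sq ι F) (bv o) *
        (rf (sq ι F) (bv a + bv l) * rf (sq ι F) (bv o + bv d)) with hg
      have hgH : g ∈ H :=
        mul_mem (O.pair a o) (O.swaps a l o d hla.symm hod hoa.symm hda.symm hlo hld)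
      have hga : ∀ x : ι → F, x o = 0 → x d = 0 → ∀ j, g.1 x j =
          if j = a then x l else if j = l then -x a else x j := by
        intro x h1 h2' j
        simp only [hg, coe_mul_apply, rf_bv_apply, rf_add_apply' h2 hla.symm, rf_add_apply' h2 hod]
        by_cases j1 : j = a
        · subst j1; simp [hla, hla.symm, hoa.symm, hlo, hda.symm, hld, hoa]
        · by_cases j2 : j = l
          · subst j2; simp [j1, hlo, hla.symm, hoa.symm, hda.symm]
          · by_cases j3 : j = o
            · subst j3; simp [j1, j2, h1, h2']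
            · by_cases j4 : j = d
              · subst j4; simp [j1, j2, j3, h1, h2']
              · simp [j1, j2, j3, j4]
      have h1 := InW.map h2 hgH hs0
      have ei : g.1 (emb a l z i₃) = γ • bv a + (-β) • bv l + α • z := funext fun j => by
        rw [hga _ (by rw [hei]; simp [hoa, hlo.symm, zo]) (by rw [hei]; simp [hda, hld.symm, zd]),
          hei]
        by_cases j1 : j = a
        · subst j1; simp [hla, hla.symm, T.za, T.zl]
        · by_cases j2 : j = l
          · subst j2; simp [j1, hla.symm, T.za, T.zl]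
          · simp [j1, j2]
      have es : g.1 (γ • bv a - β • bv l) = (-β) • bv a - γ • bv l := funext fun j => by
        rw [hga _ (by simp [hoa, hlo.symm]) (by simp [hda, hld.symm])]
        by_cases j1 : j = a
        · subst j1; simp [hla, hla.symm]
        · by_cases j2 : j = l
          · subst j2; simp [j1, hla.symm]
          · simp [j1, j2]
      rw [ei, es] at h1
      exact star_of_root O P T hoa hlo.symm hda hld.symm hd'a hld'.symm hod hod' hdd zo zd zd'
        hγ0 (neg_ne_zero.mpr hβ0) hα0 (by linear_combination hq) hD' h1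
    · exact star_of_root O P T hoa hlo.symm hda hld.symm hd'a hld'.symm hod hod' hdd zo zd zd'
        hβ0 hγ0 hα0 hq hD (hei ▸ hs0)
  · have fx := rot_order (f := u a) qe0 qu (by rw [polar_q3]; simp [hu₃]) h2 hx
    have fy := rot_order (f := N) qu qv (by rw [polar_q3]; simp [hu₃, hv₃]) h2 hy
    rcases fx with h | h | h | h
    · exact absurd (mul_self_eq_zero.mp h) ua
    · exact absurd h hx1
    · -- a quarter
      have hN4 : 4 * N = 3 := by rw [hN]; linear_combination -h
      rcases fy with h' | h' | h' | h'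
      · exact absurd (mul_self_eq_zero.mp h') T.N0
      · left
        have hNv : N • v ∈ Rset H := by
          rcases mul_self_eq_one_iff.mp h' with e | e <;> rw [e]
          · rw [one_smul]; exact hvR
          · rw [neg_one_smul]; exact O.neg_mem_R hvR
        have huv : u ⬝ᵥ v = N := by
          rw [← emb_u, ← emb_v, T.dot_emb_emb]; simp [hu₃, hv₃]
        have hdot : u ⬝ᵥ (N • v - u) = 0 := by
          rw [dotProduct_sub, dotProduct_smul, huv, ← sq_apply, hu.1, smul_eq_mul, h', sub_self]
        have hqd : sq ι F (N • v - u) = 0 := by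
          rw [sq_apply, sub_dotProduct, dotProduct_sub, hdot, dotProduct_smul, smul_dotProduct,
            smul_dotProduct, ← sq_apply, hvR.1, dotProduct_comm v u, huv]
          simp [h']
        have hvo : v o = 0 := by
          rw [hv, cyc_apply h2 hld hda hla]; simp [hlo.symm, hod, hoa, uo]
        have hvd' : v d' = 0 := by
          rw [hv, cyc_apply h2 hld hda hla]; simp [hld'.symm, hdd.symm, hd'a, ud']
        refine exists_star_of_pair O P hu hqd (fun h0 => ?_) hdot
          (O.eich_of_pair hu hqd hdot (by rwa [add_sub_cancel])) hod' uo ud'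
          (by simp [hvo, uo]) (by simp [hvd', ud'])
        have := congrFun h0 l
        rw [hv] at this
        simp [cyc_apply h2 hld hda hla, ul, T.N0, ua] at this
      · refine Or.inr (Or.inr ?_)
        have h5 : (5 : F) = 0 := by linear_combination 4 * h' - (4 * N + 3) * hN4
        exact ⟨h5, by linear_combination -h + (u a * u a - 1 + 0) * h5⟩
      · exact absurd (show (2 : F) = 0 by linear_combination 16 * h' - 2 * (4 * N + 3) * hN4) h2
    · exact Or.inr (Or.inl h)

/-- From a unit vector of small support which is not a long root vector. -/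
theorem exists_star_of_vector [Finite F] {u : ι → F} (hu : u ∈ Rset H) {a b l o d d' : ι}
    (hab : a ≠ b) (ua : u a ≠ 0) (ub : u b ≠ 0) (ul : u l = 0) (uo : u o = 0) (ud : u d = 0)
    (ud' : u d' = 0) (hlo : l ≠ o) (hld : l ≠ d) (hld' : l ≠ d') (hod : o ≠ d) (hod' : o ≠ d')
    (hdd : d ≠ d') (h : 2 * (u a * u a) ≠ 1 ∨ ∃ c, c ≠ a ∧ c ≠ b ∧ u c ≠ 0) :
    ∃ i c, Star H i c := by
  have h2 := P.two_ne
  have hla : l ≠ a := fun e => ua (e ▸ ul)
  have hda : d ≠ a := fun e => ua (e ▸ ud)
  have noMix : ∀ c : ι, (5 : F) = 0 → 2 * (u c * u c) = 1 → False := fun c h5 hc => by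
    haveI := P.char
    have hp5 : p = 5 := by
      have hd : p ∣ 5 := (CharP.cast_eq_zero_iff F p 5).mp (by exact_mod_cast h5)
      exact (Nat.prime_dvd_prime_iff_eq P.prime (by norm_num)).mp hd
    have e := P.pow_eq (u c)
    rw [hp5] at e
    have hc0 : u c ≠ 0 := fun h0 => by simp [h0] at hc
    have e' : (u c * u c) * (u c * u c) = 1 := mul_left_cancel₀ hc0 (by linear_combination e)
    have : (2 : F) = 0 := by
      linear_combination (4 : F) * e' - (2 * (u c * u c) + 1) * hc + h5
    exact h2 this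
  rcases star_or O P hu hab ua ub ul uo ud ud' hlo hld hld' hod hod' hdd with s | ha | ⟨h5, ha⟩
  · exact s
  · obtain ⟨c, hca, hcb, uc⟩ := h.resolve_left (fun h' => h' ha)
    rcases star_or O P hu hab.symm ub ua ul uo ud ud' hlo hld hld' hod hod' hdd with s | hb | ⟨h5, -⟩
    · exact s
    · set v := (rf (sq ι F) (bv a)).1 ((rf (sq ι F) (bv b)).1 u) with hv
      have hvR : v ∈ Rset H := O.flip_mem_R (O.flip_mem_R hu b) a
      have hvj : ∀ j, v j = if j = a then -u a else if j = b then -u b else u j := fun j => by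
        rw [hv, rf_bv_apply, rf_bv_apply, rf_bv_apply, if_neg hab]
      have e : v = u - (2 * u a) • bv a - (2 * u b) • bv b := funext fun j => by
        rw [hvj]
        by_cases h1 : j = a
        · subst h1; simp [hab]; ring
        · by_cases h2 : j = b
          · subst h2; simp [h1]; ring
          · simp [h1, h2]
      have hdot : u ⬝ᵥ (-v - u) = 0 := by
        rw [e]
        simp only [dotProduct_sub, dotProduct_neg, dotProduct_smul, dot_bv, smul_eq_mul, ← sq_apply,
          hu.1]
        linear_combination ha + hb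
      have hqd : sq ι F (-v - u) = 0 := by
        have h1 : sq ι F (u + (-v - u)) = 1 := by
          rw [add_sub_cancel, QuadraticMap.map_neg, hvR.1]
        rw [form_add, hu.1, polar_sq, hdot] at h1
        linear_combination h1
      refine exists_star_of_pair O P hu hqd (fun h0 => ?_) hdot
        (O.eich_of_pair hu hqd hdot (by rw [add_sub_cancel]; exact O.neg_mem_R hvR)) hlo ul uo
        ?_ ?_
      · have := congrFun h0 c
        simp [hvj, hca, hcb] at this
        exact uc ((mul_eq_zero.mp (show (2 : F) * u c = 0 by linear_combination -this)).resolve_left h2)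
      · have hlb : l ≠ b := fun e => ub (e ▸ ul)
        simp [hvj, hla, hlb, ul]
      · have hoa : o ≠ a := fun e => ua (e ▸ uo)
        have hob : o ≠ b := fun e => ub (e ▸ uo)
        simp [hvj, hoa, hob, uo]
    · exact (noMix a h5 ha).elim
  · rcases star_or O P hu hab.symm ub ua ul uo ud ud' hlo hld hld' hod hod' hdd with s | hb | ⟨-, hb⟩
    · exact s
    · exact (noMix b h5 hb).elim
    set v := (cyc (F := F) l d a).1 u with hv
    have hvR : v ∈ Rset H := O.cyc_mem_R h2 hld hda hla hu
    have hvj : ∀ j, j ≠ l → j ≠ a → v j = u j := fun j h1 h2' => by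
      rw [hv, cyc_apply h2 hld hda hla, if_neg h1, if_neg h2']
      by_cases h3 : j = d
      · subst h3; simp [ul, ud]
      · simp [h3]
    have hva : v a = 0 := by
      rw [hv, cyc_apply h2 hld hda hla]; simp [hla.symm, hda.symm, ud]
    have hvl : v l = u a := by rw [hv, cyc_apply h2 hld hda hla]; simp
    have e : v = u - u a • bv a + u a • bv l := funext fun j => by
      by_cases h1 : j = a
      · subst h1; simp [hva, hla.symm]
      · by_cases h2 : j = l
        · subst h2; simp [hvl, h1, ul]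
        · simp [hvj j h2 h1, h1, h2]
    have huv : u ⬝ᵥ v = 2 := by
      rw [e]
      simp only [dotProduct_sub, dotProduct_add, dotProduct_smul, dot_bv, smul_eq_mul, ← sq_apply,
        hu.1, ul]
      linear_combination -ha - h5
    have hw := O.refl_mem_R hu hvR
    rw [rf_unit_apply hu.1, huv] at hw
    refine exists_star_of_sq_one O hw (c := b) (x := o) (y := d') (z := l) ?_
      (fun e' => ub (e' ▸ ul)) ?_ hod' ?_ ?_
    · simp [hvj b (fun e' => ub (e' ▸ ul)) hab.symm]
      linear_combination 9 * hb + 7 * h5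
    · simp [hvl, ul, ua]
    · simp [hvj o hlo.symm (fun e' => ua (e' ▸ uo)), uo]
    · simp [hvj d' hld'.symm (fun e' => ua (e' ▸ ud')), ud']

end Cfsg.Agent.ODec24
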