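import Cfsg.Agent.ODec24.Basic

/-!
From one Eichler transformation centred at a singular vector with a coordinate vector as second
parameter to all of `Ω` (helper24).
-/

set_option autoImplicit false
set_option linter.unusedSectionVars false

namespace Cfsg.Agent.ODec24

open QuadraticMap Cfsg.Agent.UnitaryOrthogonal
open scoped Matrix

variable {ι : Type} [Fintype ι] [DecidableEq ι] {F : Type*} [Field F] {p : ℕ}
variable {H : Subgroup (orth (sq ι F))}

variable (H) in
/-- The second parameters available at `i`. -/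
def InW (i w : ι → F) : Prop := i ⬝ᵥ w = 0 ∧ eich (sq ι F) i w ∈ H

theorem polar_zero_of_dot {i w : ι → F} (h : i ⬝ᵥ w = 0) : polar (sq ι F) i w = 0 := by
  rw [polar_sq, h, mul_zero]

theorem InW.add {i w w' : ι → F} (hi : sq ι F i = 0) (h : InW H i w) (h' : InW H i w') :
    InW H i (w + w') :=
  ⟨by rw [dotProduct_add, h.1, h'.1, add_zero], by
    rw [← eich_mul hi (polar_zero_of_dot h.1) (polar_zero_of_dot h'.1)]; exact mul_mem h.2 h'.2⟩

theorem InW.smul (P : PrimeOdd F p) {i w : ι → F} (hi : sq ι F i = 0) (h : InW H i w) (t : F) :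
    InW H i (t • w) :=
  ⟨by rw [dotProduct_smul, h.1, smul_zero], eich_smul_mem P hi (polar_zero_of_dot h.1) h.2 t⟩

theorem InW.zero (i : ι → F) : InW H i 0 :=
  ⟨dotProduct_zero _, by rw [eich_zero]; exact one_mem _⟩

theorem InW.self {i : ι → F} (hi : sq ι F i = 0) (t : F) : InW H i (t • i) := by
  refine ⟨by rw [dotProduct_smul, ← sq_apply, hi, smul_zero], ?_⟩
  have := eich_add_smul (Q := sq ι F) (u := i) (z := 0) hi (by simp) t
  rw [zero_add, eich_zero] at this
  rw [this]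
  exact one_mem _

theorem InW.sum {i : ι → F} (hi : sq ι F i = 0) {κ : Type*} (s : Finset κ) (v : κ → ι → F)
    (h : ∀ k ∈ s, InW H i (v k)) : InW H i (∑ k ∈ s, v k) := by
  classical
  induction s using Finset.induction_on with
  | empty => simpa using InW.zero i
  | insert a s ha ih =>
    rw [Finset.sum_insert ha]
    exact (h a (Finset.mem_insert_self _ _)).add hi (ih fun k hk => h k (Finset.mem_insert_of_mem hk))

theorem InW.map (h2 : (2 : F) ≠ 0) {g : orth (sq ι F)} (hg : g ∈ H) {i w : ι → F}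
    (h : InW H i w) : InW H (g.1 i) (g.1 w) :=
  ⟨by rw [dot_map g h2, h.1], by rw [← conj_eich]; exact mul_mem (mul_mem hg h.2) (inv_mem hg)⟩

variable (H) in
/-- All Eichler transformations at `i` lie in `H`. -/
def Full (i : ι → F) : Prop :=
  sq ι F i = 0 ∧ ∀ w, i ⬝ᵥ w = 0 → eich (sq ι F) i w ∈ H

theorem Full.map (h2 : (2 : F) ≠ 0) {g : orth (sq ι F)} (hg : g ∈ H) {i : ι → F} (h : Full H i) :
    Full H (g.1 i) := by
  refine ⟨by rw [map_form, h.1], fun w hw => ?_⟩
  obtain ⟨w', rfl⟩ := g.1.surjective w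
  rw [dot_map g h2] at hw
  exact (InW.map h2 hg ⟨hw, h.2 w' hw⟩).2

theorem Full.smul (P : PrimeOdd F p) {i : ι → F} (h : Full H i) {s : F} (hs : s ≠ 0) :
    Full H (s • i) := by
  refine ⟨by rw [form_smul, h.1, mul_zero], fun w hw => ?_⟩
  rw [smul_dotProduct, smul_eq_mul, mul_eq_zero] at hw
  have hw' := hw.resolve_left hs
  rw [eich_smul_left h.1 (polar_zero_of_dot hw')]
  exact eich_smul_mem P h.1 (polar_zero_of_dot hw') (h.2 w hw') s

/-- The Eichler transformation at `u` joining two vectors. -/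
theorem exists_eich_explicit {u a b : ι → F} (hu : sq ι F u = 0)
    (h : polar (sq ι F) u a = polar (sq ι F) u b) (h0 : polar (sq ι F) u a ≠ 0)
    (hab : sq ι F a = sq ι F b) :
    ∃ z, polar (sq ι F) u z = 0 ∧ (eich (sq ι F) u z).1 a = b := by
  set Q := sq ι F
  obtain ⟨l, hl⟩ : ∃ l, polar Q u a = l := ⟨_, rfl⟩
  rw [hl] at h h0
  have hz : polar Q u (l⁻¹ • (b - a)) = 0 := by simp [polar_sub_right, hl, ← h]
  have e1 : polar Q (l⁻¹ • (b - a)) a = l⁻¹ * (polar Q b a - 2 * Q a) := by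
    rw [polar_smul_left, polar_sub_left, polar_self_eq, smul_eq_mul]
  have e2 : Q (l⁻¹ • (b - a)) = l⁻¹ * l⁻¹ * (2 * Q a - polar Q b a) := by
    rw [form_smul, sub_eq_add_neg b a, form_add, QuadraticMap.map_neg, polar_neg_right, ← hab]
    ring
  refine ⟨l⁻¹ • (b - a), hz, ?_⟩
  rw [eich_apply hu hz, hl, e1, e2]
  match_scalars <;> field_simp <;> ring

/-- A non-orthogonal pair of full centres reaches every centre not orthogonal to the first. -/
theorem full_of_pair (P : PrimeOdd F p) {i j k : ι → F} (hi : Full H i) (hj : Full H j)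
    (hij : i ⬝ᵥ j ≠ 0) (hk : sq ι F k = 0) (hik : i ⬝ᵥ k ≠ 0) : Full H k := by
  set s := (i ⬝ᵥ j) / (i ⬝ᵥ k) with hs
  have hs0 : s ≠ 0 := div_ne_zero hij hik
  have he : i ⬝ᵥ (s • k) = i ⬝ᵥ j := by
    rw [dotProduct_smul, smul_eq_mul, hs, div_mul_cancel₀ _ hik]
  obtain ⟨z, hz, hzk⟩ := exists_eich_explicit (a := j) (b := s • k) hi.1
    (by rw [polar_sq, polar_sq, he]) (by rw [polar_sq]; exact mul_ne_zero P.two_ne hij)
    (by rw [hj.1, form_smul, hk, mul_zero])
  rw [polar_sq, mul_eq_zero] at hz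
  have h1 := hj.map P.two_ne (hi.2 z (hz.resolve_left P.two_ne))
  rw [hzk] at h1
  have := h1.smul P (inv_ne_zero hs0)
  rwa [smul_smul, inv_mul_cancel₀ hs0, one_smul] at this

variable (H) in
/-- An Eichler transformation `(i, e c)` with room around it. -/
structure Star (i : ι → F) (c : ι) : Prop where
  q : sq ι F i = 0
  ne : i ≠ 0
  ic : i c = 0
  mem : eich (sq ι F) i (bv c) ∈ H
  zeros : ∃ x y, x ≠ y ∧ x ≠ c ∧ y ≠ c ∧ i x = 0 ∧ i y = 0

variable (O : Over H)
include O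

theorem Star.bv_mem (h2 : (2 : F) ≠ 0) {i : ι → F} {c : ι} (S : Star H i c) {d : ι}
    (hd : i d = 0) : InW H i (bv d) := by
  by_cases hdc : d = c
  · subst hdc; exact ⟨by rw [dot_bv, hd], S.mem⟩
  obtain ⟨x, y, hxy, hxc, hyc, hx, hy⟩ := S.zeros
  obtain ⟨o, hod, hoc, ho⟩ : ∃ o, o ≠ d ∧ o ≠ c ∧ i o = 0 := by
    by_cases h : x = d
    · exact ⟨y, fun e => hxy (h.trans e.symm), hyc, hy⟩
    · exact ⟨x, h, hxc, hx⟩
  have := InW.map h2 (O.cyc_mem (Ne.symm hod) hoc hdc) (w := bv c)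
    ⟨by rw [dot_bv, S.ic], S.mem⟩
  rwa [cyc_fix h2 (Ne.symm hod) hoc hdc hd ho S.ic, cyc_bv h2 (Ne.symm hod) hoc hdc] at this

/-- A unit vector of `R` with a coordinate one. -/
theorem star_of_unit {w : ι → F} (hw : w ∈ Rset H) {c x y : ι} (hc : w c = 1) (hne : w ≠ bv c)
    (hxy : x ≠ y) (hx : w x = 0) (hy : w y = 0) : Star H (w - bv c) c := by
  have hxc : x ≠ c := fun h => by rw [h, hc] at hx; exact one_ne_zero hx
  have hyc : y ≠ c := fun h => by rw [h, hc] at hy; exact one_ne_zero hy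
  have h1 : w ⬝ᵥ w = 1 := by rw [← sq_apply, hw.1]
  have hq : sq ι F (w - bv c) = 0 := by
    rw [sq_apply, sub_dotProduct, dotProduct_sub, dotProduct_sub, h1, dot_bv, bv_dot, bv_dot, hc]
    simp
  have hd : bv c ⬝ᵥ (w - bv c) = (0 : F) := by rw [bv_dot]; simp [hc]
  refine ⟨hq, sub_ne_zero.mpr hne, by simp [hc], O.eich_of_pair (O.bv_mem_R c) hq hd ?_,
    x, y, hxy, hxc, hyc, by simp [hx, hxc], by simp [hy, hyc]⟩
  rwa [add_sub_cancel]

/-- A unit vector of `R` with a coordinate `±1`. -/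
theorem exists_star_of_sq_one {w : ι → F} (hw : w ∈ Rset H) {c x y z : ι} (hc : w c * w c = 1)
    (hz : z ≠ c) (hzw : w z ≠ 0) (hxy : x ≠ y) (hx : w x = 0) (hy : w y = 0) :
    ∃ i d, Star H i d := by
  have ne : ∀ v : ι → F, v z ≠ 0 → v ≠ bv c := fun v hv e => hv (by rw [e]; simp [hz])
  rcases mul_self_eq_one_iff.mp hc with h | h
  · exact ⟨_, _, star_of_unit O hw h (ne w hzw) hxy hx hy⟩
  · have hxc : x ≠ c := fun e => by rw [e, h] at hx; exact one_ne_zero (neg_eq_zero.mp hx)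
    have hyc : y ≠ c := fun e => by rw [e, h] at hy; exact one_ne_zero (neg_eq_zero.mp hy)
    refine ⟨_, _, star_of_unit O (O.flip_mem_R hw c) (c := c) ?_ (ne _ ?_) hxy ?_ ?_⟩
    · rw [rf_bv_apply, if_pos rfl, h, neg_neg]
    · rwa [rf_bv_apply, if_neg hz]
    · rwa [rf_bv_apply, if_neg hxc]
    · rwa [rf_bv_apply, if_neg hyc]

/-- A degenerate pair of unit vectors of `R`. -/
theorem exists_star_of_pair (P : PrimeOdd F p) {u i : ι → F} (hu : u ∈ Rset H)
    (hi : sq ι F i = 0) (hi0 : i ≠ 0) (hui : u ⬝ᵥ i = 0) (hE : eich (sq ι F) i u ∈ H) {x y : ι}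
    (hxy : x ≠ y) (hx : u x = 0) (hy : u y = 0) (hx' : i x = 0) (hy' : i y = 0) :
    ∃ j d, Star H j d := by
  obtain ⟨c, hc⟩ := Function.ne_iff.mp hi0
  have hw := O.add_smul_mem_R P hu hi hui hE ((1 - u c) / i c)
  set t := (1 - u c) / i c
  have hwc : (u + t • i) c = 1 := by
    simp only [Pi.add_apply, Pi.smul_apply, smul_eq_mul, t]
    rw [div_mul_cancel₀ _ hc]
    ring
  refine ⟨_, _, star_of_unit O hw hwc (fun e => hc ?_) hxy (by simp [hx, hx']) (by simp [hy, hy'])⟩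
  have h1 : (u + t • i) ⬝ᵥ i = 0 := by
    rw [add_dotProduct, smul_dotProduct, hui, ← sq_apply, hi, smul_zero, add_zero]
  rw [e, bv_dot] at h1
  exact h1

/-- A full centre with a coordinate `-1`. -/
theorem Star.exists_full [Finite F] (P : PrimeOdd F p) {i : ι → F} {c : ι} (S : Star H i c) :
    ∃ i₀ a o, i₀ a = -1 ∧ i₀ o = 0 ∧ Full H i₀ := by
  classical
  cases nonempty_fintype F
  have h2 := P.two_ne
  obtain ⟨a, ha⟩ := Function.ne_iff.mp S.ne
  have ha' : i a ≠ 0 := ha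
  obtain ⟨d, d', hdd, hdc, hd'c, hd, hd'⟩ := S.zeros
  have hac : a ≠ c := fun e => ha' (e ▸ S.ic)
  have had : a ≠ d := fun e => ha' (e ▸ hd)
  have had' : a ≠ d' := fun e => ha' (e ▸ hd')
  set t := (i a)⁻¹ with ht
  have hu := O.add_smul_mem_R P (O.bv_mem_R c) S.q (by rw [bv_dot, S.ic]) S.mem t
  set u : ι → F := bv c + t • i with hu'
  have hua : u a = 1 := by simp [hu', hac, ht, inv_mul_cancel₀ ha']
  have huc : u c = 1 := by simp [hu', S.ic]
  have S' : Star H (u - bv a) a :=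
    star_of_unit O hu hua (fun e => by rw [e] at huc; simp [hac.symm] at huc) hdd
      (by simp [hu', hdc, hd]) (by simp [hu', hd'c, hd'])
  obtain ⟨y, z, hyz⟩ : ∃ y z : F, y * y + z * z = -((t / 2) * (t / 2)) := by
    obtain ⟨y, z, h⟩ := FiniteField.exists_root_sum_quadratic
      (f := (Polynomial.X ^ 2 : Polynomial F))
      (g := Polynomial.X ^ 2 + Polynomial.C (t / 2 * (t / 2))) (by simp) (by
        rw [Polynomial.degree_X_pow_add_C (by norm_num)]; rfl) (FiniteField.odd_card_of_char_ne_two fun h => by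
            haveI : CharP F 2 := ringChar.of_eq h
            exact h2 CharTwo.two_eq_zero)
    simp at h
    exact ⟨y, z, by linear_combination h⟩
  set w : ι → F := (t / 2) • bv c + y • bv d + z • bv d' with hw'
  have hwW : InW H i w :=
    (((S.bv_mem O h2 S.ic).smul P S.q _).add S.q ((S.bv_mem O h2 hd).smul P S.q y)).add S.q
      ((S.bv_mem O h2 hd').smul P S.q z)
  have hqw : sq ι F w = 0 := by
    rw [sq_apply, hw']
    simp only [add_dotProduct, dotProduct_add, smul_dotProduct, dotProduct_smul, smul_eq_mul,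
      bv_dot]
    simp [hdc, hd'c, hdd, hdc.symm, hd'c.symm, hdd.symm]
    linear_combination hyz
  set g := eich (sq ι F) i w with hg'
  have hg : g ∈ H := hwW.2
  have happ : ∀ x, g.1 x = x + (2 * (i ⬝ᵥ x)) • w - (2 * (w ⬝ᵥ x)) • i := fun x => by
    rw [hg', eich_apply S.q (polar_zero_of_dot hwW.1), hqw, polar_sq, polar_sq, zero_mul,
      zero_smul, sub_zero]
  have hwx : ∀ o, o ≠ c → o ≠ d → o ≠ d' → w o = 0 := fun o h1 h2' h3 => by
    simp [hw', h1, h2', h3]
  have hwc : w c = t / 2 := by simp [hw', hdc.symm, hd'c.symm]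
  have hwd : w d = y := by simp [hw', hdc, hdd]
  have hwd' : w d' = z := by simp [hw', hd'c, hdd.symm]
  set i₀ : ι → F := -bv a - (2 * i a) • (y • bv d + z • bv d') with hi₀'
  have hgu : g.1 (u - bv a) = i₀ := by
    have e1 : i ⬝ᵥ (u - bv a) = -i a := by
      rw [hu', dotProduct_sub, dotProduct_add, dotProduct_smul, dot_bv, dot_bv, S.ic,
        ← sq_apply, S.q]
      simp
    have e2 : w ⬝ᵥ (u - bv a) = t / 2 := by
      rw [hu', dotProduct_sub, dotProduct_add, dotProduct_smul, dot_bv, dot_bv, hwc,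
        dotProduct_comm w i, hwW.1, hwx a hac had had']
      simp
    rw [happ, e1, e2, hi₀', hu', hw']
    match_scalars <;> simp [ht] <;> field_simp <;> ring
  have hfix : ∀ o, o ≠ c → o ≠ d → o ≠ d' → i o = 0 → g.1 (bv o) = bv o := fun o h1 h2' h3 ho => by
    rw [happ, dot_bv, dot_bv, ho, hwx o h1 h2' h3]; simp
  have hga : g.1 (bv a) = bv c + (-1 : F) • i₀ := by
    rw [happ, dot_bv, dot_bv, hwx a hac had had', hi₀', hw']
    match_scalars <;> simp [ht] <;> field_simp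
  have hgd : g.1 (bv d) = bv d - (2 * y) • i := by
    rw [happ, dot_bv, dot_bv, hd, hwd]; simp
  have hgd' : g.1 (bv d') = bv d' - (2 * z) • i := by
    rw [happ, dot_bv, dot_bv, hd', hwd']; simp
  have hWg : ∀ o, (u - bv a : ι → F) o = 0 → InW H i₀ (g.1 (bv o)) := fun o ho =>
    hgu ▸ InW.map h2 hg (S'.bv_mem O h2 ho)
  have hq₀ : sq ι F i₀ = 0 := by rw [← hgu, map_form, S'.q]
  have hWc : InW H i₀ (bv c) := by
    have := (hWg a (by simp [hua])).add hq₀ (InW.self hq₀ 1)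
    rwa [hga, one_smul, neg_one_smul, neg_add_cancel_right] at this
  have hWd : InW H i₀ (bv d - (2 * y) • i) := hgd ▸ hWg d (by simp [hu', hdc, hd, had.symm])
  have hWd' : InW H i₀ (bv d' - (2 * z) • i) :=
    hgd' ▸ hWg d' (by simp [hu', hd'c, hd', had'.symm])
  have hi₀o : ∀ o, o ≠ a → o ≠ d → o ≠ d' → i₀ o = 0 := fun o h1 h2' h3 => by
    simp [hi₀', h1, h2', h3]
  have hi₀a : i₀ a = -1 := by simp [hi₀', had, had']
  obtain ⟨o₁, ho₁⟩ := exists_notMem (n := 4) (by have := O.card; omega) {a, d, d', c}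
    ((Finset.card_insert_le _ _).trans (Nat.succ_le_succ Finset.card_le_three))
  obtain ⟨o₂, ho₂⟩ := exists_notMem (n := 5) (by have := O.card; omega) {o₁, a, d, d', c}
    ((Finset.card_insert_le _ _).trans (Nat.succ_le_succ
      ((Finset.card_insert_le _ _).trans (Nat.succ_le_succ Finset.card_le_three))))
  simp only [Finset.mem_insert, Finset.mem_singleton, not_or] at ho₁ ho₂
  have S₀ : Star H i₀ c := ⟨hq₀, fun e => by rw [e] at hi₀a; simp at hi₀a,
    hi₀o c hac.symm hdc.symm hd'c.symm, hWc.2, o₁, o₂, Ne.symm ho₂.1, ho₁.2.2.2, ho₂.2.2.2.2,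
    hi₀o _ ho₁.1 ho₁.2.1 ho₁.2.2.1, hi₀o _ ho₂.2.1 ho₂.2.2.1 ho₂.2.2.2.1⟩
  refine ⟨i₀, a, c, hi₀a, S₀.ic, hq₀, fun v hv => ?_⟩
  set v' := v + (-(v d)) • (bv d - (2 * y) • i) + (-(v d')) • (bv d' - (2 * z) • i) with hv'
  have hv'0 : i₀ ⬝ᵥ v' = 0 := by
    rw [hv', dotProduct_add, dotProduct_add, dotProduct_smul, dotProduct_smul, hv, hWd.1, hWd'.1]
    simp
  have hv'd : v' d = 0 := by simp [hv', hd, hdd]
  have hv'd' : v' d' = 0 := by simp [hv', hd', hdd.symm]
  have hv'a : v' a = 0 := by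
    have := hv'0
    rw [hi₀', sub_dotProduct, neg_dotProduct, smul_dotProduct, add_dotProduct, smul_dotProduct,
      smul_dotProduct, bv_dot, bv_dot, bv_dot, hv'd, hv'd'] at this
    simpa using this
  have hW' : InW H i₀ v' := by
    rw [pi_eq_sum_univ' v']
    refine InW.sum hq₀ _ _ fun o _ => ?_
    by_cases ho : o = a ∨ o = d ∨ o = d'
    · rcases ho with rfl | rfl | rfl <;> simp [hv'a, hv'd, hv'd'] <;> exact InW.zero i₀
    · rw [not_or, not_or] at ho
      exact (S₀.bv_mem O h2 (hi₀o o ho.1 ho.2.1 ho.2.2)).smul P hq₀ _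
  have := (hW'.add hq₀ (hWd.smul P hq₀ (v d))).add hq₀ (hWd'.smul P hq₀ (v d'))
  rw [hv'] at this
  convert this.2 using 2
  module

/-- A star gives all Eichler transformations. -/
theorem Star.eichGroup_le [Finite F] (P : PrimeOdd F p) {i : ι → F} {c : ι} (S : Star H i c) :
    eichGroup (sq ι F) ≤ H := by
  classical
  have h2 := P.two_ne
  obtain ⟨i₀, a, o, ha, ho, hF⟩ := S.exists_full O P
  have hoa : o ≠ a := fun e => by rw [e, ha] at ho; exact one_ne_zero (neg_eq_zero.mp ho)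
  set i₁ := (rf (sq ι F) (bv a) * rf (sq ι F) (bv o)).1 i₀ with hi₁
  have hF₁ : Full H i₁ := hF.map h2 (O.pair a o)
  have e₁ : i₁ = i₀ + (2 : F) • bv a := funext fun j => by
    rw [hi₁, coe_mul_apply, rf_bv_apply, rf_bv_apply, rf_bv_apply]
    by_cases hj : j = a
    · subst hj; simp [Ne.symm hoa, ha]; norm_num
    · by_cases hj' : j = o
      · subst hj'; simp [hj, ho]
      · simp [hj, hj']
  have hδ : i₁ ⬝ᵥ i₀ ≠ 0 := by
    rw [e₁, add_dotProduct, ← sq_apply, hF.1, smul_dotProduct, bv_dot, ha]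
    simpa using h2
  have all : ∀ k, sq ι F k = 0 → k ≠ 0 → Full H k := by
    intro k hk hk0
    by_cases h₁ : i₁ ⬝ᵥ k = 0
    swap
    · exact full_of_pair P hF₁ hF hδ hk h₁
    obtain ⟨d, hd⟩ := Function.ne_iff.mp hk0
    by_cases h₀ : i₀ ⬝ᵥ k = 0
    swap
    · exact full_of_pair P hF hF₁ (by rwa [dotProduct_comm]) hk h₀
    set w : ι → F := bv d - (i₁ d / (i₁ ⬝ᵥ i₀)) • i₀ with hw
    have hw₁ : i₁ ⬝ᵥ w = 0 := by
      rw [hw, dotProduct_sub, dotProduct_smul, dot_bv, smul_eq_mul, div_mul_cancel₀ _ hδ, sub_self]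
    set j := (eich (sq ι F) i₁ w).1 i₀ with hj
    have hFj : Full H j := hF.map h2 (hF₁.2 w hw₁)
    have hjk : j ⬝ᵥ k ≠ 0 := by
      have e : j ⬝ᵥ k = 2 * (i₁ ⬝ᵥ i₀) * k d := by
        rw [hj, eich_apply hF₁.1 (polar_zero_of_dot hw₁), polar_sq, polar_sq]
        simp only [sub_dotProduct, add_dotProduct, smul_dotProduct, smul_eq_mul, h₀, h₁, hw,
          bv_dot]
        ring
      rw [e]
      exact mul_ne_zero (mul_ne_zero h2 hδ) hd
    have hij : j ⬝ᵥ i₁ ≠ 0 := by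
      have e := dot_map (eich (sq ι F) i₁ w) h2 i₀ i₁
      rw [eich_apply hF₁.1 (polar_zero_of_dot hw₁) i₁, polar_sq, polar_sq,
        dotProduct_comm w i₁, hw₁, ← sq_apply, hF₁.1] at e
      simp only [mul_zero, zero_smul, sub_zero, add_zero] at e
      rw [hj, e, dotProduct_comm]
      exact hδ
    exact full_of_pair P hFj hF₁ hij hk hjk
  rw [eichGroup, Subgroup.closure_le]
  rintro _ ⟨u, z, hu, hz, rfl⟩
  by_cases hu0 : u = 0
  · subst hu0
    have : eich (sq ι F) (0 : ι → F) z = 1 := orth_ext fun x => by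
      rw [eich_apply hu hz]; simp [polar_zero_left]
    rw [this]; exact one_mem _
  · rw [polar_sq, mul_eq_zero] at hz
    exact (all u hu hu0).2 z (hz.resolve_left h2)

end Cfsg.Agent.ODec24
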